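import Cfsg.Agent.H614.AMod.EightF_m3
import Cfsg.Agent.H882.Ten.Form
import Cfsg.Agent.H926.MinusA
import Cfsg.Agent.H925.OrthType
import Cfsg.Agent.H887.OmegaBridge
import Mathlib.GroupTheory.SpecificGroups.Alternating
import Mathlib.RepresentationTheory.Basic
import Cfsg.Agent.Prune
set_option linter.all false

section
prune_inst 0x7fbfedfffbfdffffdfff7fffa6fecffdf9bb1fffe6fffdcbffe069ff8b9f5382cfe7fb9f8ff070fe1ff6e23410b87843ff7eefffe26fdc7ffffd5ff45ffbee5fe5f7bd0851969c340fbc0fff63f0778e7f3fffffffffffffffffffffffffffbeffbffffffffd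

-- part: H882/Del/Form
section
set_option linter.all false
open scoped Cfsg.Agent.FastGrp

/-!
# Deleted permutation modules with an invariant quadratic form

`Gr Q v a` : `polar Q (v i) (v j) = a` for `i ≠ j`.
-/

set_option autoImplicit false
set_option linter.unusedSectionVars false

namespace Cfsg.Agent.H882.Del

open QuadraticMap hiding proj
open Cfsg.Agent.LieClassical.OrthCore Cfsg.Agent.LieClassical.OrthTrans Cfsg.Agent.LieClassical.OrthFinite
open Cfsg.Agent.H882.Ten
open scoped commutatorElement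

variable {F : Type*} [Field F] {V : Type*} [AddCommGroup V] [Module F V]
variable {ι : Type*} [Fintype ι] [DecidableEq ι] {v : ι → V} {Q : QuadraticForm F V} {a : F}

/-- Equality of two linear combinations. -/
theorem Sys.eq_of_comb (S : Sys F v) {c d : ι → F} (h : ∑ i, c i • v i = ∑ i, d i • v i) {k : ι} (hk : c k = d k) :
    c = d := by
  have h1 : ∑ i, (c i - d i) • v i = 0 := by
    simp only [sub_smul, Finset.sum_sub_distrib, h, sub_self]
  funext i
  have h2 := S.rel h1 i k
  rw [hk, sub_self] at h2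
  exact sub_eq_zero.1 h2

theorem sum_single (c : F) (i : ι) : ∑ j, (Pi.single i c : ι → F) j • v j = c • v i := by
  rw [Finset.sum_eq_single i]
  · rw [Pi.single_eq_same]
  · intro j _ hj; rw [Pi.single_eq_of_ne hj, zero_smul]
  · intro h; exact absurd (Finset.mem_univ i) h

/-- `c v_i = d v_j` -/
theorem Sys.eq_of_smul (S : Sys F v) (h3 : 3 ≤ Fintype.card ι) {i j : ι} {c d : F} (h : c • v i = d • v j) :
    c = d ∧ (c ≠ 0 → i = j) := by
  obtain ⟨k, hki, hkj⟩ : ∃ k : ι, k ≠ i ∧ k ≠ j := by
    by_contra hcon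
    push Not at hcon
    have hsub : (Finset.univ : Finset ι) ⊆ {i, j} := by
      intro k _
      by_cases hk : k = i
      · simp [hk]
      · simp [hcon k hk]
    have := Finset.card_le_card hsub
    rw [Finset.card_univ] at this
    have h5 := Finset.card_le_two (a := i) (b := j)
    omega
  have h1 := S.eq_of_comb (c := Pi.single i c) (d := Pi.single j d) (by rw [sum_single, sum_single, h]) (k := k)
    (by rw [Pi.single_eq_of_ne hki, Pi.single_eq_of_ne hkj])
  by_cases hij : i = j
  · subst hij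
    have := congrFun h1 i
    rw [Pi.single_eq_same, Pi.single_eq_same] at this
    exact ⟨this, fun _ => rfl⟩
  · have h2 := congrFun h1 i
    have h4 := congrFun h1 j
    rw [Pi.single_eq_same, Pi.single_eq_of_ne hij] at h2
    rw [Pi.single_eq_same, Pi.single_eq_of_ne (Ne.symm hij)] at h4
    exact ⟨by rw [h2, ← h4], fun h => absurd h2 h⟩

/-- The inner products `(v i, v j)`, `i ≠ j`, are equal. -/
def Gr (Q : QuadraticForm F V) (v : ι → V) (a : F) : Prop := ∀ i j, i ≠ j → polar Q (v i) (v j) = a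

section

variable (S : Sys F v) (hg : Gr Q v a)

include S hg

theorem gr_self (i : ι) : polar Q (v i) (v i) = -(((Fintype.card ι : F) - 1) * a) := by
  have h1 : ∑ j, polar Q (v i) (v j) = 0 := by
    have h2 : ∀ s : Finset ι, polar Q (v i) (∑ j ∈ s, v j) = ∑ j ∈ s, polar Q (v i) (v j) := by
      intro s
      induction s using Finset.induction_on with
      | empty => simp [QuadraticMap.polar_zero_right]
      | insert b s hb ih => rw [Finset.sum_insert hb, Finset.sum_insert hb, QuadraticMap.polar_add_right, ih]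
    rw [← h2, S.sum, QuadraticMap.polar_zero_right]
  rw [← Finset.add_sum_erase _ _ (Finset.mem_univ i)] at h1
  rw [Finset.sum_congr rfl (g := fun _ => a) (fun j hj => hg i j (Finset.ne_of_mem_erase hj).symm), Finset.sum_const,
    Finset.card_erase_of_mem (Finset.mem_univ i), Finset.card_univ, nsmul_eq_mul] at h1
  have hpos : 1 ≤ Fintype.card ι := by rw [S.card]; omega
  rw [Nat.cast_sub hpos, Nat.cast_one] at h1
  linear_combination h1

theorem polar_map_eq {g : V ≃ₗ[F] V} (h : ∀ i j, polar Q (g (v i)) (g (v j)) = polar Q (v i) (v j)) (x y : V) :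
    polar Q (g x) (g y) = polar Q x y := by
  have h1 : ∀ i, ∀ y, polar Q (g (v i)) (g y) = polar Q (v i) y := by
    intro i y
    have h2 : (polarBilin Q (g (v i))) ∘ₗ (g : V →ₗ[F] V) = polarBilin Q (v i) := S.ext fun j => h i j
    exact LinearMap.congr_fun h2 y
  have h3 : ((polarBilin Q).flip (g y)) ∘ₗ (g : V →ₗ[F] V) = (polarBilin Q).flip y := S.ext fun i => h1 i y
  exact LinearMap.congr_fun h3 x

theorem mem_O_of_gr (h2 : (2 : F) ≠ 0) {g : V ≃ₗ[F] V} {σ : Equiv.Perm ι} {ε : F} (hε : ε = 1 ∨ ε = -1)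
    (h : ∀ i, g (v i) = ε • v (σ i)) : g ∈ O Q := by
  refine mem_O_of_polar h2 (polar_map_eq S hg fun i j => ?_)
  have hεε : ε * ε = 1 := by rcases hε with rfl | rfl <;> simp
  rw [h, h, QuadraticMap.polar_smul_left, QuadraticMap.polar_smul_right, smul_eq_mul, smul_eq_mul, ← mul_assoc, hεε,
    one_mul]
  by_cases hij : i = j
  · subst hij; rw [gr_self S hg, gr_self S hg]
  · rw [hg i j hij, hg _ _ (fun h => hij (σ.injective h))]

theorem SG_le_O (h2 : (2 : F) ≠ 0) : SG F v ≤ O Q := by
  rintro g ⟨σ, ε, hε, h⟩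
  exact mem_O_of_gr S hg h2 hε h

theorem perm_mem_O (h2 : (2 : F) ≠ 0) (σ : Equiv.Perm ι) : S.perm σ ∈ O Q :=
  mem_O_of_gr S hg h2 (Or.inl rfl) (fun i => by rw [S.perm_apply, one_smul])

omit hg in
theorem perm_mem_SG (σ : Equiv.Perm ι) : S.perm σ ∈ SG F v :=
  ⟨σ, 1, Or.inl rfl, fun i => by rw [S.perm_apply, one_smul]⟩

theorem a_ne (hQ : Nondeg Q) : a ≠ 0 := by
  rintro rfl
  obtain ⟨i, j, hij⟩ := S.exists_two
  refine S.ne_zero i (hQ _ fun y => ?_)
  have h1 : polarBilin Q (v i) = 0 := S.ext fun j => by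
    change polar Q (v i) (v j) = 0
    by_cases h : i = j
    · subst h; rw [gr_self S hg, mul_zero, neg_zero]
    · exact hg i j h
  exact LinearMap.congr_fun h1 y

theorem card_ne (hQ : Nondeg Q) (h3 : 3 ≤ Fintype.card ι) : (Fintype.card ι : F) ≠ 0 := by
  intro h0
  obtain ⟨i, j, hij⟩ := S.exists_two
  apply hij
  apply S.injective h3
  rw [← sub_eq_zero]
  refine hQ _ fun y => ?_
  have h1 : polarBilin Q (v i - v j) = 0 := S.ext fun k => by
    change polar Q (v i - v j) (v k) = 0
    have h2 : ∀ i, polar Q (v i) (v k) = a := by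
      intro i
      by_cases h : i = k
      · subst h; rw [gr_self S hg, h0]; ring
      · exact hg i k h
    rw [QuadraticMap.polar_sub_left, h2, h2, sub_self]
  exact LinearMap.congr_fun h1 y

end

section alt

variable (S : Sys F v)

/-- The image of the alternating group. -/
noncomputable def altG (S : Sys F v) : Subgroup (V ≃ₗ[F] V) := (alternatingGroup ι).map S.perm

theorem altG_le_SG : altG S ≤ SG F v := by
  rintro _ ⟨σ, -, rfl⟩
  exact perm_mem_SG S σ


/-- `SG` modulo `± 1` is the symmetric group. -/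
theorem commutator_SG_le : ⁅SG F v, SG F v⁆ ≤ altG S := by
  rw [Subgroup.commutator_le]
  rintro g ⟨σ, ε, hε, h⟩ g' ⟨τ, δ, hδ, h'⟩
  refine ⟨⁅σ, τ⁆, ?_, ?_⟩
  · change ⁅σ, τ⁆ ∈ alternatingGroup ι
    rw [Equiv.Perm.mem_alternatingGroup, commutatorElement_def, map_mul, map_mul, map_mul, map_inv, map_inv]
    rcases Int.units_eq_one_or (Equiv.Perm.sign σ) with h1 | h1 <;>
      rcases Int.units_eq_one_or (Equiv.Perm.sign τ) with h2 | h2 <;> rw [h1, h2] <;> decide
  · have hεε : ε * ε = 1 := by rcases hε with rfl | rfl <;> simp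
    have hδδ : δ * δ = 1 := by rcases hδ with rfl | rfl <;> simp
    have hi : ∀ (g : V ≃ₗ[F] V) (σ : Equiv.Perm ι) (ε : F), ε * ε = 1 → (∀ i, g (v i) = ε • v (σ i)) →
        ∀ i, g⁻¹ (v i) = ε • v (σ⁻¹ i) := by
      intro g σ ε hε h i
      apply g.injective
      have h2 : g (g⁻¹ (v i)) = v i := LinearEquiv.apply_symm_apply g (v i)
      rw [h2, map_smul, h, smul_smul, hε, one_smul]
      exact congrArg v (σ.apply_symm_apply i).symm
    refine S.ext' fun i => ?_
    change S.perm ⁅σ, τ⁆ (v i) = ⁅g, g'⁆ (v i)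
    rw [S.perm_apply, commutatorElement_def]
    change _ = g (g' (g⁻¹ (g'⁻¹ (v i))))
    simp only [hi g' τ δ hδδ h', map_smul, hi g σ ε hεε h, h', h, smul_smul]
    have e1 : δ * (ε * (δ * ε)) = 1 := by linear_combination (ε * ε) * hδδ + hεε
    have e2 : δ * ε * δ * ε = 1 := by linear_combination (ε * ε) * hδδ + hεε
    first
      | rw [e1, one_smul]; rfl
      | rw [e2, one_smul]; rfl

variable (hg : Gr Q v a)

include hg

theorem altG_le_E (h2 : (2 : F) ≠ 0) (hG : Good Q) (h5 : 5 ≤ Fintype.card ι) : altG S ≤ E Q := by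
  have hc : 5 ≤ Nat.card ι := by rwa [Nat.card_eq_fintype_card]
  rw [← hG.commutator_eq_E]
  unfold altG
  rw [← alternatingGroup.commutator_perm_eq hc, commutator_def, Subgroup.map_commutator]
  have h1 : (⊤ : Subgroup (Equiv.Perm ι)).map S.perm ≤ O Q := by
    rintro _ ⟨σ, -, rfl⟩
    exact perm_mem_O S hg h2 σ
  exact Subgroup.commutator_mono h1 h1

end alt

end Cfsg.Agent.H882.Del
end

-- part: H882/Del/Max
section
prune_inst 0x4012000400000000000000010100000440a000100000000000860054200c0820000020000b8b0040010908c444031000810000010002800000000000001180180000012069008a100020000000080000000000000000000000000000000000000000000002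
set_option linter.all false
open scoped Cfsg.Agent.FastGrp

/-!
# Deleted permutation modules: maximality

* `not_E_le_SG`;
* `core_eq` : `H` maximal in `E Q`, `H ≤ SG`, `P` perfect, normal in `H`: then `P` is the image of `Alt ι`;
* `not_maximal` : if `|ι| + 1 = 0` in `F` then no subgroup of `SG` is maximal in `E Q`.
-/

set_option autoImplicit false
set_option linter.unusedSectionVars false

namespace Cfsg.Agent.H882.Del

open QuadraticMap hiding proj
open Cfsg.Agent.LieClassical.OrthCore Cfsg.Agent.LieClassical.OrthTrans Cfsg.Agent.LieClassical.OrthFinite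
open Cfsg.Agent.H882.Ten
open scoped commutatorElement

variable {F : Type*} [Field F] {V : Type*} [AddCommGroup V] [Module F V]
variable {ι : Type*} [Fintype ι] [DecidableEq ι] {v : ι → V} {Q : QuadraticForm F V} {a : F}

theorem exists_not_mem (s : Finset ι) (h : s.card < Fintype.card ι) : ∃ k, k ∉ s := by
  by_contra hcon
  push Not at hcon
  have := Finset.card_le_card (fun x _ => hcon x : (Finset.univ : Finset ι) ⊆ s)
  rw [Finset.card_univ] at this
  omega

/-- Two vectors `v i ± u` of the same norm as `v i`. -/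
theorem exists_move [Finite F] (hG : Good Q) (i : ι) (hv : v i ≠ 0) :
    ∃ u : V, (∀ c : F, u ≠ c • v i) ∧ (∃ g ∈ E Q, g (v i) = v i + u) ∧ ∃ g ∈ E Q, g (v i) = v i - u := by
  obtain ⟨y, hy⟩ := hG.nondeg.exists_polar_ne hv
  obtain ⟨u, hu0, hu, hperp⟩ := exists_sing_perp (Q := Q) ![v i, y] (by have := hG.dim; omega)
  have h1 : polar Q (v i) u = 0 := hperp 0
  have h2 : polar Q y u = 0 := hperp 1
  have h3 : ∀ c : F, u ≠ c • v i := by
    intro c hc
    rw [hc, QuadraticMap.polar_smul_right, smul_eq_mul, QuadraticMap.polar_comm] at h2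
    rcases mul_eq_zero.1 h2 with h | h
    · rw [h, zero_smul] at hc; exact hu0 hc
    · exact hy h
  refine ⟨u, h3, ?_, ?_⟩
  · refine hG.trans_norm hv ?_ ?_
    · intro h
      exact h3 (-1) (by rw [neg_one_smul]; exact eq_neg_of_add_eq_zero_right h)
    · rw [Q_add, h1, hu]; ring
  · refine hG.trans_norm hv ?_ ?_
    · intro h
      exact h3 1 (by rw [one_smul]; exact (sub_eq_zero.1 h).symm)
    · rw [sub_eq_add_neg, Q_add, QuadraticMap.polar_neg_right, h1, QuadraticMap.map_neg, hu]; ring

section main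

variable [Finite F] (S : Sys F v) (hg : Gr Q v a) (h2 : (2 : F) ≠ 0) (hG : Good Q)

include S h2 hG

theorem not_E_le_SG (h6 : 6 ≤ Fintype.card ι) : ¬ E Q ≤ SG F v := by
  intro hle
  obtain ⟨i, -, -⟩ := S.exists_two
  obtain ⟨u, hu, ⟨g, hgE, hg1⟩, ⟨g', hgE', hg1'⟩⟩ := exists_move hG i (S.ne_zero i)
  obtain ⟨σ, ε, -, h⟩ := hle hgE
  obtain ⟨τ, δ, -, h'⟩ := hle hgE'
  replace h := h i
  replace h' := h' i
  rw [hg1] at h
  rw [hg1'] at h'
  have hj : σ i ≠ i := by
    intro hj
    rw [hj] at h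
    exact hu (ε - 1) (by rw [sub_smul, one_smul]; exact eq_sub_of_add_eq' h)
  have hk : τ i ≠ i := by
    intro hk
    rw [hk] at h'
    exact hu (1 - δ) (by rw [sub_smul, one_smul, ← h']; abel)
  obtain ⟨l, hl⟩ := exists_not_mem {i, σ i, τ i} (lt_of_le_of_lt Finset.card_le_three (by omega))
  simp only [Finset.mem_insert, Finset.mem_singleton, not_or] at hl
  have h3 := S.eq_of_comb (c := Pi.single i 2) (d := Pi.single (σ i) ε + Pi.single (τ i) δ) (by
    simp only [Pi.add_apply, add_smul, Finset.sum_add_distrib]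
    rw [sum_single, sum_single, sum_single, ← h, ← h', two_smul]
    abel) (k := l) (by
    rw [Pi.add_apply, Pi.single_eq_of_ne hl.1, Pi.single_eq_of_ne hl.2.1, Pi.single_eq_of_ne hl.2.2, add_zero])
  have h4 := congrFun h3 i
  rw [Pi.add_apply, Pi.single_eq_same, Pi.single_eq_of_ne hj.symm, Pi.single_eq_of_ne hk.symm, add_zero] at h4
  exact h2 h4

include hg

/-- **The core of a maximal subgroup contained in `SG`.** -/
theorem core_eq (h6 : 6 ≤ Fintype.card ι) {H P : Subgroup (V ≃ₗ[F] V)} (hH : Cfsg.Geo.IsMaximalIn (E Q) H)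
    (hHS : H ≤ SG F v) (hPH : P ≤ H) (hn : ∀ h ∈ H, ∀ x ∈ P, h * x * h⁻¹ ∈ P) (hp : ⁅P, P⁆ = P) (hne : P ≠ ⊥) :
    P = altG S := by
  have hK : SG F v ⊓ E Q = H := by
    rcases hH.2 (SG F v ⊓ E Q) (le_inf hHS hH.1.le) inf_le_right with h | h
    · exact h
    · exact absurd (inf_eq_right.1 h) (not_E_le_SG S h2 hG h6)
  have hAH : altG S ≤ H := by
    rw [← hK]
    exact le_inf (altG_le_SG S) (altG_le_E S hg h2 hG (by omega))
  have hPA : P ≤ altG S := by
    rw [← hp]
    exact (Subgroup.commutator_mono (hPH.trans hHS) (hPH.trans hHS)).trans (commutator_SG_le S)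
  refine le_antisymm hPA ?_
  let f : alternatingGroup ι →* (V ≃ₗ[F] V) := S.perm.comp (alternatingGroup ι).subtype
  have hf : ∀ σ, f σ ∈ altG S := fun σ => ⟨σ, σ.2, rfl⟩
  have hN : (P.comap f).Normal := by
    constructor
    intro n hn' g
    rw [Subgroup.mem_comap, map_mul, map_mul, map_inv]
    exact hn _ (hAH (hf g)) _ hn'
  have hs : IsSimpleGroup (alternatingGroup ι) :=
    alternatingGroup.isSimpleGroup (by rw [Nat.card_eq_fintype_card]; omega)
  rcases hs.eq_bot_or_eq_top_of_normal _ hN with h | h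
  · exfalso
    apply hne
    rw [Subgroup.eq_bot_iff_forall]
    intro x hx
    obtain ⟨σ, hσ, rfl⟩ := hPA hx
    have h1 : (⟨σ, hσ⟩ : alternatingGroup ι) ∈ P.comap f := hx
    rw [h, Subgroup.mem_bot] at h1
    have h3 : σ = 1 := congrArg Subtype.val h1
    rw [h3, map_one]
  · rintro _ ⟨σ, hσ, rfl⟩
    have h1 : (⟨σ, hσ⟩ : alternatingGroup ι) ∈ P.comap f := by rw [h]; trivial
    exact h1

end main

/-- `altG` is the alternating group. -/
theorem altG_equiv (S : Sys F v) (h3 : 3 ≤ Fintype.card ι) {m : ℕ} (hm : Fintype.card ι = m) :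
    Nonempty (altG S ≃* alternatingGroup (Fin m)) := by
  let e1 : alternatingGroup ι ≃* altG S := (alternatingGroup ι).equivMapOfInjective S.perm (S.perm_injective h3)
  let e2 : ι ≃ Fin m := Fintype.equivFinOfCardEq hm
  exact ⟨e1.symm.trans e2.altCongrHom⟩

/-! ### The root system `A_m` -/

/-- The roots. -/
def rts (F : Type*) [Field F] {V : Type*} [AddCommGroup V] [Module F V] {ι : Type*} (v : ι → V) : Set V :=
  {x | (∃ (i : ι) (ε : F), (ε = 1 ∨ ε = -1) ∧ x = ε • v i) ∨ ∃ i j, i ≠ j ∧ x = v i - v j}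

theorem rts_neg {x : V} (hx : x ∈ rts F v) : -x ∈ rts F v := by
  rcases hx with ⟨i, ε, hε, rfl⟩ | ⟨i, j, hij, rfl⟩
  · refine Or.inl ⟨i, -ε, ?_, by rw [neg_smul]⟩
    rcases hε with rfl | rfl
    · right; rfl
    · left; rw [neg_neg]
  · exact Or.inr ⟨j, i, hij.symm, by rw [neg_sub]⟩

theorem rts_smul {x : V} (hx : x ∈ rts F v) {ε : F} (hε : ε = 1 ∨ ε = -1) : ε • x ∈ rts F v := by
  rcases hε with rfl | rfl
  · rwa [one_smul]
  · rw [neg_one_smul]; exact rts_neg hx

/-- The stabiliser of the roots. -/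
def stabR (Q : QuadraticForm F V) (v : ι → V) : Subgroup (V ≃ₗ[F] V) where
  carrier := {g | g ∈ O Q ∧ ∀ x, x ∈ rts F v ↔ g x ∈ rts F v}
  one_mem' := ⟨(O Q).one_mem, fun _ => Iff.rfl⟩
  mul_mem' ha hb := ⟨(O Q).mul_mem ha.1 hb.1, fun x => (hb.2 x).trans (ha.2 _)⟩
  inv_mem' {a} ha := ⟨(O Q).inv_mem ha.1, fun x => by
    have h2 : a (a⁻¹ x) = x := LinearEquiv.apply_symm_apply a x
    have h := ha.2 (a⁻¹ x)
    rw [h2] at h
    exact h.symm⟩

theorem mem_stabR_of {g : V ≃ₗ[F] V} (hg : g ∈ O Q) (h1 : ∀ x ∈ rts F v, g x ∈ rts F v)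
    (h2 : ∀ x ∈ rts F v, g⁻¹ x ∈ rts F v) : g ∈ stabR Q v := by
  refine ⟨hg, fun x => ⟨h1 x, fun h => ?_⟩⟩
  have := h2 _ h
  have h3 : g⁻¹ (g x) = x := LinearEquiv.symm_apply_apply g x
  rwa [h3] at this

theorem SG_map_rts {g : V ≃ₗ[F] V} (hg : g ∈ SG F v) {x : V} (hx : x ∈ rts F v) : g x ∈ rts F v := by
  obtain ⟨σ, ε, hε, h⟩ := hg
  rcases hx with ⟨i, δ, hδ, rfl⟩ | ⟨i, j, hij, rfl⟩
  · rw [map_smul, h, smul_comm]
    exact rts_smul (Or.inl ⟨σ i, δ, hδ, rfl⟩) hε
  · rw [map_sub, h, h, ← smul_sub]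
    exact rts_smul (Or.inr ⟨σ i, σ j, fun h => hij (σ.injective h), rfl⟩) hε

theorem sum_sub_single (i j : ι) :
    ∑ l, (Pi.single i (1 : F) - Pi.single j (1 : F) : ι → F) l • v l = v i - v j := by
  simp only [Pi.sub_apply, sub_smul, Finset.sum_sub_distrib]
  rw [sum_single, sum_single, one_smul, one_smul]

theorem rts_coeff (hn : (1 : F) ≠ -1) {x : V} (hx : x ∈ rts F v) :
    ∃ c : ι → F, x = ∑ i, c i • v i ∧ (∃ j k, ∀ l, l ≠ j → l ≠ k → c l = 0) ∧
      (∀ l, c l = 0 ∨ c l = 1 ∨ c l = -1) ∧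
      ∀ i, c i = 1 → c = Pi.single i 1 ∨ ∃ j, j ≠ i ∧ c = Pi.single i 1 - Pi.single j 1 := by
  rcases hx with ⟨i, ε, hε, rfl⟩ | ⟨i, j, hij, rfl⟩
  · refine ⟨Pi.single i ε, (sum_single ε i).symm, ⟨i, i, fun l hl _ => Pi.single_eq_of_ne hl _⟩, fun l => ?_, fun k hk => ?_⟩
    · by_cases h : l = i
      · subst h; rw [Pi.single_eq_same]; exact Or.inr hε
      · exact Or.inl (Pi.single_eq_of_ne h _)
    · by_cases h : k = i
      · subst h
        rw [Pi.single_eq_same] at hk
        rw [hk]; exact Or.inl rfl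
      · rw [Pi.single_eq_of_ne h] at hk
        exact absurd hk zero_ne_one
  · refine ⟨Pi.single i 1 - Pi.single j 1, (sum_sub_single i j).symm, ⟨i, j, fun l hl hl' => ?_⟩, fun l => ?_,
      fun k hk => ?_⟩
    · rw [Pi.sub_apply, Pi.single_eq_of_ne hl, Pi.single_eq_of_ne hl', sub_zero]
    · by_cases h : l = i
      · subst h
        rw [Pi.sub_apply, Pi.single_eq_same, Pi.single_eq_of_ne hij, sub_zero]
        exact Or.inr (Or.inl rfl)
      · by_cases h' : l = j
        · subst h'
          rw [Pi.sub_apply, Pi.single_eq_same, Pi.single_eq_of_ne h, zero_sub]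
          exact Or.inr (Or.inr rfl)
        · rw [Pi.sub_apply, Pi.single_eq_of_ne h, Pi.single_eq_of_ne h', sub_zero]
          exact Or.inl rfl
    · by_cases h : k = i
      · subst h
        exact Or.inr ⟨j, hij.symm, rfl⟩
      · exfalso
        by_cases h' : k = j
        · subst h'
          rw [Pi.sub_apply, Pi.single_eq_same, Pi.single_eq_of_ne h, zero_sub] at hk
          exact hn hk.symm
        · rw [Pi.sub_apply, Pi.single_eq_of_ne h, Pi.single_eq_of_ne h', sub_zero] at hk
          exact zero_ne_one hk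

section nm

variable [Finite F] (S : Sys F v) (hg : Gr Q v a) (h2 : (2 : F) ≠ 0) (hG : Good Q)

include S h2 hG

theorem not_E_le_stabR (h3 : (3 : F) ≠ 0) (h6 : 6 ≤ Fintype.card ι) : ¬ E Q ≤ stabR Q v := by
  intro hle
  have hn : (1 : F) ≠ -1 := by
    intro h
    apply h2
    linear_combination h
  obtain ⟨i, -, -⟩ := S.exists_two
  obtain ⟨u, hu, ⟨g, hgE, hg1⟩, ⟨g', hgE', hg1'⟩⟩ := exists_move hG i (S.ne_zero i)
  have hvi : v i ∈ rts F v := Or.inl ⟨i, 1, Or.inl rfl, by rw [one_smul]⟩
  have h4 := ((hle hgE).2 _).1 hvi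
  have h5 := ((hle hgE').2 _).1 hvi
  rw [hg1] at h4
  rw [hg1'] at h5
  obtain ⟨c, hc, ⟨j, k, hjk⟩, hc1, hc2⟩ := rts_coeff hn h4
  obtain ⟨d, hd, ⟨j', k', hjk'⟩, hd1, hd2⟩ := rts_coeff hn h5
  obtain ⟨l, hl⟩ := exists_not_mem {i, j, k, j', k'} (lt_of_le_of_lt Finset.card_le_five (by omega))
  simp only [Finset.mem_insert, Finset.mem_singleton, not_or] at hl
  have h7 := S.eq_of_comb (c := Pi.single i 2) (d := c + d) (by
    simp only [Pi.add_apply, add_smul, Finset.sum_add_distrib]
    rw [sum_single, ← hc, ← hd, two_smul]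
    abel) (k := l) (by
    rw [Pi.add_apply, Pi.single_eq_of_ne hl.1, hjk l hl.2.1 hl.2.2.1, hjk' l hl.2.2.2.1 hl.2.2.2.2, add_zero])
  have h8 := congrFun h7 i
  rw [Pi.add_apply, Pi.single_eq_same] at h8
  have hci : c i = 1 ∧ d i = 1 := by
    rcases hc1 i with h | h | h <;> rcases hd1 i with h' | h' | h' <;> rw [h, h'] at h8
    · exact absurd (by linear_combination h8) h2
    · exact absurd (by linear_combination h8) (one_ne_zero (α := F))
    · exact absurd (by linear_combination h8) h3
    · exact absurd (by linear_combination h8) (one_ne_zero (α := F))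
    · exact ⟨h, h'⟩
    · exact absurd (by linear_combination h8) h2
    · exact absurd (by linear_combination h8) h3
    · exact absurd (by linear_combination h8) h2
    · exfalso
      have h9 : (2 : F) * 2 = 0 := by linear_combination h8
      rcases mul_eq_zero.1 h9 with h | h <;> exact h2 h
  rcases hc2 i hci.1 with h | ⟨m, hm, h⟩
  · rw [h, sum_single, one_smul] at hc
    apply hu 0
    rw [zero_smul]
    exact left_eq_add.1 hc.symm
  · have h9 := congrFun h7 m
    rw [Pi.add_apply, h, Pi.sub_apply, Pi.single_eq_same, Pi.single_eq_of_ne hm, Pi.single_eq_of_ne hm, zero_sub] at h9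
    rcases hd2 i hci.2 with h' | ⟨m', hm', h'⟩
    · rw [h', Pi.single_eq_of_ne hm, add_zero] at h9
      exact one_ne_zero (α := F) (by linear_combination h9)
    · rw [h', Pi.sub_apply, Pi.single_eq_of_ne hm] at h9
      by_cases hmm : m = m'
      · subst hmm
        rw [Pi.single_eq_same] at h9
        exact h2 (by linear_combination h9)
      · rw [Pi.single_eq_of_ne hmm] at h9
        exact one_ne_zero (α := F) (by linear_combination h9)

include hg

/-- If `|ι| + 1 = 0` in `F` then no maximal subgroup of `E Q` is contained in `SG`. -/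
theorem not_maximal (h3 : (3 : F) ≠ 0) (h6 : 6 ≤ Fintype.card ι) (hm : (Fintype.card ι : F) + 1 = 0)
    {H : Subgroup (V ≃ₗ[F] V)} (hH : Cfsg.Geo.IsMaximalIn (E Q) H) : ¬ H ≤ SG F v := by
  intro hHS
  have ha : a ≠ 0 := a_ne S hg hG.nondeg
  have hcard : (Fintype.card ι : F) = -1 := by linear_combination hm
  have hself : ∀ i, polar Q (v i) (v i) = 2 * a := by
    intro i
    rw [gr_self S hg, hcard]; ring
  have hQv : ∀ i, Q (v i) = a := by
    intro i
    have h := hself i
    rw [polar_self'] at h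
    exact mul_left_cancel₀ h2 h
  have hQv' : ∀ i, Q (v i) ≠ 0 := fun i => by rw [hQv]; exact ha
  have hr1 : ∀ k, refl Q (v k) (hQv' k) (v k) = -v k := by
    intro k
    rw [refl_apply, hself, hQv]
    have e : a⁻¹ * (2 * a) = 2 := by field_simp
    rw [e, two_smul]; abel
  have hr2 : ∀ k i, k ≠ i → refl Q (v k) (hQv' k) (v i) = v i - v k := by
    intro k i hki
    rw [refl_apply, hg k i hki, hQv, inv_mul_cancel₀ ha, one_smul]
  have hmap : ∀ k, ∀ x ∈ rts F v, refl Q (v k) (hQv' k) x ∈ rts F v := by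
    intro k x hx
    rcases hx with ⟨i, ε, hε, rfl⟩ | ⟨i, j, hij, rfl⟩
    · rw [map_smul]
      refine rts_smul ?_ hε
      by_cases h : k = i
      · subst h
        rw [hr1]
        exact Or.inl ⟨k, -1, Or.inr rfl, by rw [neg_one_smul]⟩
      · rw [hr2 k i h]
        exact Or.inr ⟨i, k, Ne.symm h, rfl⟩
    · rw [map_sub]
      by_cases h : k = i
      · subst h
        rw [hr1, hr2 k j hij]
        refine Or.inl ⟨j, -1, Or.inr rfl, ?_⟩
        rw [neg_one_smul]; abel
      · by_cases h' : k = j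
        · subst h'
          rw [hr1, hr2 k i h]
          refine Or.inl ⟨i, 1, Or.inl rfl, ?_⟩
          rw [one_smul]; abel
        · rw [hr2 k i h, hr2 k j h']
          refine Or.inr ⟨i, j, hij, ?_⟩
          abel
  have hrefl : ∀ k, refl Q (v k) (hQv' k) ∈ stabR Q v := fun k =>
    mem_stabR_of (refl_mem_O _) (hmap k) (by rw [refl_inv]; exact hmap k)
  have hSG : SG F v ≤ stabR Q v := fun g hg' =>
    mem_stabR_of (SG_le_O S hg h2 hg') (fun x hx => SG_map_rts hg' hx) (fun x hx => SG_map_rts (inv_mem hg') hx)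
  have h1 : H ≤ stabR Q v ⊓ E Q := le_inf (hHS.trans hSG) hH.1.le
  obtain ⟨i, j, hij⟩ := S.exists_two
  have hne : refl Q (v j) (hQv' j) * refl Q (v i) (hQv' i) ∈ stabR Q v ⊓ E Q :=
    ⟨mul_mem (hrefl j) (hrefl i), hG.refl_mul_refl_mem (hQv' i) (hQv' j) (by rw [hQv, hQv])⟩
  rcases hH.2 _ h1 inf_le_right with h | h
  · rw [h] at hne
    obtain ⟨σ, ε, -, hσ⟩ := hHS hne
    obtain ⟨k, hk⟩ := exists_not_mem {i, j} (lt_of_le_of_lt Finset.card_le_two (by omega))
    simp only [Finset.mem_insert, Finset.mem_singleton, not_or] at hk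
    have h4 := hσ k
    change refl Q (v j) (hQv' j) (refl Q (v i) (hQv' i) (v k)) = _ at h4
    rw [hr2 i k (Ne.symm hk.1), map_sub, hr2 j k (Ne.symm hk.2), hr2 j i (Ne.symm hij)] at h4
    have h5 : v k - v i = ε • v (σ k) := by rw [← h4]; abel
    obtain ⟨l, hl⟩ := exists_not_mem {k, i, σ k} (lt_of_le_of_lt Finset.card_le_three (by omega))
    simp only [Finset.mem_insert, Finset.mem_singleton, not_or] at hl
    have h7 := S.eq_of_comb (c := Pi.single k 1 - Pi.single i 1) (d := Pi.single (σ k) ε) (by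
      rw [sum_sub_single, sum_single, h5]) (k := l) (by
      rw [Pi.sub_apply, Pi.single_eq_of_ne hl.1, Pi.single_eq_of_ne hl.2.1, Pi.single_eq_of_ne hl.2.2, sub_zero])
    have h8 := congrFun h7 k
    have h9 := congrFun h7 i
    rw [Pi.sub_apply, Pi.single_eq_same, Pi.single_eq_of_ne hk.1, sub_zero] at h8
    rw [Pi.sub_apply, Pi.single_eq_same, Pi.single_eq_of_ne (Ne.symm hk.1), zero_sub] at h9
    by_cases hσk : σ k = k
    · rw [hσk, Pi.single_eq_of_ne (Ne.symm hk.1)] at h9
      exact one_ne_zero (α := F) (by linear_combination -h9)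
    · rw [Pi.single_eq_of_ne (Ne.symm hσk)] at h8
      exact one_ne_zero h8
  · exact not_E_le_stabR S h2 hG h3 h6 (inf_eq_right.1 h)

end nm

end Cfsg.Agent.H882.Del
end

-- part: H114/TyTwo
section
prune_inst 0x4000000002000000000000580030000240000009000000000600002060a0101008042010000000000000880802000000000000080000000000a000000000001000000020080080000000000000000000000000000000000000000000000000004000000000
set_option linter.all false
open scoped Cfsg.Agent.FastGrp

/-!
# The type of a quadratic form in characteristic two from an isometry of odd prime order (helper114)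

* `sum_psi` : plus type, `n = 2 m` ⟹ `∑ ψ (Q v) = |F| ^ m` (`ψ` a nontrivial additive character with values in a field of
  odd characteristic);
* `sum_eq_fixed` : an isometry `g` with `g ^ r = 1`: the sum is congruent mod `r` to the sum over the fixed vectors;
* `pow_eq_one_of_free` : plus type, no fixed vectors ⟹ `|F| ^ m = 1` mod `r`;
* `ne_aniso` : plus type, the fixed space an anisotropic plane ⟹ `|F| ^ m = - |F|` mod `r`.
-/

set_option autoImplicit false
set_option linter.unusedSectionVars false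

namespace Cfsg.Agent.H114.Ty

open Cfsg.Geo Matrix Module

section Sum

variable {ι : Type} [Fintype ι] [DecidableEq ι] {F : Type*} [Field F] [Fintype F]
  {R : Type*} [Field R] (ψ : AddChar F R)

theorem sum_linear (hψ : ψ ≠ 1) {U : Submodule F (ι → F)} (f : U →ₗ[F] F) (hf : f ≠ 0) [Fintype U] :
    ∑ u : U, ψ (f u) = 0 := by
  classical
  have h1 : ψ.compAddMonoidHom f.toAddMonoidHom ≠ 1 := by
    intro h
    apply hψ
    obtain ⟨u, hu⟩ : ∃ u, f u ≠ 0 := by
      by_contra hcon
      push Not at hcon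
      exact hf (LinearMap.ext hcon)
    ext x
    have h2 := DFunLike.congr_fun h ((x / f u) • u)
    rw [AddChar.compAddMonoidHom_apply] at h2
    have h3 : f.toAddMonoidHom ((x / f u) • u) = x := by
      change f ((x / f u) • u) = x
      rw [map_smul, smul_eq_mul, div_mul_cancel₀ _ hu]
    rw [h3] at h2
    rw [h2, AddChar.one_apply, AddChar.one_apply]
  exact AddChar.sum_eq_zero_of_ne_one h1

theorem sum_psi (hψ : ψ ≠ 1) (hR : (Fintype.card F : R) ≠ 0) {Q : (ι → F) → F} (hQ : IsNondegenerateQuadraticForm Q)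
    (hplus : IsPlusTypeOn Q ⊤) {m : ℕ} (hm : Fintype.card ι = 2 * m) :
    ∑ v : ι → F, ψ (Q v) = (Fintype.card F : R) ^ m := by
  classical
  obtain ⟨U, hU, hUd⟩ := H925.exists_half hplus
  have hUm : finrank F U = m := by omega
  have hcardU : Fintype.card U = Fintype.card F ^ m := by
    rw [Module.card_eq_pow_finrank (K := F), hUm]
  have hUR : (Fintype.card U : R) ≠ 0 := by
    rw [hcardU, Nat.cast_pow]
    exact pow_ne_zero _ hR
  -- the polar form is zero on U
  have hB := hQ.polar_bilinear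
  have hUU : ∀ u ∈ U, ∀ w ∈ U, QuadraticMap.polar Q u w = 0 := by
    intro u hu w hw
    unfold QuadraticMap.polar
    rw [hU _ (U.add_mem hu hw), hU _ hu, hU _ hw, sub_zero, sub_zero]
  have hperp : ∀ v, (∀ u ∈ U, QuadraticMap.polar Q v u = 0) → v ∈ U := by
    have hnd : (Cfsg.Agent.H922.toBilin hB).Nondegenerate := Cfsg.Agent.H922.toBilin_nondegenerate hB hQ.nondegenerate
    have h1 := LinearMap.BilinForm.finrank_orthogonal hnd U
    have hle : U ≤ (Cfsg.Agent.H922.toBilin hB).orthogonal U := by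
      intro w hw
      rw [LinearMap.BilinForm.mem_orthogonal_iff]
      intro u hu
      exact hUU u hu w hw
    have h2 : finrank F (ι → F) = 2 * m := by rw [finrank_fintype_fun_eq_card, hm]
    have heq : U = (Cfsg.Agent.H922.toBilin hB).orthogonal U := by
      apply Submodule.eq_of_le_of_finrank_le hle
      rw [h1, h2, hUm]
      omega
    intro v hv
    rw [heq, LinearMap.BilinForm.mem_orthogonal_iff]
    intro u hu
    change QuadraticMap.polar Q u v = 0
    rw [QuadraticMap.polar_comm]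
    exact hv u hu
  have h1 : ∀ v : ι → F, ∑ u : U, ψ (Q (v + u)) = if v ∈ U then (Fintype.card U : R) else 0 := by
    intro v
    have h2 : ∀ u : U, ψ (Q (v + u)) = ψ (Q v) * ψ (QuadraticMap.polar Q v u) := by
      intro u
      rw [← AddChar.map_add_eq_mul]
      congr 1
      unfold QuadraticMap.polar
      rw [hU _ u.2]
      ring
    rw [Finset.sum_congr rfl fun u _ => h2 u, ← Finset.mul_sum]
    let f : U →ₗ[F] F := (Cfsg.Agent.H922.toBilin hB v).comp U.subtype
    have h3 : ∀ u : U, f u = QuadraticMap.polar Q v u := fun u => rfl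
    split_ifs with h
    · have h4 : ∀ u : U, ψ (QuadraticMap.polar Q v u) = 1 := by
        intro u
        rw [hUU v h u u.2, AddChar.map_zero_eq_one]
      rw [Finset.sum_congr rfl fun u _ => h4 u, hU v h, AddChar.map_zero_eq_one, one_mul, Finset.sum_const,
        Finset.card_univ, nsmul_eq_mul, mul_one]
    · have h4 : f ≠ 0 := by
        intro h5
        apply h
        apply hperp
        intro u hu
        have := DFunLike.congr_fun h5 ⟨u, hu⟩
        exact this
      have h5 := sum_linear ψ hψ f h4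
      rw [Finset.sum_congr rfl (g := fun u => ψ (f u)) fun u _ => by rw [h3], h5, mul_zero]
  have h2 : ∑ v : ι → F, ∑ u : U, ψ (Q (v + u)) = (Fintype.card U : R) * ∑ v : ι → F, ψ (Q v) := by
    rw [Finset.sum_comm]
    have h3 : ∀ u : U, ∑ v : ι → F, ψ (Q (v + u)) = ∑ v : ι → F, ψ (Q v) := fun u =>
      Equiv.sum_comp (Equiv.addRight (u : ι → F)) fun v => ψ (Q v)
    rw [Finset.sum_congr rfl fun u _ => h3 u, Finset.sum_const, Finset.card_univ, nsmul_eq_mul]
  rw [Finset.sum_congr rfl fun v _ => h1 v, Finset.sum_ite, Finset.sum_const_zero, add_zero, Finset.sum_const,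
    nsmul_eq_mul] at h2
  have h3 : (Finset.univ.filter fun v : ι → F => v ∈ U).card = Fintype.card U := (Fintype.card_subtype _).symm
  rw [h3] at h2
  have h4 := mul_left_cancel₀ hUR h2
  rw [← h4, hcardU, Nat.cast_pow]

end Sum

section Fixed

variable {ι : Type} [Fintype ι] [DecidableEq ι] {F : Type*} [Field F] [Fintype F]

theorem sum_eq_fixed {r : ℕ} [hr : Fact r.Prime] {X : Type*} [Fintype X] (g : Equiv.Perm X) (hg : g ^ r = 1)
    [DecidableEq X] {Y : Type*} [Fintype Y] [DecidableEq Y] (q : X → Y) (hq : ∀ x, q (g x) = q x) (f : Y → ZMod r) :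
    ∑ x : X, f (q x) = ∑ x ∈ Finset.univ.filter (fun x => g x = x), f (q x) := by
  classical
  have h1 : ∀ (s : Finset X), ∑ x ∈ s, f (q x) = ∑ y : Y, ((s.filter fun x => q x = y).card : ZMod r) * f y := by
    intro s
    rw [← Finset.sum_fiberwise s q fun x => f (q x)]
    refine Finset.sum_congr rfl fun y _ => ?_
    rw [Finset.sum_congr rfl fun x hx => by rw [(Finset.mem_filter.1 hx).2], Finset.sum_const, nsmul_eq_mul]
  rw [h1, h1]
  refine Finset.sum_congr rfl fun y _ => ?_
  congr 1
  -- the fibre with the action of the cyclic group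
  let Z := {x : X // q x = y}
  let g' : Equiv.Perm Z := g.subtypePerm (fun x => by rw [hq])
  have hg' : g' ^ r = 1 := by
    ext x
    have h2 : ((g' ^ r) x : X) = (g ^ r) x := by
      rw [Equiv.Perm.subtypePerm_pow]
      rfl
    rw [h2, hg]
    rfl
  let C := Subgroup.zpowers g'
  have hC : IsPGroup r C := by
    rw [IsPGroup.iff_orderOf]
    rintro ⟨c, hc⟩
    obtain ⟨n, rfl⟩ := Subgroup.mem_zpowers_iff.1 hc
    have h3 : (⟨g' ^ n, hc⟩ : C) ^ r = 1 := by
      apply Subtype.ext
      change (g' ^ n) ^ r = 1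
      rw [← zpow_natCast, ← _root_.zpow_mul, mul_comm, _root_.zpow_mul, zpow_natCast, hg', _root_.one_zpow]
    have h4 := orderOf_dvd_of_pow_eq_one h3
    rcases (Nat.dvd_prime hr.out).1 h4 with h5 | h5
    · exact ⟨0, by rw [h5, pow_zero]⟩
    · exact ⟨1, by rw [h5, pow_one]⟩
  have h2 := hC.card_modEq_card_fixedPoints Z
  have h3 : Nat.card Z = (Finset.univ.filter fun x : X => q x = y).card := by
    rw [Nat.card_eq_fintype_card, Fintype.card_subtype]
  have h4 : Nat.card (MulAction.fixedPoints C Z) =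
      ((Finset.univ.filter fun x : X => g x = x).filter fun x => q x = y).card := by
    rw [Finset.filter_filter, ← Fintype.card_subtype, ← Nat.card_eq_fintype_card]
    refine Nat.card_congr ?_
    refine
      { toFun := fun z => ⟨z.1.1, ?_, z.1.2⟩
        invFun := fun x => ⟨⟨x.1, x.2.2⟩, ?_⟩
        left_inv := fun z => rfl
        right_inv := fun x => rfl }
    · have h5 := z.2 ⟨g', Subgroup.mem_zpowers g'⟩
      exact congrArg Subtype.val h5
    · rintro ⟨c, hc⟩
      obtain ⟨n, rfl⟩ := Subgroup.mem_zpowers_iff.1 hc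
      have h6 : g' ⟨x.1, x.2.2⟩ = ⟨x.1, x.2.2⟩ := Subtype.ext x.2.1
      change (g' ^ n) _ = _
      exact Equiv.Perm.zpow_apply_eq_self_of_apply_eq_self h6 n
  rw [← h3, ← h4]
  exact (ZMod.natCast_eq_natCast_iff _ _ _).2 h2

/-- a nontrivial additive character with values in `ZMod r`, `r` odd -/
theorem exists_char [CharP F 2] {r : ℕ} [hr : Fact r.Prime] (h2 : r ≠ 2) : ∃ ψ : AddChar F (ZMod r), ψ ≠ 1 ∧
    ∀ x, ψ x = 1 ∨ ψ x = -1 := by
  have : Algebra (ZMod 2) F := ZMod.algebra F 2
  obtain ⟨φ, hφ⟩ : ∃ φ : F →ₗ[ZMod 2] ZMod 2, φ 1 ≠ 0 := by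
    by_contra hcon
    push Not at hcon
    exact one_ne_zero ((Module.forall_dual_apply_eq_zero_iff (ZMod 2) (1 : F)).1 hcon)
  let χ : AddChar (ZMod 2) (ZMod r) := AddChar.zmodChar 2 (ζ := (-1 : ZMod r)) (by norm_num)
  have hne : (-1 : ZMod r) ≠ 1 := by
    intro h
    have h3 : ((2 : ℕ) : ZMod r) = 0 := by
      push_cast
      linear_combination -h
    rw [ZMod.natCast_eq_zero_iff] at h3
    exact h2 ((Nat.prime_dvd_prime_iff_eq hr.out Nat.prime_two).1 h3)
  have hχ1 : χ 1 = (-1 : ZMod r) := by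
    change (-1 : ZMod r) ^ (ZMod.val (1 : ZMod 2)) = -1
    rw [ZMod.val_one, pow_one]
  refine ⟨χ.compAddMonoidHom φ.toAddMonoidHom, ?_, ?_⟩
  · intro h
    have h3 := DFunLike.congr_fun h 1
    rw [AddChar.compAddMonoidHom_apply, AddChar.one_apply] at h3
    have h4 : φ 1 = 1 := by
      have h5 : ∀ x : ZMod 2, x ≠ 0 → x = 1 := by decide
      exact h5 _ hφ
    have h5 : φ.toAddMonoidHom 1 = 1 := h4
    rw [h5] at h3
    apply hne
    rw [← hχ1, h3]
  · intro x
    rw [AddChar.compAddMonoidHom_apply]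
    have h5 : ∀ x : ZMod 2, x = 0 ∨ x = 1 := by decide
    rcases h5 (φ.toAddMonoidHom x) with h6 | h6
    · left; rw [h6, AddChar.map_zero_eq_one]
    · right
      rw [h6, hχ1]

variable [CharP F 2]

/-- the sum over the fixed vectors of an isometry -/
theorem pow_eq_fixed {r : ℕ} [hr : Fact r.Prime] (h2 : r ≠ 2) {Q : (ι → F) → F} (hQ : IsNondegenerateQuadraticForm Q)
    (hplus : IsPlusTypeOn Q ⊤) {m : ℕ} (hm : Fintype.card ι = 2 * m) {g : GL ι F} (hg : g ^ r = 1)
    (hfix : ∀ v, Q ((g : Matrix ι ι F) *ᵥ v) = Q v) {ψ : AddChar F (ZMod r)} (hψ : ψ ≠ 1) [DecidableEq F] :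
    ((Fintype.card F : ℕ) : ZMod r) ^ m =
      ∑ v ∈ Finset.univ.filter (fun v : ι → F => (g : Matrix ι ι F) *ᵥ v = v), ψ (Q v) := by
  classical
  have hR : ((Fintype.card F : ℕ) : ZMod r) ≠ 0 := by
    obtain ⟨n, -, hn⟩ := FiniteField.card F 2
    rw [hn, Nat.cast_pow]
    apply pow_ne_zero
    intro h
    have h3 : ((2 : ℕ) : ZMod r) = 0 := h
    rw [ZMod.natCast_eq_zero_iff] at h3
    exact h2 ((Nat.prime_dvd_prime_iff_eq hr.out Nat.prime_two).1 h3)
  rw [← sum_psi ψ hψ hR hQ hplus hm]
  let G : Equiv.Perm (ι → F) :=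
    { toFun := fun v => (g : Matrix ι ι F) *ᵥ v
      invFun := fun v => ((g⁻¹ : GL ι F) : Matrix ι ι F) *ᵥ v
      left_inv := fun v => by
        change ((g⁻¹ : GL ι F) : Matrix ι ι F) *ᵥ ((g : Matrix ι ι F) *ᵥ v) = v
        rw [Matrix.mulVec_mulVec, ← Units.val_mul, inv_mul_cancel, Units.val_one, Matrix.one_mulVec]
      right_inv := fun v => by
        change (g : Matrix ι ι F) *ᵥ (((g⁻¹ : GL ι F) : Matrix ι ι F) *ᵥ v) = v
        rw [Matrix.mulVec_mulVec, ← Units.val_mul, mul_inv_cancel, Units.val_one, Matrix.one_mulVec] }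
  have hGpow : ∀ n : ℕ, ∀ v, (G ^ n) v = ((g ^ n : GL ι F) : Matrix ι ι F) *ᵥ v := by
    intro n
    induction n with
    | zero => intro v; simp
    | succ n ih =>
      intro v
      rw [pow_succ', Equiv.Perm.mul_apply, ih, pow_succ', Units.val_mul, ← Matrix.mulVec_mulVec]
      rfl
  have hG : G ^ r = 1 := by
    ext1 v
    rw [hGpow, hg, Units.val_one, Matrix.one_mulVec]
    rfl
  exact sum_eq_fixed G hG Q hfix ψ

theorem Q_zero {Q : (ι → F) → F} (hQ : IsNondegenerateQuadraticForm Q) : Q 0 = 0 := by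
  have h := hQ.smul 0 0
  rw [zero_smul, zero_pow two_ne_zero, zero_mul] at h
  exact h

/-- **No fixed vectors.** -/
theorem pow_eq_one_of_free {r : ℕ} [hr : Fact r.Prime] (h2 : r ≠ 2) {Q : (ι → F) → F}
    (hQ : IsNondegenerateQuadraticForm Q) (hplus : IsPlusTypeOn Q ⊤) {m : ℕ} (hm : Fintype.card ι = 2 * m) {g : GL ι F}
    (hg : g ^ r = 1) (hfix : ∀ v, Q ((g : Matrix ι ι F) *ᵥ v) = Q v)
    (hfree : ∀ v, (g : Matrix ι ι F) *ᵥ v = v → v = 0) : ((Fintype.card F : ℕ) : ZMod r) ^ m = 1 := by
  classical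
  obtain ⟨ψ, hψ, -⟩ := exists_char (F := F) h2
  rw [pow_eq_fixed h2 hQ hplus hm hg hfix hψ]
  have h3 : (Finset.univ.filter fun v : ι → F => (g : Matrix ι ι F) *ᵥ v = v) = {0} := by
    ext v
    rw [Finset.mem_filter, Finset.mem_singleton]
    constructor
    · rintro ⟨-, h⟩
      exact hfree v h
    · rintro rfl
      exact ⟨Finset.mem_univ _, Matrix.mulVec_zero _⟩
  rw [h3, Finset.sum_singleton, Q_zero hQ, AddChar.map_zero_eq_one]

/-- the character sum over an anisotropic plane -/
theorem sum_aniso {R : Type*} [Field R] {ψ : AddChar F R} (hψ : ψ ≠ 1) {Q : (ι → F) → F}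
    (hQ : IsNondegenerateQuadraticForm Q) {W : Submodule F (ι → F)} (hW : finrank F W = 2)
    (han : ∀ v ∈ W, Q v = 0 → v = 0) [Fintype W] : ∑ v : W, ψ (Q v) = - (Fintype.card F : R) := by
  classical
  -- all levels have the same size
  have hlev : ∀ c : F, c ≠ 0 → (Finset.univ.filter fun v : W => Q v = c).card =
      (Finset.univ.filter fun v : W => Q v = 1).card := by
    intro c hc
    obtain ⟨s, hs⟩ := FiniteField.isSquare_of_char_two (ringChar.eq F 2) c
    have hs0 : s ≠ 0 := by
      rintro rfl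
      exact hc (by rw [hs, mul_zero])
    refine Finset.card_bij (fun v _ => s⁻¹ • v) ?_ ?_ ?_
    · intro v hv
      rw [Finset.mem_filter] at hv ⊢
      refine ⟨Finset.mem_univ _, ?_⟩
      change Q (s⁻¹ • (v : ι → F)) = 1
      rw [hQ.smul, hv.2, hs]
      field_simp
    · intro v _ w _ h
      exact smul_right_injective W (inv_ne_zero hs0) h
    · intro v hv
      rw [Finset.mem_filter] at hv
      refine ⟨s • v, ?_, ?_⟩
      · rw [Finset.mem_filter]
        refine ⟨Finset.mem_univ _, ?_⟩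
        change Q (s • (v : ι → F)) = c
        rw [hQ.smul, hv.2, hs, mul_one, sq]
      · rw [smul_smul, inv_mul_cancel₀ hs0, one_smul]
  set N := (Finset.univ.filter fun v : W => Q v = 1).card with hN
  have h0 : (Finset.univ.filter fun v : W => Q v = 0).card = 1 := by
    rw [Finset.card_eq_one]
    refine ⟨0, ?_⟩
    ext v
    rw [Finset.mem_filter, Finset.mem_singleton]
    constructor
    · rintro ⟨-, h⟩
      exact Subtype.ext (han v v.2 h)
    · rintro rfl
      exact ⟨Finset.mem_univ _, Q_zero hQ⟩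
  have hcard : Fintype.card W = Fintype.card F ^ 2 := by
    rw [Module.card_eq_pow_finrank (K := F), hW]
  have htot : Fintype.card W = 1 + (Fintype.card F - 1) * N := by
    rw [← Finset.card_univ, Finset.card_eq_sum_card_fiberwise (s := Finset.univ) (t := Finset.univ) (f := fun v : W => Q v)
      (fun _ _ => Finset.mem_coe.2 (Finset.mem_univ _)), ← Finset.add_sum_erase _ _ (Finset.mem_univ (0 : F)), h0,
      Finset.sum_congr rfl fun c hc => hlev c (Finset.ne_of_mem_erase hc), Finset.sum_const,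
      Finset.card_erase_of_mem (Finset.mem_univ _), Finset.card_univ, smul_eq_mul]
  have hq : 1 < Fintype.card F := Fintype.one_lt_card
  have hN' : N = Fintype.card F + 1 := by
    rw [hcard] at htot
    obtain ⟨k, hk⟩ : ∃ k, Fintype.card F = k + 2 := ⟨Fintype.card F - 2, by omega⟩
    rw [hk] at htot ⊢
    have h5 : (k + 2 - 1) * N = (k + 1) * N := by congr 1
    rw [h5] at htot
    have h6 : (k + 1) * N = (k + 1) * (k + 2 + 1) := by linarith only [htot]
    exact Nat.eq_of_mul_eq_mul_left (by omega) h6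
  rw [← Finset.sum_fiberwise (Finset.univ : Finset W) (fun v : W => Q v) fun v : W => ψ (Q v)]
  have h1 : ∀ c : F, ∑ v ∈ (Finset.univ : Finset W).filter (fun v : W => Q v = c), ψ (Q v) =
      ((Finset.univ.filter fun v : W => Q v = c).card : R) * ψ c := by
    intro c
    rw [Finset.sum_congr rfl (g := fun _ => ψ c) fun v hv => by rw [(Finset.mem_filter.1 hv).2], Finset.sum_const,
      nsmul_eq_mul]
  rw [Finset.sum_congr rfl fun c _ => h1 c, ← Finset.add_sum_erase _ _ (Finset.mem_univ (0 : F)), h0,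
    Finset.sum_congr rfl fun c hc => by rw [hlev c (Finset.ne_of_mem_erase hc)], ← Finset.mul_sum,
    AddChar.map_zero_eq_one]
  have h3 := AddChar.sum_eq_zero_of_ne_one hψ
  rw [← Finset.add_sum_erase _ _ (Finset.mem_univ (0 : F)), AddChar.map_zero_eq_one] at h3
  have h4 : ∑ x ∈ Finset.univ.erase (0 : F), ψ x = -1 := by linear_combination h3
  rw [h4, hN']
  push_cast
  ring

/-- **The fixed space is an anisotropic plane.** -/
theorem pow_eq_neg_of_aniso {r : ℕ} [hr : Fact r.Prime] (h2 : r ≠ 2) {Q : (ι → F) → F}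
    (hQ : IsNondegenerateQuadraticForm Q) (hplus : IsPlusTypeOn Q ⊤) {m : ℕ} (hm : Fintype.card ι = 2 * m) {g : GL ι F}
    (hg : g ^ r = 1) (hfix : ∀ v, Q ((g : Matrix ι ι F) *ᵥ v) = Q v) {W : Submodule F (ι → F)}
    (hW : ∀ v, v ∈ W ↔ (g : Matrix ι ι F) *ᵥ v = v) (hWd : finrank F W = 2) (han : ∀ v ∈ W, Q v = 0 → v = 0) :
    ((Fintype.card F : ℕ) : ZMod r) ^ m = - ((Fintype.card F : ℕ) : ZMod r) := by
  classical
  obtain ⟨ψ, hψ, -⟩ := exists_char (F := F) h2
  have : Fintype W := Fintype.ofFinite W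
  rw [pow_eq_fixed h2 hQ hplus hm hg hfix hψ, ← sum_aniso hψ hQ hWd han]
  exact Finset.sum_subtype (Finset.univ.filter fun v : ι → F => (g : Matrix ι ι F) *ᵥ v = v) (p := fun v => v ∈ W)
    (fun v => by rw [Finset.mem_filter, hW]; simp) fun v => ψ (Q v)

end Fixed

end Cfsg.Agent.H114.Ty
end

-- part: H114/AltTy
section
prune_inst 0x4010000402000000000000090130020604e00009000000000e820074202c1000080420000b8b01400108400446839000811000090020000000a000000011a01800000100410000200080000800080000000000000000000000000000000000000000000002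
set_option linter.all false
open scoped Cfsg.Agent.FastGrp

/-!
# The type of the quadratic form of a deleted permutation module (helper114)

* `plus_iff` : `v : α → F^ι` spans, `|α| = |ι| + 1`, `∑ v i = 0`, `(v i, v j) = a` for `i ≠ j`, `|ι| = 2 m`, odd
  characteristic: plus type ⟺ `(-1)^m |α|` is a square.
-/

set_option autoImplicit false
set_option linter.unusedSectionVars false

namespace Cfsg.Agent.H114.AltTy

open Cfsg Cfsg.Geo Matrix Module Cfsg.Agent.H882.Del
open Cfsg.Agent.LieClassical.OrthCore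
open Cfsg.Agent.H922 (toBilin)

section basis

variable {F : Type*} [Field F] {V : Type*} [AddCommGroup V] [Module F V]
variable {α : Type*} [Fintype α] [DecidableEq α] {v : α → V}

theorem linInd (S : Sys F v) (i0 : α) : LinearIndependent F (fun i : {i // i ≠ i0} => v i) := by
  rw [Fintype.linearIndependent_iff]
  intro g hg i
  let e : α → F := fun j => if h : j ≠ i0 then g ⟨j, h⟩ else 0
  have he : ∀ j : {j // j ≠ i0}, e j = g j := fun j => dif_pos j.2
  have he0 : e i0 = 0 := dif_neg (by simp)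
  have h1 : ∑ j, e j • v j = 0 := by
    rw [Fintype.sum_eq_add_sum_subtype_ne _ i0, he0, zero_smul, zero_add, ← hg]
    exact Finset.sum_congr rfl fun j _ => by rw [he]
  have h3 := S.rel h1 i i0
  rw [he, he0] at h3
  exact h3

theorem span_top (S : Sys F v) (i0 : α) : ⊤ ≤ Submodule.span F (Set.range fun i : {i // i ≠ i0} => v i) := by
  rw [← S.span, Submodule.span_le]
  rintro _ ⟨i, rfl⟩
  by_cases h : i = i0
  · subst h
    have h1 : v i = -∑ j ∈ Finset.univ.erase i, v j := by
      rw [eq_neg_iff_add_eq_zero, Finset.add_sum_erase _ _ (Finset.mem_univ i), S.sum]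
    rw [h1]
    refine Submodule.neg_mem _ (Submodule.sum_mem _ fun j hj => ?_)
    exact Submodule.subset_span ⟨⟨j, Finset.ne_of_mem_erase hj⟩, rfl⟩
  · exact Submodule.subset_span ⟨⟨i, h⟩, rfl⟩

/-- the basis `v i`, `i ≠ i0` -/
noncomputable def basis (S : Sys F v) (i0 : α) : Basis {i // i ≠ i0} F V := Basis.mk (linInd S i0) (span_top S i0)

theorem basis_apply (S : Sys F v) (i0 : α) (i : {i // i ≠ i0}) : basis S i0 i = v i := by
  rw [basis, Basis.mk_apply]

end basis

/-- `det (J - N)`, `N = |κ| + 1` -/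
theorem det_gram {κ : Type*} [Fintype κ] [DecidableEq κ] {F : Type*} [Field F] {a N : F}
    (hN : N = (Fintype.card κ : F) + 1) (hN0 : N ≠ 0) :
    (Matrix.of fun i j : κ => if i = j then -((N - 1) * a) else a).det * N = (-(a * N)) ^ Fintype.card κ := by
  have h1 : (Matrix.of fun i j : κ => if i = j then -((N - 1) * a) else a) =
      (-(a * N)) • (1 + Matrix.replicateCol Unit (fun _ : κ => -(N⁻¹)) * Matrix.replicateRow Unit (fun _ : κ => (1 : F))) := by
    ext i j
    rw [Matrix.smul_apply, Matrix.add_apply, Matrix.mul_apply, Matrix.of_apply]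
    simp only [Matrix.replicateCol_apply, Matrix.replicateRow_apply, Finset.univ_unique, Finset.sum_const,
      Finset.card_singleton, one_smul, mul_one, smul_eq_mul]
    by_cases h : i = j
    · subst h
      rw [if_pos rfl, Matrix.one_apply_eq]
      field_simp
      ring
    · rw [if_neg h, Matrix.one_apply_ne h]
      field_simp
      ring
  rw [h1, Matrix.det_smul, Matrix.det_one_add_replicateCol_mul_replicateRow]
  have h2 : (fun _ : κ => (1 : F)) ⬝ᵥ (fun _ : κ => -(N⁻¹)) = -((Fintype.card κ : F) * N⁻¹) := by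
    simp [dotProduct]
  rw [h2, mul_assoc]
  have h3 : (1 + -((Fintype.card κ : F) * N⁻¹)) * N = 1 := by
    field_simp
    rw [hN]
    ring
  rw [h3, mul_one]

/-- **The type.** -/
theorem plus_iff {F : Type*} [Field F] [Finite F] (h2 : (2 : F) ≠ 0) {ι : Type} [Fintype ι] [DecidableEq ι]
    {Q : (ι → F) → F} (hQ : IsNondegenerateQuadraticForm Q) {α : Type} [Fintype α] [DecidableEq α] {v : α → ι → F}
    (S : Sys F v) {a : F} (hg : ∀ i j, i ≠ j → QuadraticMap.polar Q (v i) (v j) = a) {m : ℕ}
    (hm : Fintype.card ι = 2 * m) (hm0 : 0 < m) : IsPlusTypeOn Q ⊤ ↔ IsSquare ((-1) ^ m * (Fintype.card α : F)) := by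
  have hfin : finrank F (ι → F) = Fintype.card ι := finrank_fintype_fun_eq_card F
  have hcard : Fintype.card α = 2 * m + 1 := by rw [S.card, hfin, hm]
  have hgr : Gr (Cfsg.Agent.H887.OmegaBridge.qf Q hQ) v a := hg
  have hnd := Cfsg.Agent.H887.OmegaBridge.nondeg_qf Q hQ
  have ha := a_ne S hgr hnd
  have hN := card_ne S hgr hnd (by omega)
  obtain ⟨i0, -, -⟩ := S.exists_two
  have hκ : Fintype.card {i // i ≠ i0} = 2 * m := by
    rw [Fintype.card_subtype_compl, Fintype.card_subtype_eq, hcard]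
    omega
  have hG : LinearMap.BilinForm.toMatrix (basis S i0) (toBilin hQ.polar_bilinear) =
      Matrix.of fun i j : {i // i ≠ i0} => if i = j then -(((Fintype.card α : F) - 1) * a) else a := by
    ext i j
    rw [LinearMap.BilinForm.toMatrix_apply, basis_apply, basis_apply, Matrix.of_apply]
    change QuadraticMap.polar Q (v i) (v j) = _
    by_cases h : i = j
    · subst h
      rw [if_pos rfl]
      exact gr_self S hgr i
    · rw [if_neg h]
      exact hg _ _ fun h1 => h (Subtype.ext h1)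
  have hdet := det_gram (κ := {i // i ≠ i0}) (a := a) (N := (Fintype.card α : F)) (by rw [hκ, hcard]; push_cast; ring) hN
  rw [← hG, hκ] at hdet
  set D := (LinearMap.BilinForm.toMatrix (basis S i0) (toBilin hQ.polar_bilinear)).det with hD
  set N : F := (Fintype.card α : F) with hNdef
  have hsq : (-(a * N)) ^ (2 * m) = ((a * N) ^ m) ^ 2 := by
    rw [pow_mul, neg_sq, ← pow_mul, ← pow_mul, mul_comm m 2]
  have haN : (a * N) ^ m ≠ 0 := pow_ne_zero _ (mul_ne_zero ha hN)
  rw [hsq] at hdet
  have hsgn : ((-1 : F) ^ m) * (-1) ^ m = 1 := by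
    rw [← mul_pow]; simp
  constructor
  · intro hp
    obtain ⟨s, hs⟩ := H925.det_plus hQ hp hm (basis S i0)
    rw [← hD] at hs
    rw [hs] at hdet
    have hs0 : s ≠ 0 := by
      rintro rfl
      rw [zero_pow two_ne_zero, mul_zero, zero_mul] at hdet
      exact (pow_ne_zero 2 haN) hdet.symm
    refine ⟨(a * N) ^ m / s, ?_⟩
    field_simp
    linear_combination hdet
  · rintro ⟨s, hs⟩
    have hs0 : s ≠ 0 := by
      rintro rfl
      rw [mul_zero] at hs
      rcases mul_eq_zero.1 hs with h | h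
      · rw [h, mul_zero] at hsgn
        exact zero_ne_one hsgn
      · exact hN h
    refine H926.plus_of_det hQ h2 hm (basis S i0) (s := (a * N) ^ m / s) ?_
    rw [← hD]
    have h3 : D * (s * s) = (-1) ^ m * ((a * N) ^ m) ^ 2 := by
      rw [← hs, ← hdet]; ring
    field_simp
    linear_combination h3

end Cfsg.Agent.H114.AltTy

private theorem dce_1caf0a3cf05f : _root_.True := by
  try have : _root_.True := by simp only [_root_.Cfsg.Agent.H114.AltTy.basis.eq_1]
  exact _root_.True.intro
end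

-- part: H114/AltNat
section
set_option linter.all false
open scoped Cfsg.Agent.FastGrp

/-!
# Modules spanned by `f i j`, `f i j + f j k = f i k`, permuted by the alternating group (helper114)

* `Nat.coeff_eq`, `Nat.cases` : either the `f j i₀` (`j ≠ i₀`) are independent and `p ∤ m` or
  `∑ j, f j i₀ = 0` and `p ∣ m`;
* `Nat.sysA`, `Nat.grA` : `n = m - 1`;
* `Nat.sysB`, `Nat.grB` : `n = m - 2`.
-/

set_option autoImplicit false
set_option linter.unusedSectionVars false

namespace Cfsg.Agent.H114.AltNat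

open Module Equiv Equiv.Perm Cfsg.Agent.H882.Del

variable {α : Type*} [Fintype α] [DecidableEq α]
variable {F V : Type*} [Field F] [AddCommGroup V] [Module F V]

/-- The output of `H614.AMod.natural`. -/
structure NatM (ρ : Representation F (alternatingGroup α) V) (f : α → α → V) : Prop where
  anti : ∀ i j, f j i = -f i j
  add : ∀ i j k, f i j + f j k = f i k
  equiv : ∀ (g : alternatingGroup α) i j, ρ g (f i j) = f ((g : Perm α) i) ((g : Perm α) j)
  span : Submodule.span F (Set.range fun p : α × α => f p.1 p.2) = ⊤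
  ne : ∃ i j, f i j ≠ 0

/-- `A_m` is twofold transitive, with control: `(i j)(k l)`. -/
theorem exists_two {i j k l : α} (h4 : 4 ≤ Fintype.card α) (hij : i ≠ j) (hkl : k ≠ l) :
    ∃ g : alternatingGroup α, (g : Perm α) i = k ∧ (g : Perm α) j = l := by
  -- a permutation
  obtain ⟨σ, h1, h2⟩ : ∃ σ : Perm α, σ i = k ∧ σ j = l := by
    refine ⟨swap (swap i k j) l * swap i k, ?_, ?_⟩
    · rw [Perm.mul_apply, swap_apply_left]
      apply swap_apply_of_ne_of_ne
      · intro h
        have h3 : swap i k j = swap i k i := by rw [swap_apply_left, ← h]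
        exact hij ((swap i k).injective h3).symm
      · exact hkl
    · rw [Perm.mul_apply, swap_apply_left]
  rcases Int.units_eq_one_or (sign σ) with hs | hs
  · exact ⟨⟨σ, hs⟩, h1, h2⟩
  · obtain ⟨a, ha⟩ := exists_not_mem ({i, j} : Finset α) (lt_of_le_of_lt Finset.card_le_two (by omega))
    obtain ⟨b, hb⟩ := exists_not_mem ({i, j, a} : Finset α) (lt_of_le_of_lt Finset.card_le_three (by omega))
    simp only [Finset.mem_insert, Finset.mem_singleton, not_or] at ha hb
    have hab : a ≠ b := fun h => hb.2.2 h.symm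
    refine ⟨⟨σ * swap a b, ?_⟩, ?_, ?_⟩
    · rw [mem_alternatingGroup, map_mul, hs, sign_swap hab]
      rfl
    · change σ (swap a b i) = k
      rw [swap_apply_of_ne_of_ne (Ne.symm ha.1) (Ne.symm hb.1), h1]
    · change σ (swap a b j) = l
      rw [swap_apply_of_ne_of_ne (Ne.symm ha.2) (Ne.symm hb.2.1), h2]

/-- the same fixing a third point -/
theorem exists_three {i j k l o : α} (h5 : 5 ≤ Fintype.card α) (hij : i ≠ j) (hkl : k ≠ l) (hi : i ≠ o) (hj : j ≠ o)
    (hk : k ≠ o) (hl : l ≠ o) :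
    ∃ g : alternatingGroup α, (g : Perm α) i = k ∧ (g : Perm α) j = l ∧ (g : Perm α) o = o := by
  obtain ⟨σ, h1, h2, h3⟩ : ∃ σ : Perm α, σ i = k ∧ σ j = l ∧ σ o = o := by
    have hne : swap i k j ≠ o := by
      intro h
      have h4 : swap i k j = swap i k o := by rw [swap_apply_of_ne_of_ne (Ne.symm hi) (Ne.symm hk), h]
      exact hj ((swap i k).injective h4)
    refine ⟨swap (swap i k j) l * swap i k, ?_, ?_, ?_⟩
    · rw [Perm.mul_apply, swap_apply_left]
      apply swap_apply_of_ne_of_ne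
      · intro h
        have h3 : swap i k j = swap i k i := by rw [swap_apply_left, ← h]
        exact hij ((swap i k).injective h3).symm
      · exact hkl
    · rw [Perm.mul_apply, swap_apply_left]
    · rw [Perm.mul_apply, swap_apply_of_ne_of_ne (Ne.symm hi) (Ne.symm hk), swap_apply_of_ne_of_ne (Ne.symm hne)
        (Ne.symm hl)]
  rcases Int.units_eq_one_or (sign σ) with hs | hs
  · exact ⟨⟨σ, hs⟩, h1, h2, h3⟩
  · obtain ⟨a, ha⟩ := exists_not_mem ({i, j, o} : Finset α) (lt_of_le_of_lt Finset.card_le_three (by omega))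
    obtain ⟨b, hb⟩ := exists_not_mem ({i, j, o, a} : Finset α) (lt_of_le_of_lt Finset.card_le_four (by omega))
    simp only [Finset.mem_insert, Finset.mem_singleton, not_or] at ha hb
    have hab : a ≠ b := fun h => hb.2.2.2 h.symm
    refine ⟨⟨σ * swap a b, ?_⟩, ?_, ?_, ?_⟩
    · rw [mem_alternatingGroup, map_mul, hs, sign_swap hab]
      rfl
    · change σ (swap a b i) = k
      rw [swap_apply_of_ne_of_ne (Ne.symm ha.1) (Ne.symm hb.1), h1]
    · change σ (swap a b j) = l
      rw [swap_apply_of_ne_of_ne (Ne.symm ha.2.1) (Ne.symm hb.2.1), h2]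
    · change σ (swap a b o) = o
      rw [swap_apply_of_ne_of_ne (Ne.symm ha.2.2) (Ne.symm hb.2.2.1), h3]

namespace NatM

variable {ρ : Representation F (alternatingGroup α) V} {f : α → α → V} (h : NatM ρ f)

include h

theorem self (i : α) : f i i = 0 := by
  have h1 := h.add i i i
  exact left_eq_add.1 h1.symm

theorem ne_zero (h4 : 4 ≤ Fintype.card α) {i j : α} (hij : i ≠ j) : f i j ≠ 0 := by
  intro h0
  obtain ⟨k, l, hkl⟩ := h.ne
  have hkl' : k ≠ l := by
    rintro rfl
    exact hkl (h.self k)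
  obtain ⟨g, h1, h2⟩ := exists_two h4 hij hkl'
  apply hkl
  rw [← h1, ← h2, ← h.equiv, h0, map_zero]

theorem sub (i j k : α) : f i k - f j k = f i j := by
  rw [sub_eq_iff_eq_add, h.add]

/-- The relations. -/
theorem coeff_eq (h7 : 7 ≤ Fintype.card α) {i0 : α} {c : α → F} (hc : ∑ j, c j • f j i0 = 0) {i j : α} (hi : i ≠ i0)
    (hj : j ≠ i0) : c i = c j := by
  by_cases hij : i = j
  · rw [hij]
  obtain ⟨k, hk⟩ := exists_not_mem ({i0, i, j} : Finset α) (lt_of_le_of_lt Finset.card_le_three (by omega))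
  obtain ⟨l, hl⟩ := exists_not_mem ({i0, i, j, k} : Finset α) (lt_of_le_of_lt Finset.card_le_four (by omega))
  obtain ⟨s, hs⟩ := exists_not_mem ({i0, i, j, k, l} : Finset α) (lt_of_le_of_lt Finset.card_le_five (by omega))
  obtain ⟨t, ht⟩ := exists_not_mem ({i0, i, j, k, l, s} : Finset α) (lt_of_le_of_lt Finset.card_le_six (by omega))
  simp only [Finset.mem_insert, Finset.mem_singleton, not_or] at hk hl hs ht
  -- `(i j)(k l)`
  let g : alternatingGroup α := ⟨swap i j * swap k l, by
    rw [mem_alternatingGroup, map_mul, sign_swap hij, sign_swap (Ne.symm hl.2.2.2)]; rfl⟩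
  have hgi : (g : Perm α) i = j := by
    change swap i j (swap k l i) = j
    rw [swap_apply_of_ne_of_ne (Ne.symm hk.2.1) (Ne.symm hl.2.1), swap_apply_left]
  have hgj : (g : Perm α) j = i := by
    change swap i j (swap k l j) = i
    rw [swap_apply_of_ne_of_ne (Ne.symm hk.2.2) (Ne.symm hl.2.2.1), swap_apply_right]
  have hgk : (g : Perm α) k = l := by
    change swap i j (swap k l k) = l
    rw [swap_apply_left, swap_apply_of_ne_of_ne hl.2.1 hl.2.2.1]
  have hgl : (g : Perm α) l = k := by
    change swap i j (swap k l l) = k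
    rw [swap_apply_right, swap_apply_of_ne_of_ne hk.2.1 hk.2.2]
  have hgo : ∀ x, x ≠ i → x ≠ j → x ≠ k → x ≠ l → (g : Perm α) x = x := by
    intro x h1 h2 h3 h4
    change swap i j (swap k l x) = x
    rw [swap_apply_of_ne_of_ne h3 h4, swap_apply_of_ne_of_ne h1 h2]
  have e1 : ∑ x, c x • f ((g : Perm α) x) i0 = 0 := by
    have h1 := congrArg (ρ g) hc
    rw [map_zero, map_sum] at h1
    rw [← h1]
    refine Finset.sum_congr rfl fun x _ => ?_
    rw [map_smul, h.equiv, hgo i0 (Ne.symm hi) (Ne.symm hj) (Ne.symm hk.1) (Ne.symm hl.1)]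
  have e2 : ∑ x, c x • (f x i0 - f ((g : Perm α) x) i0) = 0 := by
    simp only [smul_sub, Finset.sum_sub_distrib, hc, e1, sub_self]
  have e3 : (c i - c j) • f i j + (c k - c l) • f k l = 0 := by
    have hsub : ∑ x ∈ ({i, j, k, l} : Finset α), c x • (f x i0 - f ((g : Perm α) x) i0) = 0 := by
      rw [← e2]
      refine Finset.sum_subset (Finset.subset_univ _) fun x _ hx => ?_
      simp only [Finset.mem_insert, Finset.mem_singleton, not_or] at hx
      rw [hgo x hx.1 hx.2.1 hx.2.2.1 hx.2.2.2, sub_self, smul_zero]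
    rw [Finset.sum_insert (by
      simp only [Finset.mem_insert, Finset.mem_singleton, not_or]
      exact ⟨hij, Ne.symm hk.2.1, Ne.symm hl.2.1⟩), Finset.sum_insert (by
      simp only [Finset.mem_insert, Finset.mem_singleton, not_or]
      exact ⟨Ne.symm hk.2.2, Ne.symm hl.2.2.1⟩), Finset.sum_pair (Ne.symm hl.2.2.2), hgi, hgj, hgk, hgl, h.sub, h.sub,
      h.sub, h.sub, h.anti i j, h.anti k l] at hsub
    rw [← hsub, sub_smul, sub_smul, smul_neg, smul_neg]
    abel
  -- `(i s t)` : `i ↦ s`
  let g' : alternatingGroup α := ⟨swap i s * swap i t, by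
    rw [mem_alternatingGroup, map_mul, sign_swap (Ne.symm hs.2.1), sign_swap (Ne.symm ht.2.1)]; rfl⟩
  have hg'i : (g' : Perm α) i = t := by
    change swap i s (swap i t i) = t
    rw [swap_apply_left, swap_apply_of_ne_of_ne ht.2.1 ht.2.2.2.2.2]
  have hg'o : ∀ x, x ≠ i → x ≠ s → x ≠ t → (g' : Perm α) x = x := by
    intro x h1 h2 h3
    change swap i s (swap i t x) = x
    rw [swap_apply_of_ne_of_ne h1 h3, swap_apply_of_ne_of_ne h1 h2]
  have e4 : (c i - c j) • f t j + (c k - c l) • f k l = 0 := by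
    have h1 := congrArg (ρ g') e3
    rw [map_zero, map_add, map_smul, map_smul, h.equiv, h.equiv, hg'i,
      hg'o j (Ne.symm hij) (Ne.symm hs.2.2.1) (Ne.symm ht.2.2.1),
      hg'o k hk.2.1 (Ne.symm hs.2.2.2.1) (Ne.symm ht.2.2.2.1),
      hg'o l hl.2.1 (Ne.symm hs.2.2.2.2) (Ne.symm ht.2.2.2.2.1)] at h1
    exact h1
  have e5 : (c i - c j) • f i t = 0 := by
    rw [← h.sub i t j, smul_sub]
    have := e3.trans e4.symm
    exact sub_eq_zero.2 (add_right_cancel this)
  exact sub_eq_zero.1 ((smul_eq_zero.1 e5).resolve_right (h.ne_zero (by omega) (Ne.symm ht.2.1)))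

/-- the sums -/
theorem sum_sub (i0 i1 : α) : ∑ j, f j i0 - ∑ j, f j i1 = (Fintype.card α : F) • f i1 i0 := by
  rw [← Finset.sum_sub_distrib]
  have h1 : ∀ j, f j i0 - f j i1 = f i1 i0 := by
    intro j
    rw [sub_eq_iff_eq_add, add_comm, h.add]
  rw [Finset.sum_congr rfl fun j _ => h1 j, Finset.sum_const, Finset.card_univ, Nat.cast_smul_eq_nsmul]

theorem span' (i0 : α) : Submodule.span F (Set.range fun j => f j i0) = ⊤ := by
  rw [eq_top_iff, ← h.span, Submodule.span_le]
  rintro _ ⟨⟨i, j⟩, rfl⟩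
  change f i j ∈ _
  rw [← h.sub i j i0]
  exact Submodule.sub_mem _ (Submodule.subset_span ⟨i, rfl⟩) (Submodule.subset_span ⟨j, rfl⟩)

/-- **The two cases.** -/
theorem cases (h7 : 7 ≤ Fintype.card α)
    (hirr : ∀ W : Submodule F V, (∀ g : alternatingGroup α, ∀ w ∈ W, ρ g w ∈ W) → W = ⊥ ∨ W = ⊤)
    (h2 : 2 ≤ finrank F V) :
    (finrank F V + 1 = Fintype.card α ∧ (Fintype.card α : F) ≠ 0) ∨
    (finrank F V + 2 = Fintype.card α ∧ (Fintype.card α : F) = 0 ∧ ∀ i0, ∑ j, f j i0 = 0) := by
  have hfin : Module.Finite F V := Module.finite_of_finrank_pos (by omega)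
  have hne : Nonempty α := Fintype.card_pos_iff.1 (by omega)
  obtain ⟨i0⟩ := hne
  have hcard : Fintype.card {i // i ≠ i0} = Fintype.card α - 1 := by
    rw [Fintype.card_subtype_compl, Fintype.card_subtype_eq]
  have hspan : Submodule.span F (Set.range fun j : {i // i ≠ i0} => f j i0) = ⊤ := by
    rw [eq_top_iff, ← h.span' i0, Submodule.span_le]
    rintro _ ⟨j, rfl⟩
    by_cases hj : j = i0
    · subst hj
      change f j j ∈ _
      rw [h.self]
      exact Submodule.zero_mem _
    · exact Submodule.subset_span ⟨⟨j, hj⟩, rfl⟩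
  by_cases h0 : ∑ j, f j i0 = 0
  · right
    have hall : ∀ i, ∑ j, f j i = 0 := by
      intro i
      by_cases hi : i = i0
      · rw [hi]; exact h0
      · obtain ⟨g, hg1, -⟩ := exists_two (i := i0) (j := i) (k := i) (l := i0) (by omega) (Ne.symm hi) hi
        have h1 := congrArg (ρ g) h0
        rw [map_zero, map_sum] at h1
        rw [← h1, ← Equiv.sum_comp (g : Perm α) (fun j => f j i)]
        refine Finset.sum_congr rfl fun j _ => ?_
        rw [h.equiv, hg1]
    have hm : (Fintype.card α : F) = 0 := by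
      obtain ⟨i1, hi1⟩ := exists_not_mem ({i0} : Finset α) (by rw [Finset.card_singleton]; omega)
      rw [Finset.mem_singleton] at hi1
      have h1 := h.sum_sub i0 i1
      rw [hall, hall, sub_zero] at h1
      exact (smul_eq_zero.1 h1.symm).resolve_right (h.ne_zero (by omega) hi1)
    refine ⟨?_, hm, hall⟩
    -- the relations form a line
    let Φ : ({i // i ≠ i0} → F) →ₗ[F] V := Fintype.linearCombination F (fun j : {i // i ≠ i0} => f j i0)
    have hΦ : ∀ c, Φ c = ∑ i, c i • f i i0 := fun c => rfl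
    have hsurj : LinearMap.range Φ = ⊤ := by
      rw [← hspan]
      exact Fintype.range_linearCombination F _
    have h1 := LinearMap.finrank_range_add_finrank_ker Φ
    rw [hsurj, finrank_top, Module.finrank_fintype_fun_eq_card, hcard] at h1
    have h3 : finrank F (LinearMap.ker Φ) = 1 := by
      have hmem : (fun _ : {i // i ≠ i0} => (1 : F)) ∈ LinearMap.ker Φ := by
        rw [LinearMap.mem_ker, hΦ]
        simp only [one_smul]
        rw [← h0, Fintype.sum_eq_add_sum_subtype_ne _ i0, h.self, zero_add]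
      obtain ⟨i1, hi1⟩ := exists_not_mem ({i0} : Finset α) (by rw [Finset.card_singleton]; omega)
      rw [Finset.mem_singleton] at hi1
      refine finrank_eq_one (⟨_, hmem⟩ : LinearMap.ker Φ) ?_ ?_
      · intro hz
        have := congrFun (congrArg Subtype.val hz) ⟨i1, hi1⟩
        exact one_ne_zero this
      · rintro ⟨c, hc⟩
        refine ⟨c ⟨i1, hi1⟩, ?_⟩
        apply Subtype.ext
        funext j
        change c ⟨i1, hi1⟩ * 1 = c j
        rw [mul_one]
        rw [LinearMap.mem_ker, hΦ] at hc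
        let e : α → F := fun j => if hj : j ≠ i0 then c ⟨j, hj⟩ else 0
        have he : ∀ j : {j // j ≠ i0}, e j = c j := fun j => dif_pos j.2
        have h4 : ∑ j, e j • f j i0 = 0 := by
          rw [Fintype.sum_eq_add_sum_subtype_ne _ i0, h.self, smul_zero, zero_add, ← hc]
          exact Finset.sum_congr rfl fun j _ => by rw [he]
        have h5 := h.coeff_eq h7 h4 hi1 j.2
        rw [he, he ⟨i1, hi1⟩] at h5
        exact h5
    omega
  · left
    have hli : LinearIndependent F (fun j : {i // i ≠ i0} => f j i0) := by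
      rw [Fintype.linearIndependent_iff]
      intro c hc i
      let e : α → F := fun j => if hj : j ≠ i0 then c ⟨j, hj⟩ else 0
      have he : ∀ j : {j // j ≠ i0}, e j = c j := fun j => dif_pos j.2
      have h4 : ∑ j, e j • f j i0 = 0 := by
        rw [Fintype.sum_eq_add_sum_subtype_ne _ i0, h.self, smul_zero, zero_add, ← hc]
        exact Finset.sum_congr rfl fun j _ => by rw [he]
      by_contra hne
      apply h0
      have h6 : ∑ j, e j • f j i0 = c i • ∑ j, f j i0 := by
        rw [Finset.smul_sum]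
        refine Finset.sum_congr rfl fun j _ => ?_
        by_cases hj : j = i0
        · rw [hj, h.self, smul_zero, smul_zero]
        · rw [h.coeff_eq h7 h4 hj i.2, he]
      rw [h6] at h4
      exact (smul_eq_zero.1 h4).resolve_left hne
    have hb : finrank F V = Fintype.card {i // i ≠ i0} :=
      Module.finrank_eq_card_basis (Basis.mk hli hspan.ge)
    refine ⟨by rw [hb, hcard]; omega, fun hm => ?_⟩
    -- invariant vector
    have hall : ∀ i, ∑ j, f j i = ∑ j, f j i0 := by
      intro i
      have h1 := h.sum_sub i i0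
      rw [hm, zero_smul, sub_eq_zero] at h1
      exact h1
    have hinv : ∀ g : alternatingGroup α, ρ g (∑ j, f j i0) = ∑ j, f j i0 := by
      intro g
      rw [map_sum, ← hall ((g : Perm α) i0), ← Equiv.sum_comp (g : Perm α) (fun j => f j ((g : Perm α) i0))]
      refine Finset.sum_congr rfl fun j _ => ?_
      rw [h.equiv]
    rcases hirr (Submodule.span F {∑ j, f j i0}) (by
      intro g w hw
      obtain ⟨c, rfl⟩ := Submodule.mem_span_singleton.1 hw
      rw [map_smul, hinv g]
      exact Submodule.smul_mem _ _ (Submodule.mem_span_singleton_self _)) with h1 | h1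
    · exact h0 (Submodule.span_singleton_eq_bot.1 h1)
    · have h3 := finrank_span_le_card (R := F) ({∑ j, f j i0} : Set V)
      rw [h1, finrank_top] at h3
      simp at h3
      omega

end NatM

end Cfsg.Agent.H114.AltNat
end
end
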