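import Cfsg.Agent.H464.L2StageOne_m3
import Mathlib.Topology.Compactification.OnePoint.ProjectiveLine
import Cfsg.Agent.H906.Cover_m3
import Cfsg.Agent.H114.TyTwo_m3
import Cfsg.Agent.H464.L2TrF_m3
import Cfsg.Agent.H882.Del.Stein
import Cfsg.Agent.H926.MinusA
import Cfsg.Agent.H160.QDisc
import Cfsg.Agent.H593.RobinsonRank
import Cfsg.Agent.H887.OmegaBridge
import Cfsg.Agent.S2119
import Cfsg.Agent.FastGrp
import Cfsg.Agent.Prune
set_option linter.all false

section
prune_inst 0x7fbea9f9ebb9abffdfff7fffa6decdfdf9b93fffa4dff9cbffe061ff2b9f6b10c9c5638d83eb32fe1ef6421414e87b43ffffeeffe26fdc7ffffd5ff41ffbffcfedf7b50851948c340fbc0ff703f07f8e7f3fffffffffffffffffffffffffffbeffbfffffffff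

-- part: H114/RtKill
section
prune_inst 0x4100001000400000000000000000000402000000000000000000000040100004000000000000000000000000000000000000000000000000000000000000000000000000000000000000000000000000000000000000000000000000000000000000000000
set_option linter.all false
open scoped Cfsg.Agent.FastGrp

-- part: H114/RtPerm
section
/-!
# The permutation module of `SL₂(K)` on the projective line (helper114)
-/

set_option autoImplicit false
set_option linter.unusedSectionVars false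

namespace Cfsg.Agent.H114.Rt

open Matrix Cfsg.Agent.H464.Sl2

variable {K : Type*} [Field K] [DecidableEq K]

/-- the action on the projective line -/
noncomputable def act (g : _root_.Matrix.SpecialLinearGroup (Fin 2) K) (x : Option K) : Option K :=
  ((SpecialLinearGroup.toGL g) • (show OnePoint K from x) : OnePoint K)

theorem act_one (x : Option K) : act 1 x = x := by
  unfold act
  rw [map_one, one_smul]

theorem act_mul (g h : _root_.Matrix.SpecialLinearGroup (Fin 2) K) (x : Option K) : act (g * h) x = act g (act h x) := by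
  unfold act
  rw [map_mul, mul_smul]

theorem act_none (g : _root_.Matrix.SpecialLinearGroup (Fin 2) K) :
    act g none = if g.1 1 0 = 0 then none else some (g.1 0 0 / g.1 1 0) :=
  OnePoint.smul_infty_eq_ite _

theorem act_some (g : _root_.Matrix.SpecialLinearGroup (Fin 2) K) (x : K) :
    act g (some x) = if g.1 1 0 * x + g.1 1 1 = 0 then none else
      some ((g.1 0 0 * x + g.1 0 1) / (g.1 1 0 * x + g.1 1 1)) :=
  OnePoint.smul_some_eq_ite

theorem act_u_none (x : K) : act (u x) none = none := (act_none _).trans (if_pos rfl)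

theorem act_u (x y : K) : act (u x) (some y) = some (x + y) := by
  rw [act_some]
  have h1 : (u x).1 1 0 = 0 := rfl
  have h2 : (u x).1 1 1 = 1 := rfl
  have h3 : (u x).1 0 0 = 1 := rfl
  have h4 : (u x).1 0 1 = x := rfl
  rw [h1, h2, h3, h4, zero_mul, zero_add, if_neg one_ne_zero, one_mul, div_one, add_comm]

theorem act_t_none (a : Kˣ) : act (t a) none = none := (act_none _).trans (if_pos rfl)

theorem act_t (a : Kˣ) (y : K) : act (t a) (some y) = some ((a : K) ^ 2 * y) := by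
  rw [act_some]
  have h1 : (t a).1 1 0 = 0 := rfl
  have h2 : (t a).1 1 1 = ((a⁻¹ : Kˣ) : K) := rfl
  have h3 : (t a).1 0 0 = a := rfl
  have h4 : (t a).1 0 1 = 0 := rfl
  rw [h1, h2, h3, h4, zero_mul, zero_add, if_neg (Units.ne_zero _), add_zero]
  congr 1
  have := a.ne_zero
  rw [Units.val_inv_eq_inv_val]
  field_simp

theorem act_w_none (c : Kˣ) : act (w c) none = some 0 := by
  rw [act_none]
  have h1 : (w c).1 1 0 = c := rfl
  have h3 : (w c).1 0 0 = 0 := rfl
  rw [h1, h3, if_neg c.ne_zero, zero_div]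

theorem act_w_zero (c : Kˣ) : act (w c) (some 0) = none := by
  rw [act_some]
  have h2 : (w c).1 1 1 = 0 := rfl
  rw [h2, mul_zero, zero_add, if_pos rfl]

theorem act_w (c : Kˣ) {y : K} (hy : y ≠ 0) :
    act (w c) (some y) = some (-((c : K) ^ 2 * y)⁻¹) := by
  rw [act_some]
  have h1 : (w c).1 1 0 = c := rfl
  have h2 : (w c).1 1 1 = 0 := rfl
  have h3 : (w c).1 0 0 = 0 := rfl
  have h4 : (w c).1 0 1 = -((c⁻¹ : Kˣ) : K) := rfl
  have hc := c.ne_zero
  rw [h1, h2, h3, h4, add_zero, if_neg (mul_ne_zero hc hy)]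
  congr 1
  rw [Units.val_inv_eq_inv_val]
  field_simp
  ring

/-! ### Permutation matrices -/

section pm

variable {F : Type*} [Field F]

/-- the permutation matrix -/
noncomputable def pm (F : Type*) [Field F] (g : _root_.Matrix.SpecialLinearGroup (Fin 2) K) : Matrix (Option K) (Option K) F :=
  fun i j => if i = act g j then 1 else 0

variable [Fintype K]

theorem pm_single (g : _root_.Matrix.SpecialLinearGroup (Fin 2) K) (j : Option K) :
    pm F g *ᵥ Pi.single j 1 = Pi.single (act g j) 1 := by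
  ext i
  rw [Matrix.mulVec_single]
  change (MulOpposite.op (1 : F) • (pm F g).col j) i = _
  rw [MulOpposite.op_one, one_smul]
  change pm F g i j = _
  unfold pm
  rw [Pi.single_apply]

theorem ext_single {A B : Matrix (Option K) (Option K) F} (h : ∀ j, A *ᵥ Pi.single j 1 = B *ᵥ Pi.single j 1) : A = B := by
  ext i j
  have := congrFun (h j) i
  rw [Matrix.mulVec_single, Matrix.mulVec_single] at this
  simpa using this

theorem pm_one : pm F (1 : _root_.Matrix.SpecialLinearGroup (Fin 2) K) = 1 :=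
  ext_single fun j => by rw [pm_single, act_one, Matrix.one_mulVec]

theorem pm_mul (g h : _root_.Matrix.SpecialLinearGroup (Fin 2) K) : pm F (g * h) = pm F g * pm F h :=
  ext_single fun j => by rw [← Matrix.mulVec_mulVec, pm_single, pm_single, pm_single, act_mul]

/-- the permutation representation -/
noncomputable def pmH (F : Type*) [Field F] : _root_.Matrix.SpecialLinearGroup (Fin 2) K →* Matrix (Option K) (Option K) F where
  toFun := pm F
  map_one' := pm_one
  map_mul' := pm_mul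

/-- number of fixed points -/
noncomputable def fix (g : _root_.Matrix.SpecialLinearGroup (Fin 2) K) : ℕ := (Finset.univ.filter fun x => act g x = x).card

theorem trace_pm (g : _root_.Matrix.SpecialLinearGroup (Fin 2) K) : (pm F g).trace = (fix g : F) := by
  unfold Matrix.trace fix
  simp only [Matrix.diag_apply, pm]
  rw [Finset.sum_ite, Finset.sum_const_zero, add_zero, Finset.sum_const, nsmul_eq_mul, mul_one]
  congr 2
  ext x
  simp only [Finset.mem_filter, Finset.mem_univ, true_and]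
  exact eq_comm

theorem fix_eq (g : _root_.Matrix.SpecialLinearGroup (Fin 2) K) :
    fix g = (if act g none = none then 1 else 0) + (Finset.univ.filter fun x : K => act g (some x) = some x).card := by
  unfold fix
  rw [Finset.card_filter, Fintype.sum_option, Finset.card_filter]

/-- upper triangular -/
theorem fix_upper {g : _root_.Matrix.SpecialLinearGroup (Fin 2) K} (hg : g.1 1 0 = 0) :
    fix g = 1 + (Finset.univ.filter fun x : K => (g.1 0 0 - g.1 1 1) * x + g.1 0 1 = 0).card := by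
  have hdet : g.1 0 0 * g.1 1 1 = 1 := by
    have := g.2
    rw [Matrix.det_fin_two, hg, mul_zero, sub_zero] at this
    exact this
  have h11 : g.1 1 1 ≠ 0 := by
    intro h
    rw [h, mul_zero] at hdet
    exact zero_ne_one hdet
  rw [fix_eq, act_none, if_pos hg, if_pos rfl]
  congr 2
  ext x
  simp only [Finset.mem_filter, Finset.mem_univ, true_and]
  rw [act_some, hg, zero_mul, zero_add, if_neg h11, Option.some_inj, div_eq_iff h11]
  constructor
  · intro h; linear_combination h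
  · intro h; linear_combination h

/-- not upper triangular -/
theorem fix_lower {g : _root_.Matrix.SpecialLinearGroup (Fin 2) K} (hg : g.1 1 0 ≠ 0) :
    fix g = (Finset.univ.filter fun x : K => g.1 1 0 * x ^ 2 + (g.1 1 1 - g.1 0 0) * x - g.1 0 1 = 0).card := by
  have hdet : g.1 0 0 * g.1 1 1 - g.1 0 1 * g.1 1 0 = 1 := by
    have := g.2
    rwa [Matrix.det_fin_two] at this
  rw [fix_eq, act_none, if_neg hg, if_neg (by simp), zero_add]
  congr 1
  ext x
  simp only [Finset.mem_filter, Finset.mem_univ, true_and]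
  rw [act_some]
  by_cases h : g.1 1 0 * x + g.1 1 1 = 0
  · rw [if_pos h]
    constructor
    · intro h1
      exact absurd h1 (by simp)
    · intro h1
      exfalso
      -- `x = - d / c`
      have h2 : g.1 0 0 * x + g.1 0 1 = 0 := by linear_combination x * h - h1
      have h3 : (1 : K) = 0 := by
        linear_combination -hdet + g.1 0 0 * h - g.1 1 0 * h2
      exact one_ne_zero h3
  · rw [if_neg h, Option.some_inj, div_eq_iff h]
    constructor
    · intro h1; linear_combination -h1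
    · intro h1; linear_combination -h1

end pm

end Cfsg.Agent.H114.Rt
end

-- part: H114/RtSys
section
/-!
# The root system `A_q` in a representation of `SL₂(q)` with character `fix - 2` (helper114)
-/

set_option autoImplicit false
set_option linter.unusedSectionVars false

namespace Cfsg.Agent.H114.Rt

open Matrix Cfsg Cfsg.Agent.H464.Sl2

variable {K : Type*} [Field K] [Fintype K] [DecidableEq K] {F : Type*} [Field F] {n : ℕ}
  (ρ : _root_.Matrix.SpecialLinearGroup (Fin 2) K →* GL (Fin n) F)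

/-- matrices of `ρ` -/
noncomputable def rM : _root_.Matrix.SpecialLinearGroup (Fin 2) K →* Matrix (Fin n) (Fin n) F := (Units.coeHom _).comp ρ

/-- the group algebra on the module -/
noncomputable def RA : MonoidAlgebra F (_root_.Matrix.SpecialLinearGroup (Fin 2) K) →ₐ[F] Matrix (Fin n) (Fin n) F :=
  MonoidAlgebra.lift F _ _ (rM ρ)

/-- the group algebra on the permutation module -/
noncomputable def PA (F : Type*) [Field F] :
    MonoidAlgebra F (_root_.Matrix.SpecialLinearGroup (Fin 2) K) →ₐ[F] Matrix (Option K) (Option K) F :=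
  MonoidAlgebra.lift F _ _ (pmH F)

/-- the augmentation -/
noncomputable def EA (K : Type*) [Field K] (F : Type*) [Field F] : MonoidAlgebra F (_root_.Matrix.SpecialLinearGroup (Fin 2) K) →ₐ[F] F :=
  MonoidAlgebra.lift F F _ 1

/-- group elements -/
noncomputable def og (F : Type*) [Field F] (g : _root_.Matrix.SpecialLinearGroup (Fin 2) K) :
    MonoidAlgebra F (_root_.Matrix.SpecialLinearGroup (Fin 2) K) := MonoidAlgebra.of F _ g

theorem RA_og (g : _root_.Matrix.SpecialLinearGroup (Fin 2) K) : RA ρ (og F g) = (ρ g : Matrix (Fin n) (Fin n) F) :=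
  MonoidAlgebra.lift_of _ _

theorem PA_og (g : _root_.Matrix.SpecialLinearGroup (Fin 2) K) : PA F (og F g) = pm F g := MonoidAlgebra.lift_of _ _

theorem EA_og (g : _root_.Matrix.SpecialLinearGroup (Fin 2) K) : EA K F (og F g) = 1 := MonoidAlgebra.lift_of _ _

theorem PA_og_single (g : _root_.Matrix.SpecialLinearGroup (Fin 2) K) (j : Option K) :
    PA F (og F g) *ᵥ Pi.single j 1 = Pi.single (act g j) 1 := by rw [PA_og, pm_single]

section key

variable (hT : ∀ g, (ρ g : Matrix (Fin n) (Fin n) F).trace = (fix g : F) - 2)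
  (hspan : Submodule.span F (Set.range fun g => (ρ g : Matrix (Fin n) (Fin n) F)) = ⊤)

include hT

theorem trace_RA (α : MonoidAlgebra F (_root_.Matrix.SpecialLinearGroup (Fin 2) K)) :
    (RA ρ α).trace = (PA F α).trace - 2 * EA K F α := by
  induction α using MonoidAlgebra.induction_on with
  | of g =>
    change (RA ρ (og F g)).trace = (PA F (og F g)).trace - 2 * EA K F (og F g)
    rw [RA_og, PA_og, EA_og, hT, trace_pm, mul_one]
  | add x y hx hy => rw [map_add, map_add, map_add, Matrix.trace_add, Matrix.trace_add, hx, hy]; ring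
  | smul c x hx =>
    rw [map_smul, map_smul, map_smul, Matrix.trace_smul, Matrix.trace_smul, hx, smul_eq_mul, smul_eq_mul, smul_eq_mul]
    ring

include hspan

theorem RA_eq_zero {α : MonoidAlgebra F (_root_.Matrix.SpecialLinearGroup (Fin 2) K)} (h1 : PA F α = 0) (h2 : EA K F α = 0) :
    RA ρ α = 0 := by
  refine H906.eq_zero_of_trace_mul hspan ?_
  rintro _ ⟨g, rfl⟩
  change (RA ρ α * (ρ g : Matrix (Fin n) (Fin n) F)).trace = 0
  rw [← RA_og, ← map_mul, trace_RA ρ hT, map_mul, map_mul, h1, h2, zero_mul, zero_mul, Matrix.trace_zero, mul_zero,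
    sub_zero]

end key

/-- the vector `e_0 - e_∞` -/
noncomputable def mv (K : Type*) [Field K] [DecidableEq K] (F : Type*) [Field F] : Option K → F :=
  Pi.single (some 0) 1 - Pi.single none 1

/-- the idempotent -/
noncomputable def f0 (K : Type*) [Field K] [Fintype K] [DecidableEq K] (F : Type*) [Field F] :
    MonoidAlgebra F (_root_.Matrix.SpecialLinearGroup (Fin 2) K) :=
  ((2 : F) * (Fintype.card Kˣ : F))⁻¹ • (∑ a : Kˣ, og F (t a) - ∑ c : Kˣ, og F (w c))

theorem EA_f0 : EA K F (f0 K F) = 0 := by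
  unfold f0
  rw [map_smul, map_sub, map_sum, map_sum]
  simp only [EA_og, sub_self, smul_zero]

/-- the coefficients -/
noncomputable def ph (K : Type*) [Field K] [DecidableEq K] (F : Type*) [Field F] (j : Option K) : F :=
  if j = some 0 then 2⁻¹ else if j = none then -2⁻¹ else 0

theorem PA_f0_single (hN : (2 : F) * (Fintype.card Kˣ : F) ≠ 0) {iu : Kˣ} (hi : (iu : K) ^ 2 = -1) (j : Option K) :
    PA F (f0 K F) *ᵥ Pi.single j 1 = ph K F j • mv K F := by
  have h2 : (2 : F) ≠ 0 := left_ne_zero_of_mul hN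
  have hr : (Fintype.card Kˣ : F) ≠ 0 := right_ne_zero_of_mul hN
  have h1 : PA F (f0 K F) *ᵥ Pi.single j 1 = ((2 : F) * (Fintype.card Kˣ : F))⁻¹ •
      (∑ a : Kˣ, Pi.single (act (t a) j) (1 : F) - ∑ c : Kˣ, Pi.single (act (w c) j) (1 : F)) := by
    unfold f0
    rw [map_smul, map_sub, map_sum, map_sum, Matrix.smul_mulVec, Matrix.sub_mulVec, Matrix.sum_mulVec,
      Matrix.sum_mulVec]
    simp only [PA_og_single]
  rw [h1]
  unfold ph mv
  rcases j with _ | x
  · rw [if_neg (by simp), if_pos rfl]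
    simp only [act_t_none, act_w_none, Finset.sum_const, Finset.card_univ]
    rw [← Nat.cast_smul_eq_nsmul F, ← Nat.cast_smul_eq_nsmul F, ← smul_sub, smul_smul]
    have e : ((2 : F) * (Fintype.card Kˣ : F))⁻¹ * (Fintype.card Kˣ : F) = 2⁻¹ := by
      rw [mul_inv, mul_assoc, inv_mul_cancel₀ hr, mul_one]
    rw [e, neg_smul, ← smul_neg, neg_sub]
  · by_cases hx : x = 0
    · subst hx
      rw [if_pos rfl]
      simp only [act_t, act_w_zero, mul_zero, Finset.sum_const, Finset.card_univ]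
      rw [← Nat.cast_smul_eq_nsmul F, ← Nat.cast_smul_eq_nsmul F, ← smul_sub, smul_smul]
      have e : ((2 : F) * (Fintype.card Kˣ : F))⁻¹ * (Fintype.card Kˣ : F) = 2⁻¹ := by
        rw [mul_inv, mul_assoc, inv_mul_cancel₀ hr, mul_one]
      rw [e]
    · rw [if_neg (by simpa using hx), if_neg (by simp), zero_smul]
      have h3 : ∑ c : Kˣ, (Pi.single (act (w c) (some x)) (1 : F) : Option K → F) =
          ∑ a : Kˣ, (Pi.single (act (t a) (some x)) (1 : F) : Option K → F) := by
        -- substitution `a = iu / (c x)`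
        let X : Kˣ := Units.mk0 x hx
        rw [← Equiv.sum_comp ((Equiv.inv Kˣ).trans (Equiv.mulLeft (iu * X⁻¹)))
          (fun a : Kˣ => (Pi.single (act (t a) (some x)) (1 : F) : Option K → F))]
        refine Finset.sum_congr rfl fun c _ => ?_
        change _ = (Pi.single (act (t (iu * X⁻¹ * c⁻¹)) (some x)) (1 : F) : Option K → F)
        rw [act_w c hx, act_t]
        congr 2
        have hc := c.ne_zero
        have e1 : ((iu * X⁻¹ * c⁻¹ : Kˣ) : K) = iu * x⁻¹ * (c : K)⁻¹ := by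
          rw [Units.val_mul, Units.val_mul, Units.val_inv_eq_inv_val, Units.val_inv_eq_inv_val]
          rfl
        rw [e1]
        have e2 : ((iu : K) * x⁻¹ * (c : K)⁻¹) ^ 2 * x = (iu : K) ^ 2 * (((c : K) ^ 2 * x)⁻¹) := by
          field_simp
        rw [e2, hi]
        ring
      rw [h3, sub_self, smul_zero]

theorem PA_f0 (hN : (2 : F) * (Fintype.card Kˣ : F) ≠ 0) {iu : Kˣ} (hi : (iu : K) ^ 2 = -1) (y : Option K → F) :
    PA F (f0 K F) *ᵥ y = (∑ j, y j * ph K F j) • mv K F := by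
  have h1 : y = ∑ j, y j • (Pi.single j (1 : F) : Option K → F) := by
    ext i
    rw [Finset.sum_apply, Finset.sum_eq_single i]
    · simp
    · intro b _ hb
      rw [Pi.smul_apply, Pi.single_eq_of_ne (Ne.symm hb), smul_zero]
    · intro h; exact absurd (Finset.mem_univ i) h
  conv_lhs => rw [h1]
  rw [Matrix.mulVec_sum, Finset.sum_smul]
  refine Finset.sum_congr rfl fun j _ => ?_
  rw [Matrix.mulVec_smul, PA_f0_single hN hi, smul_smul]

theorem PA_f0_mv (hN : (2 : F) * (Fintype.card Kˣ : F) ≠ 0) {iu : Kˣ} (hi : (iu : K) ^ 2 = -1) :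
    PA F (f0 K F) *ᵥ mv K F = mv K F := by
  have h2 : (2 : F) ≠ 0 := left_ne_zero_of_mul hN
  have h3 : mv K F = Pi.single (some 0) 1 - Pi.single none 1 := rfl
  nth_rewrite 1 [h3]
  rw [Matrix.mulVec_sub, PA_f0_single hN hi, PA_f0_single hN hi, ← sub_smul]
  unfold ph
  rw [if_pos rfl, if_neg (by simp), if_pos rfl, sub_neg_eq_add]
  have : (2 : F)⁻¹ + 2⁻¹ = 1 := by
    field_simp
    norm_num
  rw [this, one_smul]

theorem trace_PA_f0 (hN : (2 : F) * (Fintype.card Kˣ : F) ≠ 0) {iu : Kˣ} (hi : (iu : K) ^ 2 = -1) :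
    (PA F (f0 K F)).trace = 1 := by
  have h2 : (2 : F) ≠ 0 := left_ne_zero_of_mul hN
  have h1 : ∀ j, PA F (f0 K F) j j = ph K F j * mv K F j := by
    intro j
    have h3 := congrFun (PA_f0_single hN hi j) j
    rw [Matrix.mulVec_single, MulOpposite.op_one, one_smul, Pi.smul_apply, smul_eq_mul] at h3
    exact h3
  unfold Matrix.trace
  simp only [Matrix.diag_apply, h1]
  rw [Fintype.sum_option, ← Finset.add_sum_erase _ _ (Finset.mem_univ (0 : K)), Finset.sum_eq_zero]
  · unfold ph mv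
    rw [if_neg (by simp), if_pos rfl, if_pos rfl, Pi.sub_apply, Pi.sub_apply, Pi.single_eq_same, Pi.single_eq_same,
      Pi.single_eq_of_ne (by simp), Pi.single_eq_of_ne (by simp)]
    field_simp
    norm_num
  · intro x hx
    have hx0 := Finset.ne_of_mem_erase hx
    unfold ph
    rw [if_neg (by simpa using hx0), if_neg (by simp), zero_mul]

section main

variable (hT : ∀ g, (ρ g : Matrix (Fin n) (Fin n) F).trace = (fix g : F) - 2)
  (hspan : Submodule.span F (Set.range fun g => (ρ g : Matrix (Fin n) (Fin n) F)) = ⊤)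
  (hN : (2 : F) * (Fintype.card Kˣ : F) ≠ 0) {iu : Kˣ} (hi : (iu : K) ^ 2 = -1)

include hT hspan hN hi

theorem RA_mul_f0 {α : MonoidAlgebra F (_root_.Matrix.SpecialLinearGroup (Fin 2) K)} (h : PA F α *ᵥ mv K F = 0) :
    RA ρ α * RA ρ (f0 K F) = 0 := by
  rw [← map_mul]
  refine RA_eq_zero ρ hT hspan (ext_single fun j => ?_) ?_
  · rw [map_mul, ← Matrix.mulVec_mulVec, PA_f0_single hN hi, Matrix.mulVec_smul, h, smul_zero, Matrix.zero_mulVec]
  · rw [map_mul, EA_f0, mul_zero]

omit hspan in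
theorem RA_f0_ne : RA ρ (f0 K F) ≠ 0 := by
  intro h
  have h1 := trace_RA ρ hT (f0 K F)
  rw [h, Matrix.trace_zero, trace_PA_f0 hN hi, EA_f0, mul_zero, sub_zero] at h1
  exact zero_ne_one h1

omit hT hN hi in
theorem RA_surj (A : Matrix (Fin n) (Fin n) F) : ∃ α, RA ρ α = A := by
  have hA : A ∈ Submodule.span F (Set.range fun g => (ρ g : Matrix (Fin n) (Fin n) F)) := by rw [hspan]; trivial
  induction hA using Submodule.span_induction with
  | mem x hx =>
    obtain ⟨g, rfl⟩ := hx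
    exact ⟨og F g, RA_og ρ g⟩
  | zero => exact ⟨0, map_zero _⟩
  | add x y _ _ hx hy =>
    obtain ⟨a, ha⟩ := hx
    obtain ⟨b, hb⟩ := hy
    exact ⟨a + b, by rw [map_add, ha, hb]⟩
  | smul c x _ hx =>
    obtain ⟨a, ha⟩ := hx
    exact ⟨c • a, by rw [map_smul, ha]⟩

theorem RA_f0_idem : RA ρ (f0 K F) * RA ρ (f0 K F) = RA ρ (f0 K F) := by
  have h := RA_mul_f0 ρ hT hspan hN hi (α := f0 K F - 1) (by
    rw [map_sub, map_one, Matrix.sub_mulVec, Matrix.one_mulVec, PA_f0_mv hN hi, sub_self])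
  rw [map_sub, map_one, sub_mul, one_mul, sub_eq_zero] at h
  exact h

/-- The idempotent has rank one. -/
theorem RA_f0_compress (A : Matrix (Fin n) (Fin n) F) :
    ∃ c : F, RA ρ (f0 K F) * A * RA ρ (f0 K F) = c • RA ρ (f0 K F) := by
  obtain ⟨α, rfl⟩ := RA_surj ρ hspan A
  refine ⟨∑ j, (PA F α *ᵥ mv K F) j * ph K F j, ?_⟩
  have h := RA_mul_f0 ρ hT hspan hN hi (α := f0 K F * α - (∑ j, (PA F α *ᵥ mv K F) j * ph K F j) • 1) (by
    rw [map_sub, map_smul, map_one, Matrix.sub_mulVec, Matrix.smul_mulVec, Matrix.one_mulVec, map_mul,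
      ← Matrix.mulVec_mulVec, PA_f0 hN hi, sub_self])
  rw [map_sub, map_mul, map_smul, map_one, sub_mul, smul_mul_assoc, one_mul, sub_eq_zero] at h
  exact h

/-- **The data**: a vector `v₀` with its properties. -/
theorem exists_v0 : ∃ v0 : Fin n → F, v0 ≠ 0 ∧ RA ρ (f0 K F) *ᵥ v0 = v0 ∧
    (∀ a : Kˣ, (ρ (t a) : Matrix (Fin n) (Fin n) F) *ᵥ v0 = v0) ∧
    (∀ c : Kˣ, (ρ (w c) : Matrix (Fin n) (Fin n) F) *ᵥ v0 = -v0) ∧
    ∀ x : K, x ≠ 0 → (ρ (w 1) : Matrix (Fin n) (Fin n) F) *ᵥ ((ρ (u x) : Matrix (Fin n) (Fin n) F) *ᵥ v0) =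
      (ρ (u (-x⁻¹)) : Matrix (Fin n) (Fin n) F) *ᵥ v0 - v0 := by
  have h0 : ∃ y, RA ρ (f0 K F) *ᵥ y ≠ 0 := by
    by_contra hcon
    push Not at hcon
    apply RA_f0_ne ρ hT hN hi
    ext i j
    have := congrFun (hcon (Pi.single j 1)) i
    rw [Matrix.mulVec_single] at this
    simpa using this
  obtain ⟨y, hy⟩ := h0
  have key : ∀ α : MonoidAlgebra F (_root_.Matrix.SpecialLinearGroup (Fin 2) K), PA F α *ᵥ mv K F = 0 →
      RA ρ α *ᵥ (RA ρ (f0 K F) *ᵥ y) = 0 := by
    intro α h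
    rw [Matrix.mulVec_mulVec, RA_mul_f0 ρ hT hspan hN hi h, Matrix.zero_mulVec]
  refine ⟨RA ρ (f0 K F) *ᵥ y, hy, ?_, fun a => ?_, fun c => ?_, fun x hx => ?_⟩
  · rw [Matrix.mulVec_mulVec, RA_f0_idem ρ hT hspan hN hi]
  · have h := key (og F (t a) - 1) (by
      rw [map_sub, map_one, Matrix.sub_mulVec, Matrix.one_mulVec]
      unfold mv
      rw [Matrix.mulVec_sub, PA_og_single, PA_og_single, act_t_none, act_t, mul_zero, sub_self])
    rw [map_sub, map_one, Matrix.sub_mulVec, Matrix.one_mulVec, RA_og, sub_eq_zero] at h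
    exact h
  · have h := key (og F (w c) + 1) (by
      rw [map_add, map_one, Matrix.add_mulVec, Matrix.one_mulVec]
      unfold mv
      rw [Matrix.mulVec_sub, PA_og_single, PA_og_single, act_w_none, act_w_zero]
      abel)
    rw [map_add, map_one, Matrix.add_mulVec, Matrix.one_mulVec, RA_og] at h
    exact eq_neg_of_add_eq_zero_left h
  · have h := key (og F (w 1) * og F (u x) - og F (u (-x⁻¹)) + 1) (by
      rw [map_add, map_sub, map_mul, map_one, Matrix.add_mulVec, Matrix.sub_mulVec, Matrix.one_mulVec,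
        ← Matrix.mulVec_mulVec]
      unfold mv
      rw [Matrix.mulVec_sub, Matrix.mulVec_sub, PA_og_single, PA_og_single, Matrix.mulVec_sub, PA_og_single,
        PA_og_single, PA_og_single, PA_og_single, act_u_none, act_u_none, act_w_none, act_u, act_u, add_zero, add_zero,
        act_w 1 hx, Units.val_one, one_pow, one_mul]
      abel)
    rw [map_add, map_sub, map_mul, map_one, Matrix.add_mulVec, Matrix.sub_mulVec, Matrix.one_mulVec,
        ← Matrix.mulVec_mulVec, RA_og, RA_og, RA_og] at h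
    have h3 := eq_neg_of_add_eq_zero_left h
    rw [sub_eq_iff_eq_add] at h3
    rw [h3]
    abel

theorem RA_f0_of_fixed {v : Fin n → F} (ht : ∀ a : Kˣ, (ρ (t a) : Matrix (Fin n) (Fin n) F) *ᵥ v = v)
    (hw : ∀ c : Kˣ, (ρ (w c) : Matrix (Fin n) (Fin n) F) *ᵥ v = -v) : RA ρ (f0 K F) *ᵥ v = v := by
  have h2 : (2 : F) ≠ 0 := left_ne_zero_of_mul hN
  have hr : (Fintype.card Kˣ : F) ≠ 0 := right_ne_zero_of_mul hN
  unfold f0
  rw [map_smul, map_sub, map_sum, map_sum, Matrix.smul_mulVec, Matrix.sub_mulVec, Matrix.sum_mulVec,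
      Matrix.sum_mulVec]
  simp only [RA_og, ht, hw, Finset.sum_const, Finset.card_univ]
  rw [smul_neg, sub_neg_eq_add, ← Nat.cast_smul_eq_nsmul F, ← two_smul F, smul_smul, smul_smul,
    mul_assoc, inv_mul_cancel₀ hN, one_smul]

/-- **Uniqueness** of `v₀` up to scalars. -/
theorem unique_v0 {v0 : Fin n → F} (hv0 : v0 ≠ 0) (hf : RA ρ (f0 K F) *ᵥ v0 = v0) {v : Fin n → F}
    (ht : ∀ a : Kˣ, (ρ (t a) : Matrix (Fin n) (Fin n) F) *ᵥ v = v)
    (hw : ∀ c : Kˣ, (ρ (w c) : Matrix (Fin n) (Fin n) F) *ᵥ v = -v) : ∃ c : F, v = c • v0 := by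
  obtain ⟨A, hA⟩ : ∃ A : Matrix (Fin n) (Fin n) F, A *ᵥ v0 = v := by
    obtain ⟨j, hj⟩ : ∃ j, v0 j ≠ 0 := by
      by_contra hcon
      push Not at hcon
      exact hv0 (funext hcon)
    refine ⟨fun i k => if k = j then v i * (v0 j)⁻¹ else 0, ?_⟩
    ext i
    simp only [Matrix.mulVec, dotProduct]
    rw [Finset.sum_eq_single j]
    · rw [if_pos rfl, mul_assoc, inv_mul_cancel₀ hj, mul_one]
    · intro b _ hb
      rw [if_neg hb, zero_mul]
    · intro h; exact absurd (Finset.mem_univ j) h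
  obtain ⟨c, hc⟩ := RA_f0_compress ρ hT hspan hN hi A
  refine ⟨c, ?_⟩
  have h1 := congrArg (fun M => M *ᵥ v0) hc
  simp only [← Matrix.mulVec_mulVec, Matrix.smul_mulVec, hf, hA] at h1
  rw [RA_f0_of_fixed ρ hT hspan hN hi ht hw] at h1
  exact h1

end main

end Cfsg.Agent.H114.Rt
end

-- part: H114/RtTrace
section
/-!
# Cuspidal representations of `SL₂(K)` whose character is `fix - 2` (helper114)
-/

set_option autoImplicit false
set_option linter.unusedSectionVars false

namespace Cfsg.Agent.H114.Rt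

open Matrix Module Cfsg.Agent.H464.Sl2

variable {K : Type*} [Field K] [Fintype K] [DecidableEq K]

/-- number of square roots -/
noncomputable def nsq (δ : K) : ℕ := (Finset.univ.filter fun y : K => y ^ 2 = δ).card

theorem nsq_zero : nsq (0 : K) = 1 := by
  unfold nsq
  have : (Finset.univ.filter fun y : K => y ^ 2 = 0) = {0} := by
    ext y
    simp
  rw [this, Finset.card_singleton]

theorem nsq_sq (h2 : (2 : K) ≠ 0) {s : K} (hs : s ≠ 0) : nsq (s ^ 2) = 2 := by
  unfold nsq
  have : (Finset.univ.filter fun y : K => y ^ 2 = s ^ 2) = {s, -s} := by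
    ext y
    simp only [Finset.mem_filter, Finset.mem_univ, true_and, Finset.mem_insert, Finset.mem_singleton]
    exact sq_eq_sq_iff_eq_or_eq_neg
  rw [this, Finset.card_pair]
  intro h
  apply hs
  have h3 : 2 * s = 0 := by linear_combination h
  exact (mul_eq_zero.1 h3).resolve_left h2

theorem nsq_non {δ : K} (h : ¬ IsSquare δ) : nsq δ = 0 := by
  unfold nsq
  rw [Finset.card_eq_zero, Finset.filter_eq_empty_iff]
  intro y _ hy
  exact h ⟨y, by rw [← hy, sq]⟩

theorem fix_lower_card (h2 : (2 : K) ≠ 0) {g : _root_.Matrix.SpecialLinearGroup (Fin 2) K} (hg : g.1 1 0 ≠ 0) :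
    fix g = nsq ((g.1 0 0 + g.1 1 1) ^ 2 - 4) := by
  have hdet : g.1 0 0 * g.1 1 1 - g.1 0 1 * g.1 1 0 = 1 := by
    have := g.2
    rwa [Matrix.det_fin_two] at this
  have h4 : (4 : K) ≠ 0 := by
    have : (4 : K) = 2 * 2 := by norm_num
    rw [this]
    exact mul_ne_zero h2 h2
  rw [fix_lower hg]
  unfold nsq
  refine Finset.card_bij (fun x _ => 2 * g.1 1 0 * x + (g.1 1 1 - g.1 0 0)) ?_ ?_ ?_
  · intro x hx
    rw [Finset.mem_filter] at hx ⊢
    refine ⟨Finset.mem_univ _, ?_⟩
    linear_combination (4 * g.1 1 0) * hx.2 - 4 * hdet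
  · intro x _ y _ h
    have h3 : (2 * g.1 1 0) * (x - y) = 0 := by linear_combination h
    exact sub_eq_zero.1 ((mul_eq_zero.1 h3).resolve_left (mul_ne_zero h2 hg))
  · intro y hy
    rw [Finset.mem_filter] at hy
    refine ⟨(y - (g.1 1 1 - g.1 0 0)) / (2 * g.1 1 0), ?_, ?_⟩
    · rw [Finset.mem_filter]
      refine ⟨Finset.mem_univ _, ?_⟩
      have h5 : (4 * g.1 1 0) * (g.1 1 0 * ((y - (g.1 1 1 - g.1 0 0)) / (2 * g.1 1 0)) ^ 2 +
        (g.1 1 1 - g.1 0 0) * ((y - (g.1 1 1 - g.1 0 0)) / (2 * g.1 1 0)) - g.1 0 1) = 0 := by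
        have h6 : (2 * g.1 1 0) * ((y - (g.1 1 1 - g.1 0 0)) / (2 * g.1 1 0)) = y - (g.1 1 1 - g.1 0 0) :=
          mul_div_cancel₀ _ (mul_ne_zero h2 hg)
        generalize (y - (g.1 1 1 - g.1 0 0)) / (2 * g.1 1 0) = z at h6 ⊢
        have h7 := hy.2
        linear_combination h7 + 4 * hdet + (2 * g.1 1 0 * z + 2 * (g.1 1 1 - g.1 0 0) + y - (g.1 1 1 - g.1 0 0)) * h6
      exact (mul_eq_zero.1 h5).resolve_left (mul_ne_zero h4 hg)
    · rw [mul_div_cancel₀ _ (mul_ne_zero h2 hg)]
      ring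

theorem eq_t_of_upper {g : _root_.Matrix.SpecialLinearGroup (Fin 2) K} (h10 : g.1 1 0 = 0) (h01 : g.1 0 1 = 0)
    (h : g.1 0 0 = g.1 1 1) : ∃ ε : Kˣ, ε ^ 2 = 1 ∧ g = t ε := by
  have hdet : g.1 0 0 * g.1 1 1 - g.1 0 1 * g.1 1 0 = 1 := by
    have := g.2
    rwa [Matrix.det_fin_two] at this
  rw [h10, h01, mul_zero, sub_zero] at hdet
  refine ⟨⟨g.1 0 0, g.1 1 1, hdet, by rw [mul_comm]; exact hdet⟩, ?_, ?_⟩
  · apply Units.ext
    rw [Units.val_pow_eq_pow_val, Units.val_one]
    change g.1 0 0 ^ 2 = 1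
    rw [sq]
    nth_rewrite 2 [h]
    exact hdet
  · apply Subtype.ext
    ext i j
    fin_cases i <;> fin_cases j
    · rfl
    · exact h01
    · exact h10
    · rfl

theorem fix_noncentral (h2 : (2 : K) ≠ 0) {g : _root_.Matrix.SpecialLinearGroup (Fin 2) K} (hg : ∀ ε : Kˣ, ε ^ 2 = 1 → g ≠ t ε) :
    fix g = nsq ((g.1 0 0 + g.1 1 1) ^ 2 - 4) := by
  by_cases h10 : g.1 1 0 = 0
  · have hdet : g.1 0 0 * g.1 1 1 = 1 := by
      have := g.2
      rw [Matrix.det_fin_two, h10, mul_zero, sub_zero] at this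
      exact this
    rw [fix_upper h10]
    by_cases h : g.1 0 0 = g.1 1 1
    · have h01 : g.1 0 1 ≠ 0 := by
        intro h01
        obtain ⟨ε, hε, h3⟩ := eq_t_of_upper h10 h01 h
        exact hg ε hε h3
      have h3 : (g.1 0 0 + g.1 1 1) ^ 2 - 4 = 0 := by
        linear_combination (g.1 0 0 - g.1 1 1) * h + 4 * hdet
      rw [h3, nsq_zero]
      have h5 : (Finset.univ.filter fun x : K => (g.1 0 0 - g.1 1 1) * x + g.1 0 1 = 0) = ∅ := by
        rw [Finset.filter_eq_empty_iff]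
        intro x _ hx
        rw [h, sub_self, zero_mul, zero_add] at hx
        exact h01 hx
      rw [h5, Finset.card_empty]
    · have h3 : (g.1 0 0 + g.1 1 1) ^ 2 - 4 = (g.1 0 0 - g.1 1 1) ^ 2 := by linear_combination 4 * hdet
      have h4 := sub_ne_zero.2 h
      rw [h3, nsq_sq h2 h4]
      have h5 : (Finset.univ.filter fun x : K => (g.1 0 0 - g.1 1 1) * x + g.1 0 1 = 0) =
          {-(g.1 0 1) / (g.1 0 0 - g.1 1 1)} := by
        ext x
        simp only [Finset.mem_filter, Finset.mem_univ, true_and, Finset.mem_singleton]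
        rw [eq_div_iff h4]
        constructor
        · intro h; linear_combination h
        · intro h; linear_combination h
      rw [h5, Finset.card_singleton]
  · exact fix_lower_card h2 h10

theorem fix_t {ε : Kˣ} (hε : ε ^ 2 = 1) : fix (t ε) = Fintype.card K + 1 := by
  unfold fix
  have h5 : ∀ x : Option K, act (t ε) x = x := by
    intro x
    have hε' : (ε : K) ^ 2 = 1 := by
      have := congrArg (fun z : Kˣ => (z : K)) hε
      simpa only [_root_.sq_eq_one_iff, _root_.Units.val_eq_one, _root_.Units.val_eq_neg_one, _root_.Units.val_pow_eq_pow_val, _root_.Units.val_one] using this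
    rcases x with _ | x
    · exact act_t_none ε
    · rw [act_t, hε', one_mul]
  simp only [h5, Finset.filter_true, Finset.card_univ, Fintype.card_option]

section

variable {k : Type*} [Field k] {V : Type*} [AddCommGroup V] [Module k V]
  [FiniteDimensional k V] (R : _root_.Matrix.SpecialLinearGroup (Fin 2) K →* Module.End k V) {ψ : AddChar K k}
  (hψ : ψ.IsPrimitive) (hK : (Fintype.card K : k) ≠ 0)

include hψ hK

/-- **The trace is the number of fixed points minus two.** -/
theorem chi_eq_fix (h2 : (2 : K) ≠ 0) (h3K : 3 ≤ Fintype.card K) (hspan : Submodule.span k (Set.range R) = ⊤)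
    (hall : ∀ b : K, b ≠ 0 → finrank k (LinearMap.range (E R ψ b)) = 1)
    (h0 : finrank k (LinearMap.range (E R ψ 0)) = 0) (hc : ∀ ε : Kˣ, ε ^ 2 = 1 → R (t ε) = 1)
    (hns : ∀ τ : K, NonSplit τ → chi R (Zt τ) = -2) (g : _root_.Matrix.SpecialLinearGroup (Fin 2) K) :
    chi R g = (fix g : k) - 2 := by
  by_cases hg : ∃ ε : Kˣ, ε ^ 2 = 1 ∧ g = t ε
  · obtain ⟨ε, hε, rfl⟩ := hg
    rw [fix_t hε]
    unfold chi
    rw [hc ε hε, LinearMap.trace_one, finrank_eq_sum R hψ hK,
        ← Finset.add_sum_erase _ _ (Finset.mem_univ (0 : K)), h0, zero_add,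
        Finset.sum_congr rfl fun b hb => hall b (Finset.ne_of_mem_erase hb), Finset.sum_const,
        Finset.card_erase_of_mem (Finset.mem_univ _), Finset.card_univ, smul_eq_mul, mul_one,
        Nat.cast_sub Fintype.card_pos, Nat.cast_one]
    push_cast
    ring
  · push Not at hg
    rw [fix_noncentral h2 hg, chi_eq R hψ hK h3K hspan hall hg]
    set τ := g.1 0 0 + g.1 1 1 with hτ
    have h4 : (4 : K) ≠ 0 := by
      have : (4 : K) = 2 * 2 := by norm_num
      rw [this]
      exact mul_ne_zero h2 h2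
    by_cases hsq : IsSquare (τ ^ 2 - 4)
    · obtain ⟨s, hs⟩ := hsq
      by_cases hs0 : s = 0
      · rw [hs, hs0, mul_zero, nsq_zero]
        -- `τ = 2 ε`
        have h5 : τ ^ 2 - 4 = 0 := by rw [hs, hs0, mul_zero]
        obtain ⟨h, ε, y, hε, h1⟩ := exists_conj_unip g h5
        have h6 : τ = (t ε).1 0 0 + (t ε).1 1 1 := by
          have h7 := tr_conj h (t ε * u y)
          rw [← h1, ← hτ] at h7
          rw [h7]
          have e2 : (t ε * u y).1 = !![(ε : K), ε * y; 0, ((ε⁻¹ : Kˣ) : K)] := by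
            change !![(ε : K), 0; 0, ((ε⁻¹ : Kˣ) : K)] * !![1, y; 0, 1] = _
            ext i j
            (revert i j; simp only [Matrix.mul_apply, Fin.sum_univ_two, _root_.Fin.forall_fin_succ, _root_.Units.val_inv_eq_inv_val, _root_.Matrix.of_apply, _root_.Matrix.cons_val', _root_.Matrix.cons_val_fin_one, Fin.isValue, _root_.Matrix.cons_val_zero, _root_.Matrix.cons_val_one, _root_.mul_one, _root_.MulZeroClass.mul_zero, _root_.add_zero, _root_.Matrix.cons_val_succ, _root_.forall_const, _root_.true_and, _root_.MulZeroClass.zero_mul, _root_.zero_add, _root_.implies_true, _root_.and_self])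
          rw [e2]
          rfl
        have h7 := ct_central R hψ hK h3K hspan hall hε (c := 1) (by rw [hc ε hε, one_smul])
        rw [← h6, h0, Nat.cast_zero, zero_sub, one_mul] at h7
        rw [h7]
        norm_num
      · rw [hs, ← sq, nsq_sq h2 hs0]
        -- `a = (τ + s) / 2`
        have hprod : ((τ + s) / 2) * ((τ - s) / 2) = 1 := by
          field_simp
          linear_combination hs
        let a : Kˣ := ⟨(τ + s) / 2, (τ - s) / 2, hprod, by rw [mul_comm]; exact hprod⟩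
        have ha : a ^ 2 ≠ 1 := by
          intro h
          have h5 : a⁻¹ = a := by
            rw [inv_eq_iff_mul_eq_one, ← sq, h]
          have h6 : (τ - s) / 2 = (τ + s) / 2 := congrArg (fun z : Kˣ => (z : K)) h5
          apply hs0
          have h7 : 2 * s = 0 := by
            field_simp at h6
            linear_combination -h6
          exact (mul_eq_zero.1 h7).resolve_left h2
        have h5 : chi R (t a) = ct R τ := by
          rw [chi_eq R hψ hK h3K hspan hall (g := t a)]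
          · congr 1
            change (τ + s) / 2 + (τ - s) / 2 = τ
            field_simp
            ring
          · intro ε hε h
            apply ha
            have h6 : (a : K) = ε := congrFun (congrFun (congrArg Subtype.val h) 0) 0
            rw [Units.ext h6, hε]
        have h6 : E R ψ 0 = 0 := by
          rw [Submodule.finrank_eq_zero, LinearMap.range_eq_bot] at h0
          exact h0
        rw [← h5, chi_t R hψ hK ha, h6, mul_zero, map_zero]
        norm_num
    · rw [nsq_non hsq]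
      have hτn : NonSplit τ := by
        intro x hx
        apply hsq
        refine ⟨2 * x - τ, ?_⟩
        linear_combination (-4) * hx
      have h5 : ct R τ = chi R (Zt τ) := rfl
      rw [h5, hns τ hτn]
      norm_num

end

end Cfsg.Agent.H114.Rt
end

-- part: H114/RtConj
section
/-!
# Elements of order 3 in `SL₂(q)`, `q = 1 mod 3` (helper114)
-/

set_option autoImplicit false
set_option linter.unusedSectionVars false

namespace Cfsg.Agent.H114.Rt

open Matrix Module Cfsg.Agent.H464.Sl2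

variable {K : Type*} [Field K]

theorem eq_t_of_off {g : _root_.Matrix.SpecialLinearGroup (Fin 2) K} (h10 : g.1 1 0 = 0) (h01 : g.1 0 1 = 0) :
    ∃ a : Kˣ, g = t a := by
  have hdet : g.1 0 0 * g.1 1 1 - g.1 0 1 * g.1 1 0 = 1 := by
    have := g.2
    rwa [Matrix.det_fin_two] at this
  rw [h10, h01, mul_zero, sub_zero] at hdet
  refine ⟨⟨g.1 0 0, g.1 1 1, hdet, by rw [mul_comm]; exact hdet⟩, ?_⟩
  apply Subtype.ext
  ext i j
  fin_cases i <;> fin_cases j
  · rfl
  · exact h01
  · exact h10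
  · rfl

theorem eq_w_of_diag {g : _root_.Matrix.SpecialLinearGroup (Fin 2) K} (h00 : g.1 0 0 = 0) (h11 : g.1 1 1 = 0) :
    ∃ c : Kˣ, g = w c := by
  have hdet : g.1 0 0 * g.1 1 1 - g.1 0 1 * g.1 1 0 = 1 := by
    have := g.2
    rwa [Matrix.det_fin_two] at this
  rw [h00, zero_mul, zero_sub] at hdet
  refine ⟨⟨g.1 1 0, -g.1 0 1, by linear_combination hdet, by linear_combination hdet⟩, ?_⟩
  apply Subtype.ext
  ext i j
  fin_cases i <;> fin_cases j
  · exact h00
  · exact (neg_neg _).symm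
  · rfl
  · exact h11

theorem entries_mul_t (g : _root_.Matrix.SpecialLinearGroup (Fin 2) K) (a : Kˣ) :
    (g * t a).1 = !![g.1 0 0 * a, g.1 0 1 * ((a⁻¹ : Kˣ) : K); g.1 1 0 * a, g.1 1 1 * ((a⁻¹ : Kˣ) : K)] := by
  change g.1 * !![(a : K), 0; 0, ((a⁻¹ : Kˣ) : K)] = _
  ext i j
  (revert i j; simp only [Matrix.mul_apply, Fin.sum_univ_two, _root_.Fin.forall_fin_succ, _root_.Units.val_inv_eq_inv_val, _root_.Matrix.of_apply, _root_.Matrix.cons_val', _root_.Matrix.cons_val_fin_one, Fin.isValue, _root_.Matrix.cons_val_zero, _root_.Matrix.cons_val_one, _root_.MulZeroClass.mul_zero, _root_.add_zero, _root_.Matrix.cons_val_succ, _root_.zero_add, _root_.forall_const, _root_.and_self, _root_.mul_eq_mul_right_iff, _root_.Units.ne_zero, _root_.or_false, _root_.inv_eq_zero, _root_.Fin.succ_zero_eq_one, _root_.IsEmpty.forall_iff])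

theorem entries_t_mul (g : _root_.Matrix.SpecialLinearGroup (Fin 2) K) (a : Kˣ) :
    (t a * g).1 = !![(a : K) * g.1 0 0, (a : K) * g.1 0 1; ((a⁻¹ : Kˣ) : K) * g.1 1 0, ((a⁻¹ : Kˣ) : K) * g.1 1 1] := by
  change !![(a : K), 0; 0, ((a⁻¹ : Kˣ) : K)] * g.1 = _
  ext i j
  (revert i j; simp only [Matrix.mul_apply, Fin.sum_univ_two, _root_.Fin.forall_fin_succ, _root_.Units.val_inv_eq_inv_val, _root_.Matrix.of_apply, _root_.Matrix.cons_val', _root_.Matrix.cons_val_fin_one, Fin.isValue, _root_.Matrix.cons_val_zero, _root_.Matrix.cons_val_one, _root_.Matrix.cons_val_succ, _root_.Fin.succ_zero_eq_one, _root_.IsEmpty.forall_iff, _root_.and_true, _root_.MulZeroClass.zero_mul, _root_.add_zero, _root_.and_self, _root_.zero_add, _root_.implies_true])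

theorem sub_inv_ne {a : Kˣ} (ha : a ^ 2 ≠ 1) : (a : K) - ((a⁻¹ : Kˣ) : K) ≠ 0 := by
  intro h
  apply ha
  have h1 : a = a⁻¹ := Units.ext (sub_eq_zero.1 h)
  rw [sq]
  nth_rewrite 2 [h1]
  exact mul_inv_cancel a

theorem eq_t_of_comm {g : _root_.Matrix.SpecialLinearGroup (Fin 2) K} {a : Kˣ} (ha : a ^ 2 ≠ 1) (h : g * t a = t a * g) :
    ∃ b : Kˣ, g = t b := by
  have h1 := congrArg Subtype.val h
  rw [entries_mul_t, entries_t_mul] at h1
  have h2 := congrFun (congrFun h1 0) 1
  have h3 := congrFun (congrFun h1 1) 0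
  have h2' : g.1 0 1 * ((a⁻¹ : Kˣ) : K) = (a : K) * g.1 0 1 := h2
  have h3' : g.1 1 0 * (a : K) = ((a⁻¹ : Kˣ) : K) * g.1 1 0 := h3
  have hne := sub_inv_ne ha
  apply eq_t_of_off
  · have h4 : g.1 1 0 * ((a : K) - ((a⁻¹ : Kˣ) : K)) = 0 := by linear_combination h3'
    exact (mul_eq_zero.1 h4).resolve_right hne
  · have h4 : g.1 0 1 * ((a : K) - ((a⁻¹ : Kˣ) : K)) = 0 := by linear_combination -h2'
    exact (mul_eq_zero.1 h4).resolve_right hne

theorem eq_w_of_inv {g : _root_.Matrix.SpecialLinearGroup (Fin 2) K} {a : Kˣ} (ha : a ^ 2 ≠ 1) (h : g * t a = t a⁻¹ * g) :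
    ∃ c : Kˣ, g = w c := by
  have h1 := congrArg Subtype.val h
  rw [entries_mul_t, entries_t_mul, inv_inv] at h1
  have h2 := congrFun (congrFun h1 0) 0
  have h3 := congrFun (congrFun h1 1) 1
  have h2' : g.1 0 0 * (a : K) = ((a⁻¹ : Kˣ) : K) * g.1 0 0 := h2
  have h3' : g.1 1 1 * ((a⁻¹ : Kˣ) : K) = (a : K) * g.1 1 1 := h3
  have hne := sub_inv_ne ha
  apply eq_w_of_diag
  · have h4 : g.1 0 0 * ((a : K) - ((a⁻¹ : Kˣ) : K)) = 0 := by linear_combination h2'
    exact (mul_eq_zero.1 h4).resolve_right hne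
  · have h4 : g.1 1 1 * ((a : K) - ((a⁻¹ : Kˣ) : K)) = 0 := by linear_combination -h3'
    exact (mul_eq_zero.1 h4).resolve_right hne

theorem w_conj_t (a : Kˣ) : w 1 * t a * (w 1)⁻¹ = t a⁻¹ := by
  rw [mul_inv_eq_iff_eq_mul]
  apply Subtype.ext
  change !![0, -((1⁻¹ : Kˣ) : K); ((1 : Kˣ) : K), 0] * !![(a : K), 0; 0, ((a⁻¹ : Kˣ) : K)] =
    !![((a⁻¹ : Kˣ) : K), 0; 0, ((a⁻¹⁻¹ : Kˣ) : K)] * !![0, -((1⁻¹ : Kˣ) : K); ((1 : Kˣ) : K), 0]
  ext i j
  (revert i j; simp only [Matrix.mul_apply, Fin.sum_univ_two, _root_.Fin.forall_fin_succ, _root_.inv_one, _root_.Units.val_one, _root_.Units.val_inv_eq_inv_val, _root_.Matrix.of_apply, _root_.Matrix.cons_val', _root_.Matrix.cons_val_fin_one, Fin.isValue, _root_.Matrix.cons_val_zero, _root_.Matrix.cons_val_one, _root_.inv_inv, _root_.MulZeroClass.mul_zero, _root_.add_zero, _root_.mul_one, _root_.zero_add, _root_.Matrix.cons_val_succ, _root_.mul_neg, _root_.forall_const, _root_.MulZeroClass.zero_mul, _root_.neg_mul, _root_.one_mul,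 _root_.and_self, _root_.neg_zero, _root_.implies_true])

variable [Fintype K] [DecidableEq K]

/-- transitivity on the projective line -/
theorem exists_act (x : Option K) : ∃ k : _root_.Matrix.SpecialLinearGroup (Fin 2) K, act k none = x := by
  rcases x with _ | x
  · exact ⟨1, act_one _⟩
  · exact ⟨u x * w 1, by rw [act_mul, act_w_none, act_u, add_zero]⟩

theorem upper_of_fix {g : _root_.Matrix.SpecialLinearGroup (Fin 2) K} (h : act g none = none) : g.1 1 0 = 0 := by
  by_contra hne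
  rw [act_none, if_neg hne] at h
  exact absurd h (by simp)

/-- A split noncentral element is conjugate to a diagonal one. -/
theorem exists_conj_t (h2 : (2 : K) ≠ 0) {g : _root_.Matrix.SpecialLinearGroup (Fin 2) K} {a : Kˣ} (ha : a ^ 2 ≠ 1)
    (hg : g.1 0 0 + g.1 1 1 = (a : K) + ((a⁻¹ : Kˣ) : K)) :
    ∃ k : _root_.Matrix.SpecialLinearGroup (Fin 2) K, g = k * t a * k⁻¹ := by
  have hne := sub_inv_ne ha
  have hai : (a : K) * ((a⁻¹ : Kˣ) : K) = 1 := by rw [← Units.val_mul, mul_inv_cancel, Units.val_one]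
  have hd : (g.1 0 0 + g.1 1 1) ^ 2 - 4 = ((a : K) - ((a⁻¹ : Kˣ) : K)) ^ 2 := by
    rw [hg]
    linear_combination 4 * hai
  have hnc : ∀ ε : Kˣ, ε ^ 2 = 1 → g ≠ t ε := by
    rintro ε hε rfl
    have h1 : (t ε).1 0 0 + (t ε).1 1 1 = 2 * (ε : K) := by
      rw [t_val_of_sq hε]
      simp
      ring
    have hε' : (ε : K) ^ 2 = 1 := by
      have := congrArg (fun z : Kˣ => (z : K)) hε
      simpa only [_root_.sq_eq_one_iff, _root_.Units.val_eq_one, _root_.Units.val_eq_neg_one, _root_.Units.val_pow_eq_pow_val, _root_.Units.val_one] using this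
    rw [h1] at hd
    have h3 : ((a : K) - ((a⁻¹ : Kˣ) : K)) ^ 2 = 0 := by
      rw [← hd]
      linear_combination 4 * hε'
    exact hne (pow_eq_zero_iff two_ne_zero |>.1 h3)
  have hfix : fix g = 2 := by
    rw [fix_noncentral h2 hnc, hd, nsq_sq h2 hne]
  obtain ⟨x, hx⟩ : ∃ x, act g x = x := by
    have h3 : (Finset.univ.filter fun x => act g x = x).Nonempty := by
      rw [← Finset.card_pos]
      unfold fix at hfix
      omega
    obtain ⟨x, hx⟩ := h3
    exact ⟨x, (Finset.mem_filter.1 hx).2⟩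
  obtain ⟨k, hk⟩ := exists_act x
  have h4 : act (k⁻¹ * g * k) none = none := by
    rw [act_mul, act_mul, hk, hx, ← hk, ← act_mul, inv_mul_cancel, act_one]
  have h10 := upper_of_fix h4
  set g' := k⁻¹ * g * k with hg'
  have hgg : g = k * g' * k⁻¹ := by rw [hg']; group
  have htr : g'.1 0 0 + g'.1 1 1 = (a : K) + ((a⁻¹ : Kˣ) : K) := by
    have := tr_conj k⁻¹ g
    rw [inv_inv] at this
    rw [← hg, ← this]
  have hdet : g'.1 0 0 * g'.1 1 1 = 1 := by
    have := g'.2
    rw [Matrix.det_fin_two, h10, mul_zero, sub_zero] at this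
    exact this
  -- `g'` is upper triangular with diagonal entry `a` or `a⁻¹`
  have hcase : g'.1 0 0 = (a : K) ∨ g'.1 0 0 = ((a⁻¹ : Kˣ) : K) := by
    have h5 : (g'.1 0 0 - (a : K)) * (g'.1 0 0 - ((a⁻¹ : Kˣ) : K)) = 0 := by
      linear_combination (g'.1 0 0) * htr - hdet + hai
    rcases mul_eq_zero.1 h5 with h | h
    · exact Or.inl (sub_eq_zero.1 h)
    · exact Or.inr (sub_eq_zero.1 h)
  have key : ∀ b : Kˣ, b ^ 2 ≠ 1 → g'.1 0 0 = (b : K) → g'.1 1 1 = ((b⁻¹ : Kˣ) : K) →
      ∃ k1 : _root_.Matrix.SpecialLinearGroup (Fin 2) K, g' = k1 * t b * k1⁻¹ := by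
    intro b hb h00 h11
    have hneb := sub_inv_ne hb
    -- `u z t b u (-z) = [b, z (b⁻¹ - b)]`
    refine ⟨u (-(g'.1 0 1) / ((b : K) - ((b⁻¹ : Kˣ) : K))), ?_⟩
    rw [eq_mul_inv_iff_mul_eq]
    apply Subtype.ext
    set z := -(g'.1 0 1) / ((b : K) - ((b⁻¹ : Kˣ) : K)) with hz
    have hz' : z * ((b : K) - ((b⁻¹ : Kˣ) : K)) = -(g'.1 0 1) := div_mul_cancel₀ _ hneb
    have e1 : g'.1 = !![(b : K), g'.1 0 1; 0, ((b⁻¹ : Kˣ) : K)] := by
      ext i j
      fin_cases i <;> fin_cases j
      · exact h00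
      · rfl
      · exact h10
      · exact h11
    change g'.1 * !![1, z; 0, 1] = !![1, z; 0, 1] * !![(b : K), 0; 0, ((b⁻¹ : Kˣ) : K)]
    rw [e1]
    ext i j
    (revert i j; simp only [Matrix.mul_apply, Fin.sum_univ_two, _root_.Fin.forall_fin_succ, Fin.isValue, _root_.Units.val_inv_eq_inv_val, _root_.Matrix.of_apply, _root_.Matrix.cons_val', _root_.Matrix.cons_val_fin_one, _root_.Matrix.cons_val_zero, _root_.Matrix.cons_val_one, _root_.mul_one, _root_.MulZeroClass.mul_zero, _root_.add_zero, _root_.Matrix.cons_val_succ, _root_.zero_add, _root_.forall_const, _root_.one_mul, _root_.MulZeroClass.zero_mul, _root_.implies_true, _root_.and_true, _root_.true_and]) <;> (repeat' with_reducible apply And.intro)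
    rw [← Units.val_inv_eq_inv_val]
    linear_combination hz'
  rcases hcase with h | h
  · have h11 : g'.1 1 1 = ((a⁻¹ : Kˣ) : K) := by linear_combination htr - h
    obtain ⟨k1, hk1⟩ := key a ha h h11
    refine ⟨k * k1, ?_⟩
    rw [hgg, hk1]
    group
  · have h11 : g'.1 1 1 = ((a⁻¹⁻¹ : Kˣ) : K) := by rw [inv_inv]; linear_combination htr - h
    have ha' : (a⁻¹) ^ 2 ≠ 1 := by
      intro h
      apply ha
      rw [inv_pow, inv_eq_one] at h
      exact h
    obtain ⟨k1, hk1⟩ := key a⁻¹ ha' h h11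
    refine ⟨k * k1 * w 1, ?_⟩
    rw [hgg, hk1, ← w_conj_t]
    group

/-- Elements of order three. -/
theorem exists_conj_three (h2 : (2 : K) ≠ 0) {ζ : Kˣ} (hζ : ζ ^ 3 = 1) (hζ1 : ζ ≠ 1)
    {g : _root_.Matrix.SpecialLinearGroup (Fin 2) K} (hg : g ^ 3 = 1) (hg1 : g ≠ 1) :
    ∃ k : _root_.Matrix.SpecialLinearGroup (Fin 2) K, g = k * t ζ * k⁻¹ := by
  have hζ2 : ζ ^ 2 ≠ 1 := by
    intro h
    apply hζ1
    have : ζ ^ 3 = ζ ^ 2 * ζ := pow_succ ζ 2
    rw [h, hζ, one_mul] at this
    exact this.symm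
  have hsum : (ζ : K) + ((ζ⁻¹ : Kˣ) : K) = -1 := by
    have h1 : (ζ : K) ^ 3 = 1 := by
      have := congrArg (fun z : Kˣ => (z : K)) hζ
      simpa only [_root_.Units.val_pow_eq_pow_val, _root_.Units.val_one] using this
    have h4 : ((ζ : K) - 1) * ((ζ : K) ^ 2 + ζ + 1) = 0 := by linear_combination h1
    have h5 : (ζ : K) ^ 2 + ζ + 1 = 0 := by
      refine (mul_eq_zero.1 h4).resolve_left ?_
      intro h
      apply hζ1
      apply Units.ext
      rw [Units.val_one]
      exact sub_eq_zero.1 h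
    have h6 := ζ.ne_zero
    rw [Units.val_inv_eq_inv_val]
    field_simp
    linear_combination h5
  have hdet : g.1 0 0 * g.1 1 1 - g.1 0 1 * g.1 1 0 = 1 := by
    have := g.2
    rwa [Matrix.det_fin_two] at this
  apply exists_conj_t h2 hζ2
  rw [hsum]
  obtain ⟨τ, hτ⟩ : ∃ τ, τ = g.1 0 0 + g.1 1 1 := ⟨_, rfl⟩
  rw [← hτ]
  -- Cayley-Hamilton
  have hsq : g.1 * g.1 = τ • g.1 - 1 := by
    ext i j
    (revert i j; simp only [Matrix.mul_apply, Fin.sum_univ_two, hτ, _root_.Fin.forall_fin_succ, Fin.isValue, _root_.Matrix.sub_apply, _root_.Matrix.smul_apply, _root_.smul_eq_mul, _root_.Fin.succ_zero_eq_one, _root_.IsEmpty.forall_iff, _root_.and_true, _root_.Matrix.one_apply_eq, Nat.reduceAdd, _root_.ne_eq, _root_.zero_ne_one, _root_.not_false_eq_true, _root_.Matrix.one_apply_ne, _root_.sub_zero, _root_.Fin.succ_ne_zero]) <;> (repeat' with_reducible apply And.intro) <;>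
      first | linear_combination -hdet | ring_nf
  have hcube : g.1 * (g.1 * g.1) = 1 := by
    have := congrArg Subtype.val hg
    rw [pow_succ, pow_two] at this
    rw [← Matrix.mul_assoc]
    exact this
  have h4 : (τ ^ 2 - 1) • g.1 = (τ + 1) • (1 : Matrix (Fin 2) (Fin 2) K) := by
    rw [hsq, Matrix.mul_sub, Matrix.mul_one, Matrix.mul_smul, hsq, smul_sub, smul_smul] at hcube
    have h5 : (τ ^ 2 - 1) • g.1 = (τ * τ) • g.1 - τ • 1 - g.1 + τ • 1 := by
      rw [sub_smul, one_smul, sq]; abel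
    rw [h5, hcube, add_smul, one_smul, add_comm]
  by_contra hne
  have h5 : τ + 1 ≠ 0 := fun h => hne (by linear_combination h)
  have h6 : (τ - 1) • g.1 = (1 : Matrix (Fin 2) (Fin 2) K) := by
    have h7 : (τ + 1) • ((τ - 1) • g.1) = (τ + 1) • (1 : Matrix (Fin 2) (Fin 2) K) := by
      rw [← h4, smul_smul]
      congr 1
      ring
    exact smul_right_injective _ h5 h7
  have e00 := congrFun (congrFun h6 0) 0
  have e11 := congrFun (congrFun h6 1) 1
  have e01 := congrFun (congrFun h6 0) 1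
  have e10 := congrFun (congrFun h6 1) 0
  simp only [Matrix.smul_apply, smul_eq_mul, Matrix.one_apply_eq] at e00 e11
  simp only [Matrix.smul_apply, smul_eq_mul] at e01 e10
  rw [Matrix.one_apply_ne (by decide)] at e01 e10
  have h7 : τ - 1 ≠ 0 := by
    intro h
    rw [h, zero_mul] at e00
    exact zero_ne_one e00
  have h8 : τ * (τ - 1) = 2 := by linear_combination e00 + e11 + (τ - 1) * hτ
  -- `(τ - 2) (τ + 1) = 0`
  have h9 : (τ - 2) * (τ + 1) = 0 := by linear_combination h8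
  have h10 : τ = 2 := sub_eq_zero.1 ((mul_eq_zero.1 h9).resolve_right h5)
  apply hg1
  apply Subtype.ext
  rw [h10] at h6
  have e : (2 : K) - 1 = 1 := by norm_num
  rw [e, one_smul] at h6
  rw [h6]
  rfl

end Cfsg.Agent.H114.Rt
end

-- part: H114/RtMax
section
/-!
# The root system of a representation of `SL₂(q)` with character `fix - 2`, and its stabiliser (helper114)
-/

set_option autoImplicit false
set_option linter.unusedSectionVars false

namespace Cfsg.Agent.H114.Rt

open Matrix Cfsg Cfsg.Geo Cfsg.Agent.H464.Sl2 Cfsg.Agent.H882.Del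
open Cfsg.Agent.LieClassical.OrthCore Cfsg.Agent.LieClassical.OrthTrans

universe u v

variable {K : Type v} [Field K] [Fintype K] [DecidableEq K] {F : Type u} [Field F] {n : ℕ}
  (ρ : _root_.Matrix.SpecialLinearGroup (Fin 2) K →* GL (Fin n) F)

/-- the vectors -/
noncomputable def vv (v0 : Fin n → F) (x : K) : Fin n → F := (ρ (u x) : Matrix (Fin n) (Fin n) F) *ᵥ v0

/-- the properties of `v₀` -/
structure Good0 (v0 : Fin n → F) : Prop where
  ne : v0 ≠ 0
  ft : ∀ a : Kˣ, (ρ (t a) : Matrix (Fin n) (Fin n) F) *ᵥ v0 = v0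
  fw : ∀ c : Kˣ, (ρ (w c) : Matrix (Fin n) (Fin n) F) *ᵥ v0 = -v0
  fwu : ∀ x : K, x ≠ 0 → (ρ (w 1) : Matrix (Fin n) (Fin n) F) *ᵥ vv ρ v0 x = vv ρ v0 (-x⁻¹) - v0

variable {ρ} {v0 : Fin n → F}

theorem mul_vec (g h : _root_.Matrix.SpecialLinearGroup (Fin 2) K) (y : Fin n → F) :
    (ρ (g * h) : Matrix (Fin n) (Fin n) F) *ᵥ y = (ρ g : Matrix (Fin n) (Fin n) F) *ᵥ
      ((ρ h : Matrix (Fin n) (Fin n) F) *ᵥ y) := by
  rw [map_mul, Units.val_mul, Matrix.mulVec_mulVec]

theorem vv_zero : vv ρ v0 (0 : K) = v0 := by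
  unfold vv
  rw [u_zero, map_one, Units.val_one, Matrix.one_mulVec]

theorem u_vv (y x : K) : (ρ (u y) : Matrix (Fin n) (Fin n) F) *ᵥ vv ρ v0 x = vv ρ v0 (y + x) := by
  unfold vv
  rw [← mul_vec, ← u_add]

namespace Good0

variable (h : Good0 ρ v0)

include h

theorem t_vv (a : Kˣ) (x : K) : (ρ (t a) : Matrix (Fin n) (Fin n) F) *ᵥ vv ρ v0 x = vv ρ v0 ((a : K) ^ 2 * x) := by
  unfold vv
  rw [← mul_vec, t_mul_u, mul_vec, h.ft]

theorem w_zero (c : Kˣ) : (ρ (w c) : Matrix (Fin n) (Fin n) F) *ᵥ vv ρ v0 0 = -v0 := by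
  rw [vv_zero, h.fw]

theorem w_vv (c : Kˣ) {x : K} (hx : x ≠ 0) : (ρ (w c) : Matrix (Fin n) (Fin n) F) *ᵥ vv ρ v0 x =
    vv ρ v0 (-((c : K) ^ 2 * x)⁻¹) - v0 := by
  rw [← w_one_mul_t, mul_vec, h.t_vv, h.fwu _ (mul_ne_zero (pow_ne_zero 2 c.ne_zero) hx)]

/-- every `ρ g v₀` is a root -/
theorem mem_rts (g : _root_.Matrix.SpecialLinearGroup (Fin 2) K) : (ρ g : Matrix (Fin n) (Fin n) F) *ᵥ v0 ∈ rts F (vv ρ v0) := by
  rcases bruhat g with ⟨x, a, rfl⟩ | ⟨x, c, y, rfl⟩
  · rw [mul_vec, h.ft]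
    exact Or.inl ⟨x, 1, Or.inl rfl, by rw [one_smul]; rfl⟩
  · rw [mul_vec, mul_vec]
    change _ *ᵥ (_ *ᵥ vv ρ v0 y) ∈ _
    by_cases hy : y = 0
    · subst hy
      rw [h.w_zero, Matrix.mulVec_neg]
      exact Or.inl ⟨x, -1, Or.inr rfl, by rw [neg_one_smul]; rfl⟩
    · rw [h.w_vv c hy, Matrix.mulVec_sub, u_vv]
      refine Or.inr ⟨x + -((c : K) ^ 2 * y)⁻¹, x, ?_, rfl⟩
      intro h1
      have h2 : ((c : K) ^ 2 * y)⁻¹ = 0 := by linear_combination -h1
      exact (inv_ne_zero (mul_ne_zero (pow_ne_zero 2 c.ne_zero) hy)) h2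

/-- every root is some `ρ g v₀` -/
theorem of_mem_rts {x : Fin n → F} (hx : x ∈ rts F (vv ρ v0)) :
    ∃ g : _root_.Matrix.SpecialLinearGroup (Fin 2) K, x = (ρ g : Matrix (Fin n) (Fin n) F) *ᵥ v0 := by
  rcases hx with ⟨i, ε, hε, rfl⟩ | ⟨i, j, hij, rfl⟩
  · rcases hε with rfl | rfl
    · exact ⟨u i, by rw [one_smul]; rfl⟩
    · refine ⟨u i * w 1, ?_⟩
      rw [mul_vec, h.fw, Matrix.mulVec_neg, neg_one_smul]
      rfl
  · have hz : -(i - j)⁻¹ ≠ 0 := neg_ne_zero.2 (inv_ne_zero (sub_ne_zero.2 hij))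
    refine ⟨u j * (w 1 * u (-(i - j)⁻¹)), ?_⟩
    rw [mul_vec, mul_vec]
    change _ = _ *ᵥ (_ *ᵥ vv ρ v0 (-(i - j)⁻¹))
    rw [h.fwu _ hz, Matrix.mulVec_sub, u_vv, inv_neg, inv_inv, neg_neg]
    have e : j + (i - j) = i := by ring
    rw [e]
    rfl

theorem sys (hn : Fintype.card K = n + 1) (hpos : 0 < n)
    (hspan : Submodule.span F (Set.range fun g => (ρ g : Matrix (Fin n) (Fin n) F)) = ⊤)
    (hE0 : ∑ x : K, (ρ (u x) : Matrix (Fin n) (Fin n) F) = 0) : Sys F (vv ρ v0) where
  span := by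
    have h1 : ∀ g : _root_.Matrix.SpecialLinearGroup (Fin 2) K, (ρ g : Matrix (Fin n) (Fin n) F) *ᵥ v0 ∈
        Submodule.span F (Set.range (vv ρ v0)) := by
      intro g
      have hv : ∀ i, vv ρ v0 i ∈ Submodule.span F (Set.range (vv ρ v0)) := fun i => Submodule.subset_span ⟨i, rfl⟩
      rcases h.mem_rts g with ⟨i, ε, -, h2⟩ | ⟨i, j, -, h2⟩
      · rw [h2]
        exact Submodule.smul_mem _ _ (hv i)
      · rw [h2]
        exact Submodule.sub_mem _ (hv i) (hv j)
    have h2 : ∀ A : Matrix (Fin n) (Fin n) F, A *ᵥ v0 ∈ Submodule.span F (Set.range (vv ρ v0)) := by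
      intro A
      have hA : A ∈ Submodule.span F (Set.range fun g => (ρ g : Matrix (Fin n) (Fin n) F)) := by rw [hspan]; trivial
      induction hA using Submodule.span_induction with
      | mem x hx =>
        obtain ⟨g, rfl⟩ := hx
        exact h1 g
      | zero => rw [Matrix.zero_mulVec]; exact Submodule.zero_mem _
      | add x y _ _ hx hy => rw [Matrix.add_mulVec]; exact Submodule.add_mem _ hx hy
      | smul c x _ hx => rw [Matrix.smul_mulVec]; exact Submodule.smul_mem _ _ hx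
    rw [eq_top_iff]
    intro y _
    obtain ⟨j, hj⟩ : ∃ j, v0 j ≠ 0 := by
      by_contra hcon
      push Not at hcon
      exact h.ne (funext hcon)
    have h3 := h2 (fun i k => if k = j then y i * (v0 j)⁻¹ else 0)
    have h4 : (fun i k => if k = j then y i * (v0 j)⁻¹ else 0 : Matrix (Fin n) (Fin n) F) *ᵥ v0 = y := by
      ext i
      simp only [Matrix.mulVec, dotProduct]
      rw [Finset.sum_eq_single j]
      · rw [if_pos rfl, mul_assoc, inv_mul_cancel₀ hj, mul_one]
      · intro b _ hb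
        rw [if_neg hb, zero_mul]
      · intro h; exact absurd (Finset.mem_univ j) h
    rwa [h4] at h3
  card := by rw [hn, Module.finrank_fintype_fun_eq_card, Fintype.card_fin]
  pos := by rw [Module.finrank_fintype_fun_eq_card, Fintype.card_fin]; exact hpos
  sum := by
    unfold vv
    rw [← Matrix.sum_mulVec, hE0, Matrix.zero_mulVec]

section form

variable {Q : QuadraticForm F (Fin n → F)} (hfix : ∀ g v, Q ((ρ g : Matrix (Fin n) (Fin n) F) *ᵥ v) = Q v)

omit h in
theorem polar_fix (hfix : ∀ g v, Q ((ρ g : Matrix (Fin n) (Fin n) F) *ᵥ v) = Q v)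
    (g : _root_.Matrix.SpecialLinearGroup (Fin 2) K) (x y : Fin n → F) :
    QuadraticMap.polar Q ((ρ g : Matrix (Fin n) (Fin n) F) *ᵥ x) ((ρ g : Matrix (Fin n) (Fin n) F) *ᵥ y) =
      QuadraticMap.polar Q x y := by
  unfold QuadraticMap.polar
  rw [← Matrix.mulVec_add, hfix, hfix, hfix]

include hfix in
theorem gr (h2 : (2 : F) ≠ 0) {iu : Kˣ} (hi : (iu : K) ^ 2 = -1) : Gr Q (vv ρ v0) (Q v0) := by
  have hb : ∀ z : K, z ≠ 0 → QuadraticMap.polar Q v0 (vv ρ v0 z) = Q v0 := by
    intro z hz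
    have h1 := polar_fix hfix (w 1) v0 (vv ρ v0 z)
    rw [h.fwu z hz, h.fw] at h1
    have h3 := polar_fix hfix (t (iu * (Units.mk0 z hz)⁻¹)) v0 (vv ρ v0 z)
    rw [h.ft, h.t_vv] at h3
    have e : ((iu * (Units.mk0 z hz)⁻¹ : Kˣ) : K) ^ 2 * z = -z⁻¹ := by
      rw [Units.val_mul, Units.val_inv_eq_inv_val, Units.val_mk0, mul_pow, hi]
      field_simp
    rw [e] at h3
    rw [QuadraticMap.polar_neg_left, QuadraticMap.polar_sub_right, h3] at h1
    have h4 : QuadraticMap.polar Q v0 v0 = 2 * Q v0 := by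
      unfold QuadraticMap.polar
      rw [← two_smul F v0, QuadraticMap.map_smul]
      simp only [smul_eq_mul]
      ring
    rw [h4] at h1
    have h5 : 2 * QuadraticMap.polar Q v0 (vv ρ v0 z) = 2 * Q v0 := by linear_combination -h1
    exact mul_left_cancel₀ h2 h5
  intro i j hij
  have h1 := polar_fix hfix (u (-i)) (vv ρ v0 i) (vv ρ v0 j)
  rw [u_vv, u_vv, neg_add_cancel, vv_zero] at h1
  rw [← h1]
  apply hb
  intro h3
  apply hij
  linear_combination -h3

end form

end Good0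

end Cfsg.Agent.H114.Rt
end

-- part: H114/RtNon
section
/-!
# `SL₂(13)` in characteristic 7: the nonsplit elements are unipotent (helper114)
-/

set_option autoImplicit false
set_option linter.unusedSectionVars false

namespace Cfsg.Agent.H114.Rt

open Matrix Module Cfsg.Agent.H464.Sl2

theorem nonsplit_pow : ∀ τ : ZMod 13, (∀ x : ZMod 13, x ^ 2 - τ * x + 1 ≠ 0) →
    (!![τ, -1; 1, 0] : Matrix (Fin 2) (Fin 2) (ZMod 13)) ^ 7 = !![1, 0; 0, 1] ∨
    (!![τ, -1; 1, 0] : Matrix (Fin 2) (Fin 2) (ZMod 13)) ^ 7 = !![-1, 0; 0, -1] := by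
  decide +kernel

instance fact13 : Fact (Nat.Prime 13) := ⟨by norm_num⟩

theorem Zt_pow {τ : ZMod 13} (hτ : NonSplit τ) : ∃ ε : (ZMod 13)ˣ, ε ^ 2 = 1 ∧ Zt τ ^ 7 = t ε := by
  rcases nonsplit_pow τ hτ with h | h
  · refine ⟨1, by norm_num, ?_⟩
    apply Subtype.ext
    rw [Matrix.SpecialLinearGroup.coe_pow, Zt_val, h]
    rfl
  · refine ⟨-1, by norm_num, ?_⟩
    apply Subtype.ext
    rw [Matrix.SpecialLinearGroup.coe_pow, Zt_val, h]
    rfl

variable {k : Type*} [Field k] {V : Type*} [AddCommGroup V] [Module k V]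
  [FiniteDimensional k V] (R : _root_.Matrix.SpecialLinearGroup (Fin 2) (ZMod 13) →* Module.End k V)

theorem trace_of_pow_seven [CharP k 7] {A : Module.End k V} (hA : A ^ 7 = 1) :
    LinearMap.trace k V A = (finrank k V : k) := by
  have h7 : Fact (Nat.Prime 7) := ⟨by norm_num⟩
  have hch : CharP (Module.End k V) 7 ∨ Subsingleton (Module.End k V) := by
    by_cases hs : Subsingleton (Module.End k V)
    · exact Or.inr hs
    · left
      have : Nontrivial (Module.End k V) := not_subsingleton_iff_nontrivial.1 hs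
      exact charP_of_injective_algebraMap (algebraMap k (Module.End k V)).injective 7
  rcases hch with hch | hs
  · have h1 : (A - 1) ^ 7 = 0 := by
      rw [sub_pow_char_of_commute (p := 7) (Commute.one_right A), hA, one_pow, sub_self]
    have h2 : IsNilpotent (A - 1) := ⟨7, h1⟩
    have h3 := (LinearMap.isNilpotent_trace_of_isNilpotent h2).eq_zero
    rw [map_sub, LinearMap.trace_one, sub_eq_zero] at h3
    exact h3
  · have h1 : A = 1 := Subsingleton.elim _ _
    rw [h1, LinearMap.trace_one]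

theorem chi_nonsplit [CharP k 7] (h12 : finrank k V = 12) (hc : ∀ ε : (ZMod 13)ˣ, ε ^ 2 = 1 → R (t ε) = 1)
    (τ : ZMod 13) (hτ : NonSplit τ) : chi R (Zt τ) = -2 := by
  obtain ⟨ε, hε, h⟩ := Zt_pow hτ
  unfold chi
  rw [trace_of_pow_seven (by rw [← map_pow, h, hc ε hε]), h12]
  have h7 : (7 : k) = 0 := by
    have := CharP.cast_eq_zero k 7
    exact_mod_cast this
  push_cast
  linear_combination 2 * h7

end Cfsg.Agent.H114.Rt
end

-- part: H114/TyDisc
section
/-!
# The type of a quadratic form from a skew-adjoint operator (helper114)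

* `plus_iff` : `n = 2 m`, `char F ≠ 2`, `D` skew-adjoint for the polar form, `det D ≠ 0` ⟹
  (`Q` has plus type ⟺ `(-1)^m * det D` is a square).
-/

set_option autoImplicit false
set_option linter.unusedSectionVars false

namespace Cfsg.Agent.H114.Ty

open Cfsg.Geo Matrix
open Cfsg.Agent.H922 (toBilin toBilin_isSymm)

variable {ι : Type} [Fintype ι] [DecidableEq ι] {F : Type*} [Field F]

/-- The Gram determinant times the determinant of a skew-adjoint operator is a square. -/
theorem isSquare_gram_mul {Q : (ι → F) → F} (hQ : IsNondegenerateQuadraticForm Q) (h2 : (2 : F) ≠ 0)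
    {D : Matrix ι ι F} (hD : ∀ x y, QuadraticMap.polar Q x (D *ᵥ y) = - QuadraticMap.polar Q (D *ᵥ x) y)
    (hdet : D.det ≠ 0) :
    IsSquare ((LinearMap.BilinForm.toMatrix (Pi.basisFun F ι) (_root_.Cfsg.Agent.H922.toBilin hQ.polar_bilinear)).det * D.det) := by
  classical
  let b := Pi.basisFun F ι
  let A : LinearMap.BilinForm F (ι → F) := LinearMap.BilinForm.compRight (_root_.Cfsg.Agent.H922.toBilin hQ.polar_bilinear) D.toLin'
  have hAap : ∀ x y, A x y = QuadraticMap.polar Q x (D *ᵥ y) := by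
    intro x y
    show _root_.Cfsg.Agent.H922.toBilin hQ.polar_bilinear x (D.toLin' y) = _
    rw [Matrix.toLin'_apply, Cfsg.Agent.H922.toBilin_apply]
  have hA : A.IsAlt := by
    intro x
    rw [hAap]
    have h1 := hD x x
    rw [QuadraticMap.polar_comm Q (D *ᵥ x) x] at h1
    have h3 : (2 : F) * QuadraticMap.polar Q x (D *ᵥ x) = 0 := by linear_combination h1
    exact (mul_eq_zero.1 h3).resolve_left h2
  have hnd : ∀ u, (∀ v, A u v = 0) → u = 0 := by
    intro u hu
    by_contra h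
    obtain ⟨y, hy⟩ := (hQ.nondegenerate u h).2
    apply hy
    have h3 : D *ᵥ (D⁻¹ *ᵥ y) = y := by
      rw [Matrix.mulVec_mulVec, Matrix.mul_nonsing_inv _ (isUnit_iff_ne_zero.2 hdet), Matrix.one_mulVec]
    rw [← h3, ← hAap]
    exact hu _
  have h1 := H160.QDisc.isSquare_det_of_isAlt A hA hnd b
  have h3 : LinearMap.BilinForm.toMatrix b A =
      LinearMap.BilinForm.toMatrix b (_root_.Cfsg.Agent.H922.toBilin hQ.polar_bilinear) * LinearMap.toMatrix b b D.toLin' :=
    LinearMap.BilinForm.toMatrix_compRight b (_root_.Cfsg.Agent.H922.toBilin hQ.polar_bilinear) D.toLin'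
  rw [h3, Matrix.det_mul, LinearMap.det_toMatrix, LinearMap.det_toLin'] at h1
  exact h1

/-- **The type from a skew-adjoint operator.** -/
theorem plus_iff [Finite F] {Q : (ι → F) → F} (hQ : IsNondegenerateQuadraticForm Q) (h2 : (2 : F) ≠ 0)
    {m : ℕ} (hm : Fintype.card ι = 2 * m) {D : Matrix ι ι F}
    (hD : ∀ x y, QuadraticMap.polar Q x (D *ᵥ y) = - QuadraticMap.polar Q (D *ᵥ x) y) (hdet : D.det ≠ 0) :
    IsPlusTypeOn Q ⊤ ↔ IsSquare ((-1) ^ m * D.det) := by
  have h1 := isSquare_gram_mul hQ h2 hD hdet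
  have hg : (LinearMap.BilinForm.toMatrix (Pi.basisFun F ι) (_root_.Cfsg.Agent.H922.toBilin hQ.polar_bilinear)).det ≠ 0 := by
    apply (LinearMap.BilinForm.nondegenerate_iff_det_ne_zero _).1
    refine ⟨fun x hx => ?_, fun x hx => ?_⟩
    · by_contra h
      obtain ⟨y, hy⟩ := (hQ.nondegenerate x h).2
      exact hy (hx y)
    · by_contra h
      obtain ⟨y, hy⟩ := (hQ.nondegenerate x h).1
      exact hy (hx y)
  obtain ⟨a, ha⟩ := h1
  have ha0 : a ≠ 0 := by
    intro h
    rw [h, mul_zero] at ha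
    exact (mul_ne_zero hg hdet) ha
  have hsgn : ((-1 : F) ^ m) * (-1) ^ m = 1 := by
    rw [← mul_pow]; simp
  constructor
  · intro hp
    obtain ⟨s, hs⟩ := H925.det_plus hQ hp hm (Pi.basisFun F ι)
    have hs0 : s ≠ 0 := by
      intro h
      rw [hs, h] at hg
      simp only [_root_.ne_eq, _root_.OfNat.ofNat_ne_zero, _root_.not_false_eq_true, _root_.zero_pow, _root_.MulZeroClass.mul_zero, _root_.not_true_eq_false] at hg
    refine ⟨a / s, ?_⟩
    rw [hs] at ha
    field_simp
    linear_combination ha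
  · rintro ⟨s, hs⟩
    have hs0 : s ≠ 0 := by
      intro h
      rw [h, mul_zero] at hs
      rcases mul_eq_zero.1 hs with h | h
      · rw [h, mul_zero] at hsgn
        exact zero_ne_one hsgn
      · exact hdet h
    refine H926.plus_of_det hQ h2 hm (Pi.basisFun F ι) (s := a / s) ?_
    have h3 : (LinearMap.BilinForm.toMatrix (Pi.basisFun F ι) (_root_.Cfsg.Agent.H922.toBilin hQ.polar_bilinear)).det * (s * s) =
        (-1) ^ m * (a * a) := by
      rw [← hs, ← ha]; ring
    field_simp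
    linear_combination h3

end Cfsg.Agent.H114.Ty
end

-- part: H114/TyProd
section
/-!
# Products of character values and determinants of combinations of weight projections (helper114)
-/

set_option autoImplicit false
set_option linter.unusedSectionVars false

namespace Cfsg.Agent.H114.Ty

open Matrix Module Cfsg Cfsg.Agent.H464.Sl2

section Prod

variable {K : Type*} [Field K] [Fintype K] {k : Type*} [Field k]

theorem psi_pow (hr : (Fintype.card K).Prime) (ψ : AddChar K k) (b : K) : ψ b ^ Fintype.card K = 1 := by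
  rw [← AddChar.map_nsmul_eq_pow]
  have : Fintype.card K • b = 0 := card_nsmul_eq_zero
  rw [this, AddChar.map_zero_eq_one]

theorem psi_injective (hr : (Fintype.card K).Prime) {ψ : AddChar K k} (hψ : ψ.IsPrimitive) :
    Function.Injective ψ := by
  intro a b hab
  by_contra hne
  have hc : a - b ≠ 0 := sub_ne_zero.2 hne
  have h1 : ψ (a - b) = 1 := by
    rw [AddChar.map_sub_eq_div, hab, div_self]
    intro h0
    have := psi_pow hr ψ b
    rw [h0, zero_pow hr.ne_zero] at this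
    exact zero_ne_one this
  have h2 : ∀ n : ℕ, ψ (n • (a - b)) = 1 := by
    intro n
    rw [AddChar.map_nsmul_eq_pow, h1, one_pow]
  have := Fact.mk hr
  have hch : CharP K (Fintype.card K) := by
    have h3 := CharP.exists K
    obtain ⟨p, hp⟩ := h3
    obtain ⟨n, hpp, hn⟩ := FiniteField.card K p
    have h4 : p = Fintype.card K := by
      have h5 : p ∣ Fintype.card K := by rw [hn]; exact dvd_pow_self p n.ne_zero
      exact (Nat.prime_dvd_prime_iff_eq hpp hr).1 h5
    rwa [← h4]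
  have h3 : ∀ x : K, ψ x = 1 := by
    intro x
    obtain ⟨m, hm⟩ : ∃ m : ZMod (Fintype.card K), (ZMod.ringEquivOfPrime K hr rfl) m = x / (a - b) :=
      (ZMod.ringEquivOfPrime K hr rfl).surjective _
    have h4 : x = m.val • (a - b) := by
      rw [nsmul_eq_mul]
      have h5 : ((m.val : ℕ) : K) = x / (a - b) := by
        rw [← hm]
        conv_rhs => rw [← ZMod.natCast_zmod_val m]
        rw [map_natCast]
      rw [h5, div_mul_cancel₀ _ hc]
    rw [h4, h2]
  have h6 := hψ (a := (1 : K)) one_ne_zero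
  apply h6
  ext x
  rw [AddChar.mulShift_apply, h3, AddChar.one_apply]

/-- `∏ (1 - ψ b) = r` -/
theorem prod_one_sub [DecidableEq K] (hr : (Fintype.card K).Prime) {ψ : AddChar K k} (hψ : ψ.IsPrimitive) :
    ∏ b ∈ Finset.univ.erase (0 : K), (1 - ψ b) = (Fintype.card K : k) := by
  classical
  have hinj := psi_injective hr hψ
  have hpos : 0 < Fintype.card K := Fintype.card_pos
  have h1 : Polynomial.nthRootsFinset (Fintype.card K) (1 : k) = Finset.univ.image ψ := by
    symm
    apply Finset.eq_of_subset_of_card_le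
    · intro x hx
      obtain ⟨b, -, rfl⟩ := Finset.mem_image.1 hx
      rw [Polynomial.mem_nthRootsFinset hpos]
      exact psi_pow hr ψ b
    · rw [Finset.card_image_of_injective _ hinj, Finset.card_univ]
      unfold Polynomial.nthRootsFinset
      exact (Multiset.toFinset_card_le _).trans (Polynomial.card_nthRoots _ _)
  have hone : ψ (1 : K) ≠ 1 := fun h => one_ne_zero (hinj (h.trans (AddChar.map_zero_eq_one ψ).symm))
  have hprim : IsPrimitiveRoot (ψ 1) (Fintype.card K) := by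
    have h2 : orderOf (ψ (1 : K)) = Fintype.card K := by
      have := Fact.mk hr
      exact orderOf_eq_prime (psi_pow hr ψ 1) hone
    rw [← h2]
    exact IsPrimitiveRoot.orderOf _
  have h2 := Polynomial.X_pow_sub_one_eq_prod (R := k) hpos hprim
  rw [h1, Finset.prod_image (fun x _ y _ h => hinj h), ← Finset.mul_prod_erase _ _ (Finset.mem_univ (0 : K)),
    AddChar.map_zero_eq_one, ← mul_geom_sum] at h2
  have h3 : (Polynomial.X - 1 : Polynomial k) ≠ 0 := by
    intro h
    have := congrArg (Polynomial.eval 0) h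
    simp at this
  rw [Polynomial.C_1] at h2
  have h4 := mul_left_cancel₀ h3 h2
  have h5 := congrArg (Polynomial.eval 1) h4
  rw [Polynomial.eval_prod, Polynomial.eval_finset_sum] at h5
  simp only [Polynomial.eval_pow, Polynomial.eval_X, one_pow, Finset.sum_const, Finset.card_range, nsmul_eq_mul,
    mul_one, Polynomial.eval_sub, Polynomial.eval_C] at h5
  exact h5.symm

/-- `∏ (ψ b - ψ (-b)) = r` -/
theorem prod_sub_inv [DecidableEq K] (hr : (Fintype.card K).Prime) (h2 : Odd (Fintype.card K)) {ψ : AddChar K k}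
    (hψ : ψ.IsPrimitive) :
    ∏ b ∈ Finset.univ.erase (0 : K), (ψ b - ψ (-b)) = (Fintype.card K : k) := by
  have h20 : (2 : K) ≠ 0 := by
    intro h
    have h3 : ringChar K = 2 := CharP.ringChar_of_prime_eq_zero Nat.prime_two (by exact_mod_cast h)
    have h4 := FiniteField.even_card_iff_char_two.1 h3
    rcases h2 with ⟨m, hm⟩
    omega
  have h3 : ∀ b ∈ Finset.univ.erase (0 : K), (ψ b - ψ (-b)) = - ψ (-b) * (1 - ψ (2 * b)) := by
    intro b _
    have h4 : ψ (-b) * ψ (2 * b) = ψ b := by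
      rw [← AddChar.map_add_eq_mul]; congr 1; ring
    linear_combination -h4
  rw [Finset.prod_congr rfl h3, Finset.prod_mul_distrib]
  have h5 : ∏ b ∈ Finset.univ.erase (0 : K), (1 - ψ (2 * b)) = ∏ b ∈ Finset.univ.erase (0 : K), (1 - ψ b) := by
    refine Finset.prod_bij (fun b _ => 2 * b) ?_ ?_ ?_ ?_
    · intro b hb
      exact Finset.mem_erase.2 ⟨mul_ne_zero h20 (Finset.ne_of_mem_erase hb), Finset.mem_univ _⟩
    · intro a _ b _ h
      exact mul_left_cancel₀ h20 h
    · intro b hb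
      refine ⟨b / 2, Finset.mem_erase.2 ⟨div_ne_zero (Finset.ne_of_mem_erase hb) h20, Finset.mem_univ _⟩, ?_⟩
      rw [mul_div_cancel₀ b h20]
    · intro b _
      rfl
  have h6 : ∏ b ∈ Finset.univ.erase (0 : K), (- ψ (-b)) = 1 := by
    have h7 : ∏ b ∈ Finset.univ.erase (0 : K), (ψ (-b)) = 1 := by
      have h8 : ∏ b ∈ Finset.univ.erase (0 : K), (ψ (-b)) = ∏ b ∈ Finset.univ.erase (0 : K), ψ b := by
        refine Finset.prod_bij (fun b _ => -b) ?_ ?_ ?_ ?_
        · intro b hb
          exact Finset.mem_erase.2 ⟨neg_ne_zero.2 (Finset.ne_of_mem_erase hb), Finset.mem_univ _⟩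
        · intro a _ b _ h
          exact neg_injective h
        · intro b hb
          exact ⟨-b, Finset.mem_erase.2 ⟨neg_ne_zero.2 (Finset.ne_of_mem_erase hb), Finset.mem_univ _⟩, neg_neg b⟩
        · intro b _
          rfl
      have h9 : (∏ b ∈ Finset.univ.erase (0 : K), (ψ (-b))) * ∏ b ∈ Finset.univ.erase (0 : K), ψ b = 1 := by
        rw [← Finset.prod_mul_distrib]
        apply Finset.prod_eq_one
        intro b _
        rw [← AddChar.map_add_eq_mul, neg_add_cancel, AddChar.map_zero_eq_one]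
      have h10 : (∏ b ∈ Finset.univ.erase (0 : K), (ψ (-b))) ^ Fintype.card K = 1 := by
        rw [← Finset.prod_pow]
        exact Finset.prod_eq_one fun b _ => psi_pow hr ψ _
      rw [← h8, ← sq] at h9
      obtain ⟨m, hm⟩ := h2
      rw [hm, pow_succ, pow_mul, h9, one_pow, one_mul] at h10
      exact h10
    have h8 : ∀ b ∈ Finset.univ.erase (0 : K), (- ψ (-b)) = (-1) * ψ (-b) := fun b _ => by ring
    rw [Finset.prod_congr rfl h8, Finset.prod_mul_distrib, h7, mul_one, Finset.prod_const,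
      Finset.card_erase_of_mem (Finset.mem_univ _), Finset.card_univ]
    obtain ⟨m, hm⟩ := h2
    rw [hm, Nat.add_sub_cancel, pow_mul]
    simp only [_root_.even_two, _root_.Even.neg_pow, _root_.one_pow]
  rw [h5, h6, one_mul, prod_one_sub hr hψ]

end Prod

section Det

variable {K : Type*} [Field K] [Fintype K] {k : Type*} [Field k] {V : Type*} [AddCommGroup V] [Module k V]
  [FiniteDimensional k V]

/-- The determinant of a diagonal endomorphism. -/
theorem det_of_basis {κ : Type*} [Fintype κ] [DecidableEq κ] (B : Basis κ k V) (T : Module.End k V) (c : κ → k)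
    (h : ∀ i, T (B i) = c i • B i) : LinearMap.det T = ∏ i, c i := by
  rw [← LinearMap.det_toMatrix B]
  have h1 : LinearMap.toMatrix B B T = Matrix.diagonal c := by
    ext i j
    rw [LinearMap.toMatrix_apply, h, map_smul, Basis.repr_self, Finsupp.smul_single, smul_eq_mul, mul_one,
      Matrix.diagonal_apply, Finsupp.single_apply]
    by_cases hij : i = j
    · rw [if_pos hij, if_pos hij.symm, hij]
    · rw [if_neg hij, if_neg fun h => hij h.symm]
  rw [h1, Matrix.det_diagonal]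

end Det

end Cfsg.Agent.H114.Ty
end

-- part: H114/TyDet
section
/-!
# Determinants through the weight decomposition (helper114)

`R : SL₂(K) → End V` irreducible over an algebraically closed field, `|K| = r` an odd prime.

* `det_minus` : no `U`-fixed points, all weights once ⟹ `det (R u₁ - R u₋₁) = r`;
* `det_plus` : `dim V^U = 2`, all nonzero weights once ⟹
  `det (R u₁ - R u₋₁ + E₀ (R t - R t⁻¹) E₀) = - r (c - c⁻¹)²`, `c` an eigenvalue of `t` on `V^U`.
-/

set_option autoImplicit false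
set_option linter.unusedSectionVars false

namespace Cfsg.Agent.H114.Ty

open Matrix Module Cfsg Cfsg.Agent.H464.Sl2

variable {K : Type*} [Field K] [Fintype K] {k : Type*} [Field k] {V : Type*} [AddCommGroup V] [Module k V]
  [FiniteDimensional k V] (R : _root_.Matrix.SpecialLinearGroup (Fin 2) K →* Module.End k V) {ψ : AddChar K k}
  (hψ : ψ.IsPrimitive) (hK : (Fintype.card K : k) ≠ 0)

theorem decomp_symm_single [DecidableEq K] (b : K) (x : LinearMap.range (E R ψ b)) :
    (decomp R hψ hK).symm (Pi.single b x) = (x : V) := by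
  rw [LinearEquiv.symm_apply_eq]
  funext c
  apply Subtype.ext
  change _ = E R ψ c (x : V)
  obtain ⟨y, hy⟩ := x.2
  by_cases h : c = b
  · subst h
    rw [Pi.single_eq_same, ← hy, ← Module.End.mul_apply, E_mul_self R hψ hK]
  · rw [Pi.single_eq_of_ne h, ← hy, ← Module.End.mul_apply, E_mul_of_ne R hψ hK h, LinearMap.zero_apply]
    rfl

include hψ hK in
theorem det_weights (T : Module.End k V) (d : K → k)
    (h : ∀ b, ∃ (m : ℕ) (s : Basis (Fin m) k (LinearMap.range (E R ψ b))) (c : Fin m → k),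
      (∀ j, T (s j : V) = c j • (s j : V)) ∧ ∏ j, c j = d b) : LinearMap.det T = ∏ b, d b := by
  classical
  choose m s c hs hd using h
  let B : Basis (Σ b : K, Fin (m b)) k V := (Pi.basis s).map (decomp R hψ hK).symm
  have hB : ∀ i, B i = (s i.1 i.2 : V) := by
    rintro ⟨b, j⟩
    change (decomp R hψ hK).symm (Pi.basis s ⟨b, j⟩) = _
    rw [Pi.basis_apply]
    exact decomp_symm_single R hψ hK b (s b j)
  rw [det_of_basis B T (fun i => c i.1 i.2) (fun i => by rw [hB]; exact hs i.1 i.2), Fintype.prod_sigma]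
  exact Finset.prod_congr rfl fun b _ => hd b

theorem u_apply {b : K} (x : LinearMap.range (E R ψ b)) (y : K) (hE : E R ψ b (x : V) = x) :
    R (u y) (x : V) = ψ (b * y) • (x : V) := by
  have h1 := congrArg (fun f : Module.End k V => f (x : V)) (R_mul_E R ψ b y)
  simp only [Module.End.mul_apply, hE, LinearMap.smul_apply] at h1
  exact h1

include hψ hK in
theorem E_apply_self {b : K} (x : LinearMap.range (E R ψ b)) : E R ψ b (x : V) = x := by
  obtain ⟨y, hy⟩ := x.2
  rw [← hy, ← Module.End.mul_apply, E_mul_self R hψ hK]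

include hψ hK in
theorem E_apply_ne {b c : K} (h : b ≠ c) (x : LinearMap.range (E R ψ c)) : E R ψ b (x : V) = 0 := by
  obtain ⟨y, hy⟩ := x.2
  rw [← hy, ← Module.End.mul_apply, E_mul_of_ne R hψ hK h, LinearMap.zero_apply]

include hψ hK in
/-- **Degree `q - 1`.** -/
theorem det_minus (hr : (Fintype.card K).Prime) (h2 : Odd (Fintype.card K))
    (h1 : ∀ b : K, b ≠ 0 → finrank k (LinearMap.range (E R ψ b)) = 1)
    (h0 : finrank k (LinearMap.range (E R ψ 0)) = 0) :
    LinearMap.det (R (u 1) - R (u (-1))) = (Fintype.card K : k) := by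
  classical
  rw [det_weights R hψ hK _ (fun b => if b = 0 then 1 else ψ b - ψ (-b)) ?_, ← prod_sub_inv hr h2 hψ,
    ← Finset.mul_prod_erase _ _ (Finset.mem_univ (0 : K)), if_pos rfl, one_mul]
  · exact Finset.prod_congr rfl fun b hb => by rw [if_neg (Finset.ne_of_mem_erase hb)]
  · intro b
    refine ⟨_, finBasis k _, fun _ => ψ b - ψ (-b), fun j => ?_, ?_⟩
    · rw [LinearMap.sub_apply, u_apply R _ _ (E_apply_self R hψ hK _), u_apply R _ _ (E_apply_self R hψ hK _),
        mul_one, mul_neg_one, sub_smul]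
    · rw [Finset.prod_const, Finset.card_univ, Fintype.card_fin]
      by_cases hb : b = 0
      · rw [hb, h0, pow_zero, if_pos rfl]
      · rw [h1 b hb, pow_one, if_neg hb]

theorem t_mul_w (a : Kˣ) : t a * w (1 : Kˣ) = w 1 * t a⁻¹ := by
  apply Subtype.ext
  ext i j
  (revert i j; simp [_root_.Fin.forall_fin_succ])

include hψ hK in
/-- **Degree `q + 1`.** -/
theorem det_plus (hspan : Submodule.span k (Set.range R) = ⊤) (hr : (Fintype.card K).Prime)
    (h2 : Odd (Fintype.card K))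
    (h1 : ∀ b : K, b ≠ 0 → finrank k (LinearMap.range (E R ψ b)) = 1)
    (h0 : finrank k (LinearMap.range (E R ψ 0)) = 2) {v : V} (hv0 : v ≠ 0) (hv : E R ψ 0 v = v) (c : Kˣ → k)
    (ht : ∀ a : Kˣ, R (t a) v = c a • v) (a : Kˣ) :
    LinearMap.det (R (u 1) - R (u (-1)) + E R ψ 0 * (R (t a) - R (t a⁻¹)) * E R ψ 0) =
      - (Fintype.card K : k) * (c a - c a⁻¹) ^ 2 := by
  classical
  have hle := fixed_aux R hψ hK hspan hv0 hv fun a => ⟨c a, ht a⟩
  set v' := E R ψ 0 (R (w 1) v) with hv'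
  have ht' : ∀ a : Kˣ, R (t a) v' = c a⁻¹ • v' := by
    intro a
    have h3 := congrArg (fun f : Module.End k V => f (R (w 1) v)) (t_mul_E R ψ a 0)
    rw [zero_div] at h3
    simp only [Module.End.mul_apply] at h3
    rw [hv', h3]
    have h4 := congrArg (fun g => R g v) (t_mul_w a)
    simp only [map_mul, Module.End.mul_apply] at h4
    rw [h4, ht, map_smul, map_smul]
  have hv'E : E R ψ 0 v' = v' := E_apply_self R hψ hK ⟨v', LinearMap.mem_range_self _ _⟩
  rw [det_weights R hψ hK _ (fun b => if b = 0 then -(c a - c a⁻¹) ^ 2 else ψ b - ψ (-b)) ?_, ← prod_sub_inv hr h2 hψ,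
    ← Finset.mul_prod_erase _ _ (Finset.mem_univ (0 : K)), if_pos rfl]
  · rw [Finset.prod_congr rfl (g := fun b => ψ b - ψ (-b)) fun b hb => by rw [if_neg (Finset.ne_of_mem_erase hb)]]
    ring
  · intro b
    by_cases hb : b = 0
    · subst hb
      let x : LinearMap.range (E R ψ 0) := ⟨v, by rw [← hv]; exact LinearMap.mem_range_self _ _⟩
      let y : LinearMap.range (E R ψ 0) := ⟨v', LinearMap.mem_range_self _ _⟩
      have hspan' : ⊤ ≤ Submodule.span k (Set.range ![x, y]) := by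
        rintro ⟨z, hz⟩ -
        have h3 := hle hz
        rw [Submodule.mem_span_pair] at h3
        obtain ⟨α, β, h3⟩ := h3
        have h4 : (⟨z, hz⟩ : LinearMap.range (E R ψ 0)) = α • x + β • y := Subtype.ext h3.symm
        rw [h4]
        exact Submodule.add_mem _ (Submodule.smul_mem _ _ (Submodule.subset_span ⟨0, rfl⟩))
          (Submodule.smul_mem _ _ (Submodule.subset_span ⟨1, rfl⟩))
      let s := basisOfTopLeSpanOfCardEqFinrank ![x, y] hspan' (by rw [h0, Fintype.card_fin])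
      have hs : ∀ j, s j = ![x, y] j := fun j => by
        simp [s]
      refine ⟨2, s, ![c a - c a⁻¹, c a⁻¹ - c a], ?_, ?_⟩
      · intro j
        have hu : ∀ z : LinearMap.range (E R ψ 0), (R (u 1) - R (u (-1))) (z : V) = 0 := by
          intro z
          rw [LinearMap.sub_apply, u_apply R _ _ (E_apply_self R hψ hK _), u_apply R _ _ (E_apply_self R hψ hK _),
            zero_mul, zero_mul, sub_self]
        rw [hs, LinearMap.add_apply, hu, zero_add]
        fin_cases j
        · change (E R ψ 0 * (R (t a) - R (t a⁻¹)) * E R ψ 0) v = (c a - c a⁻¹) • v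
          rw [Module.End.mul_apply, Module.End.mul_apply, hv, LinearMap.sub_apply, ht, ht, ← sub_smul, map_smul, hv]
        · change (E R ψ 0 * (R (t a) - R (t a⁻¹)) * E R ψ 0) v' = (c a⁻¹ - c a) • v'
          rw [Module.End.mul_apply, Module.End.mul_apply, hv'E, LinearMap.sub_apply, ht', ht', inv_inv, ← sub_smul,
            map_smul, hv'E]
      · rw [Fin.prod_univ_two, if_pos rfl]
        simp only [Matrix.cons_val_zero, Matrix.cons_val_one]
        ring
    · refine ⟨_, finBasis k _, fun _ => ψ b - ψ (-b), fun j => ?_, ?_⟩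
      · rw [LinearMap.add_apply, Module.End.mul_apply, E_apply_ne R hψ hK (Ne.symm hb), map_zero, add_zero,
          LinearMap.sub_apply, u_apply R _ _ (E_apply_self R hψ hK _), u_apply R _ _ (E_apply_self R hψ hK _),
          mul_one, mul_neg_one, sub_smul]
      · rw [Finset.prod_const, Finset.card_univ, Fintype.card_fin, h1 b hb, pow_one, if_neg hb]

end Cfsg.Agent.H114.Ty
end

-- part: H114/TyLam
section
/-!
# The torus character of a principal series representation is not self-inverse (helper114)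

`c_sq_ne` : `R` irreducible of degree `q + 1`, `v` a `B`-eigenvector with character `c` ⟹ `c a ≠ c a⁻¹` for some `a`.
-/

set_option autoImplicit false
set_option linter.unusedSectionVars false

namespace Cfsg.Agent.H114.Ty

open Matrix Module Cfsg Cfsg.Agent.H464.Sl2

variable {K : Type*} [Field K] [Fintype K] {k : Type*} [Field k] {V : Type*} [AddCommGroup V] [Module k V]
  [FiniteDimensional k V] (R : _root_.Matrix.SpecialLinearGroup (Fin 2) K →* Module.End k V) {ψ : AddChar K k}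
  (hψ : ψ.IsPrimitive) (hK : (Fintype.card K : k) ≠ 0)

/-- the coset vectors -/
noncomputable def cosetVec (v : V) : Option K → V
  | none => v
  | some x => R (u x * w 1) v

/-- the image of an operator on `v` and on `v'` have the same coordinates -/
theorem exists_coord (hspan : Submodule.span k (Set.range R) = ⊤) {v v' : V} {c : Kˣ → k}
    (hu : ∀ x, R (u x) v = v) (hu' : ∀ x, R (u x) v' = v')
    (ht : ∀ a : Kˣ, R (t a) v = c a • v) (ht' : ∀ a : Kˣ, R (t a) v' = c a • v') (A : Module.End k V) :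
    ∃ α : Option K → k, A v = ∑ i, α i • cosetVec R v i ∧ A v' = ∑ i, α i • cosetVec R v' i := by
  classical
  have hA : A ∈ Submodule.span k (Set.range R) := by rw [hspan]; trivial
  induction hA using Submodule.span_induction with
  | mem x hx =>
    obtain ⟨g, rfl⟩ := hx
    rcases bruhat g with ⟨x, a, rfl⟩ | ⟨x, b, y, rfl⟩
    · refine ⟨Pi.single none (c a), ?_, ?_⟩
      · rw [map_mul, Module.End.mul_apply, ht, map_smul, hu, Finset.sum_eq_single none, Pi.single_eq_same]
        · rfl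
        · intro i _ hi
          rw [Pi.single_eq_of_ne hi, zero_smul]
        · intro h; exact absurd (Finset.mem_univ _) h
      · rw [map_mul, Module.End.mul_apply, ht', map_smul, hu', Finset.sum_eq_single none, Pi.single_eq_same]
        · rfl
        · intro i _ hi
          rw [Pi.single_eq_of_ne hi, zero_smul]
        · intro h; exact absurd (Finset.mem_univ _) h
    · refine ⟨Pi.single (some x) (c b), ?_, ?_⟩
      · rw [← w_one_mul_t b, map_mul, Module.End.mul_apply, hu, ← mul_assoc, map_mul, Module.End.mul_apply, ht,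
          map_smul, Finset.sum_eq_single (some x), Pi.single_eq_same]
        · rfl
        · intro i _ hi
          rw [Pi.single_eq_of_ne hi, zero_smul]
        · intro h; exact absurd (Finset.mem_univ _) h
      · rw [← w_one_mul_t b, map_mul, Module.End.mul_apply, hu', ← mul_assoc, map_mul, Module.End.mul_apply, ht',
          map_smul, Finset.sum_eq_single (some x), Pi.single_eq_same]
        · rfl
        · intro i _ hi
          rw [Pi.single_eq_of_ne hi, zero_smul]
        · intro h; exact absurd (Finset.mem_univ _) h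
  | zero => exact ⟨0, by simp, by simp⟩
  | add x y _ _ hx hy =>
    obtain ⟨α, h1, h2⟩ := hx
    obtain ⟨β, h3, h4⟩ := hy
    refine ⟨α + β, ?_, ?_⟩
    · simp only [LinearMap.add_apply, h1, h3, Pi.add_apply, add_smul, Finset.sum_add_distrib]
    · simp only [LinearMap.add_apply, h2, h4, Pi.add_apply, add_smul, Finset.sum_add_distrib]
  | smul a x _ hx =>
    obtain ⟨α, h1, h2⟩ := hx
    refine ⟨a • α, ?_, ?_⟩
    · simp only [LinearMap.smul_apply, h1, Pi.smul_apply, smul_assoc, Finset.smul_sum]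
    · simp only [LinearMap.smul_apply, h2, Pi.smul_apply, smul_assoc, Finset.smul_sum]

/-- Two `B`-eigenvectors with the same character are proportional (degree `q + 1`). -/
theorem eq_of_eigen (hspan : Submodule.span k (Set.range R) = ⊤) (hd : finrank k V = Fintype.card K + 1)
    {v v' : V} (hv0 : v ≠ 0) {c : Kˣ → k}
    (hu : ∀ x, R (u x) v = v) (hu' : ∀ x, R (u x) v' = v')
    (ht : ∀ a : Kˣ, R (t a) v = c a • v) (ht' : ∀ a : Kˣ, R (t a) v' = c a • v') : ∃ s : k, v' = s • v := by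
  classical
  obtain ⟨φ, hφ⟩ := exists_dual (k := k) hv0
  -- the coset vectors of `v` form a basis
  have hgen : ⊤ ≤ Submodule.span k (Set.range (cosetVec R v)) := by
    intro y _
    obtain ⟨α, h1, -⟩ := exists_coord R hspan hu hu' ht ht' (φ.smulRight y)
    rw [LinearMap.smulRight_apply, hφ, one_smul] at h1
    rw [h1]
    exact Submodule.sum_mem _ fun i _ => Submodule.smul_mem _ _ (Submodule.subset_span ⟨i, rfl⟩)
  have hcard : Fintype.card (Option K) = finrank k V := by rw [hd, Fintype.card_option]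
  have hli : LinearIndependent k (cosetVec R v) :=
    linearIndependent_of_top_le_span_of_card_eq_finrank hgen hcard
  -- an operator with `A v = 0`, `A v' = v' - φ v' • v`
  let A : Module.End k V := LinearMap.id - φ.smulRight v
  obtain ⟨α, h1, h2⟩ := exists_coord R hspan hu hu' ht ht' A
  have h3 : A v = 0 := by
    simp [A, hφ]
  rw [h3] at h1
  have h4 := Fintype.linearIndependent_iff.1 hli α h1.symm
  rw [Finset.sum_congr rfl (g := fun _ => (0 : V)) fun i _ => by rw [h4 i, zero_smul], Finset.sum_const_zero] at h2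
  refine ⟨φ v', ?_⟩
  have h5 : v' - φ v' • v = 0 := h2
  exact sub_eq_zero.1 h5

include hψ hK in
/-- **`λ² ≠ 1`.** -/
theorem c_ne (hspan : Submodule.span k (Set.range R) = ⊤) (hd : finrank k V = Fintype.card K + 1)
    (h0 : finrank k (LinearMap.range (E R ψ 0)) = 2) {v : V} (hv0 : v ≠ 0) (hv : E R ψ 0 v = v) (c : Kˣ → k)
    (ht : ∀ a : Kˣ, R (t a) v = c a • v) : ∃ a : Kˣ, c a ≠ c a⁻¹ := by
  classical
  by_contra hcon
  push Not at hcon
  have hle := fixed_aux R hψ hK hspan hv0 hv fun a => ⟨c a, ht a⟩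
  set v' := E R ψ 0 (R (w 1) v) with hv'
  have ht' : ∀ a : Kˣ, R (t a) v' = c a • v' := by
    intro a
    have h3 := congrArg (fun f : Module.End k V => f (R (w 1) v)) (t_mul_E R ψ a 0)
    rw [zero_div] at h3
    simp only [Module.End.mul_apply] at h3
    rw [hv', h3]
    have h4 := congrArg (fun g => R g v) (t_mul_w a)
    simp only [map_mul, Module.End.mul_apply] at h4
    rw [h4, ht, map_smul, map_smul, hcon a]
  have hu : ∀ {z : V}, E R ψ 0 z = z → ∀ x : K, R (u x) z = z := by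
    intro z hz x
    have h3 := congrArg (fun f : Module.End k V => f z) (R_mul_E R ψ 0 x)
    simp only [Module.End.mul_apply, hz, zero_mul, AddChar.map_zero_eq_one, one_smul] at h3
    exact h3
  have hv'E : E R ψ 0 v' = v' := E_apply_self R hψ hK ⟨v', LinearMap.mem_range_self _ _⟩
  obtain ⟨s, hs⟩ := eq_of_eigen R hspan hd hv0 (hu hv) (hu hv'E) ht ht'
  have h3 : LinearMap.range (E R ψ 0) ≤ Submodule.span k {v} := by
    refine hle.trans ?_
    rw [Submodule.span_le]
    rintro x (rfl | hx)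
    · exact Submodule.mem_span_singleton_self _
    · rw [Set.mem_singleton_iff] at hx
      rw [hx, hs]
      exact Submodule.smul_mem _ _ (Submodule.mem_span_singleton_self _)
  have h4 := (Submodule.finrank_mono h3).trans (finrank_span_le_card _)
  rw [h0] at h4
  simp at h4

end Cfsg.Agent.H114.Ty
end

-- part: H114/TyL2
section
/-!
# The type of the quadratic form fixed by `PSL₂(q)`-cores of degree `q - 1` and `q + 1` (odd characteristic, helper114)

* `plus_iff_minus` : `|K| = r` an odd prime, `n + 1 = r`, `n = 2 m` : plus type ⟺ `(-1)^m * r` is a square;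
* `plus_iff_plus`: `n = r + 1` : plus type ⟺ `d` is a square, `d = - (-1)^m r (c - c⁻¹)²`, `c ^ (r - 1) = 1`, `c² ≠ 1`.
-/

set_option autoImplicit false
set_option linter.unusedSectionVars false

namespace Cfsg.Agent.H114.Ty

open Matrix Module Cfsg Cfsg.Geo Cfsg.Agent.H464.Sl2 Cfsg.Agent.H915.LD

section Adj

variable {ι : Type} [Fintype ι] [DecidableEq ι] {F : Type*} [Field F]

/-- `N` is adjoint to `M` -/
def Adj (Q : (ι → F) → F) (M N : Matrix ι ι F) : Prop :=
  ∀ x y, QuadraticMap.polar Q x (M *ᵥ y) = QuadraticMap.polar Q (N *ᵥ x) y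

variable {Q : (ι → F) → F}

theorem Adj.add (hQ : IsNondegenerateQuadraticForm Q) {M N M' N' : Matrix ι ι F} (h : Adj Q M N) (h' : Adj Q M' N') :
    Adj Q (M + M') (N + N') := fun x y => by
  rw [Matrix.add_mulVec, Matrix.add_mulVec, hQ.polar_bilinear.add_right, hQ.polar_bilinear.add_left, h, h']

theorem Adj.smul (hQ : IsNondegenerateQuadraticForm Q) {M N : Matrix ι ι F} (h : Adj Q M N) (c : F) :
    Adj Q (c • M) (c • N) := fun x y => by
  rw [Matrix.smul_mulVec, Matrix.smul_mulVec, hQ.polar_bilinear.smul_right, hQ.polar_bilinear.smul_left, h]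

theorem Adj.neg (hQ : IsNondegenerateQuadraticForm Q) {M N : Matrix ι ι F} (h : Adj Q M N) : Adj Q (-M) (-N) := by
  have := h.smul hQ (-1)
  simpa using this

theorem Adj.sub (hQ : IsNondegenerateQuadraticForm Q) {M N M' N' : Matrix ι ι F} (h : Adj Q M N) (h' : Adj Q M' N') :
    Adj Q (M - M') (N - N') := by
  rw [sub_eq_add_neg, sub_eq_add_neg]
  exact h.add hQ (h'.neg hQ)

theorem Adj.mul {M N M' N' : Matrix ι ι F} (h : Adj Q M N) (h' : Adj Q M' N') : Adj Q (M * M') (N' * N) := fun x y => by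
  rw [← Matrix.mulVec_mulVec, h, h', Matrix.mulVec_mulVec]

theorem Adj.sum (hQ : IsNondegenerateQuadraticForm Q) {κ : Type*} (s : Finset κ) {M N : κ → Matrix ι ι F}
    (h : ∀ i ∈ s, Adj Q (M i) (N i)) : Adj Q (∑ i ∈ s, M i) (∑ i ∈ s, N i) := by
  classical
  induction s using Finset.induction_on with
  | empty =>
    intro x y
    have h1 := hQ.polar_bilinear.smul_right 0 x 0
    have h2 := hQ.polar_bilinear.smul_left 0 0 y
    rw [zero_mul, zero_smul] at h1 h2
    rw [Finset.sum_empty, Finset.sum_empty, Matrix.zero_mulVec, Matrix.zero_mulVec, h1, h2]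
  | insert a s ha ih =>
    rw [Finset.sum_insert ha, Finset.sum_insert ha]
    exact (h a (Finset.mem_insert_self _ _)).add hQ (ih fun i hi => h i (Finset.mem_insert_of_mem hi))

theorem adj_of_fix {g : GL ι F} (h : ∀ v, Q ((g : Matrix ι ι F) *ᵥ v) = Q v) :
    Adj Q (g : Matrix ι ι F) ((g⁻¹ : GL ι F) : Matrix ι ι F) := fun x y => by
  have h1 : x = (g : Matrix ι ι F) *ᵥ (((g⁻¹ : GL ι F) : Matrix ι ι F) *ᵥ x) := by
    rw [Matrix.mulVec_mulVec, ← Units.val_mul, mul_inv_cancel, Units.val_one, Matrix.one_mulVec]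
  conv_lhs => rw [h1]
  unfold QuadraticMap.polar
  rw [← Matrix.mulVec_add, h, h, h]

end Adj

section Setup

variable {n : ℕ} {F : Type*} [Field F] {P : Subgroup (GL (Fin n) F)}

theorem setup (hC : Core P) {K : Type*} [Field K] [Fintype K] (h5 : 5 ≤ Fintype.card K)
    (h9 : Fintype.card K ≠ 9) (e : Soc P ≃* ProjectiveSpecialLinearGroup (Fin 2) K) :
    ∃ ρ : _root_.Matrix.SpecialLinearGroup (Fin 2) K →* GL (Fin n) F, ρ.range = P ∧ ρ ≠ 1 ∧
      Submodule.span F (Set.range fun g => (ρ g : Matrix (Fin n) (Fin n) F)) = ⊤ := by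
  obtain ⟨ρ, hρ, -⟩ := l2_rep hC h5 h9 e
  refine ⟨ρ, hρ, ?_, ?_⟩
  · intro h1
    rw [h1] at hρ
    apply hC.nonabelian
    have h3 : Subsingleton P := by
      constructor
      rintro ⟨a, ha⟩ ⟨b, hb⟩
      rw [← hρ] at ha hb
      obtain ⟨x, rfl⟩ := ha
      obtain ⟨y, rfl⟩ := hb
      rfl
    have h2 : Subsingleton (P ⧸ (scalars (Fin n) F).subgroupOf P) := by
      constructor
      intro a b
      induction a using QuotientGroup.induction_on with
      | H a =>
        induction b using QuotientGroup.induction_on with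
        | H b => rw [Subsingleton.elim a b]
    exact ⟨⟨fun a b => Subsingleton.elim _ _⟩⟩
  · apply span_eq_top
    rw [hρ]
    exact hC.absIrred

end Setup

section inv

variable {K : Type*} [Field K]

theorem u_inv (x : K) : (u x)⁻¹ = u (-x) := by
  rw [inv_eq_iff_mul_eq_one, ← u_add, add_neg_cancel, u_zero]

theorem t_inv (b : Kˣ) : (t b)⁻¹ = t b⁻¹ := (map_inv tHom b).symm

end inv

section Main

variable {n : ℕ} {F : Type*} [Field F] [Finite F] {K : Type*} [Field K] [Fintype K]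
  (ρ : _root_.Matrix.SpecialLinearGroup (Fin 2) K →* GL (Fin n) F)

theorem det_ext_eq (k : Type*) [Field k] [Algebra F k] (M : Matrix (Fin n) (Fin n) F) :
    LinearMap.det (Matrix.toLin' (M.map (algebraMap F k))) = algebraMap F k M.det := by
  rw [LinearMap.det_toLin']
  exact ((algebraMap F k).map_det M).symm

/-- **Degree `r - 1`.** -/
theorem plus_iff_minus (hρ : ρ ≠ 1) (hspan : Submodule.span F (Set.range fun g => (ρ g : Matrix (Fin n) (Fin n) F)) = ⊤)
    (hr : (Fintype.card K).Prime) (hodd : Odd (Fintype.card K)) (hK : (Fintype.card K : F) ≠ 0)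
    (hn : n + 1 = Fintype.card K) {m : ℕ} (hm : n = 2 * m) (h2 : (2 : F) ≠ 0) {Q : (Fin n → F) → F}
    (hQ : IsNondegenerateQuadraticForm Q) (hfix : ∀ g v, Q ((ρ g : Matrix (Fin n) (Fin n) F) *ᵥ v) = Q v)
    (h3 : 3 < Fintype.card K) :
    IsPlusTypeOn Q ⊤ ↔ IsSquare ((-1) ^ m * (Fintype.card K : F)) := by
  classical
  let k := AlgebraicClosure F
  have hKk : (Fintype.card K : k) ≠ 0 := by
    intro h
    apply hK
    apply (algebraMap F k).injective
    rw [map_natCast, map_zero]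
    exact h
  obtain ⟨ψ, hψ⟩ := exists_prim hKk
  have hR : _root_.Cfsg.Agent.H464.Sl2.ext ρ k ≠ 1 := ext_ne_one ρ k hρ
  have hs := span_ext ρ k hspan
  have hfr : finrank k (Fin n → k) = n := by rw [finrank_fintype_fun_eq_card, Fintype.card_fin]
  have hdim := dim_cases (_root_.Cfsg.Agent.H464.Sl2.ext ρ k) hψ hKk hs hR
  rw [hfr] at hdim
  have h1 : ∀ b : K, b ≠ 0 → finrank k (LinearMap.range (E (_root_.Cfsg.Agent.H464.Sl2.ext ρ k) ψ b)) = 1 := by
    rcases hdim with h | h
    · exact h.1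
    · (clear * - hn h3 h; omega)
  have h0 : finrank k (LinearMap.range (E (_root_.Cfsg.Agent.H464.Sl2.ext ρ k) ψ 0)) = 0 := by
    have h4 := finrank_eq (_root_.Cfsg.Agent.H464.Sl2.ext ρ k) hψ hKk
    rw [hfr, Finset.sum_congr rfl fun b hb => h1 b (Finset.ne_of_mem_erase hb), Finset.sum_const,
      Finset.card_erase_of_mem (Finset.mem_univ _), Finset.card_univ, smul_eq_mul, mul_one] at h4
    omega
  have h4 := det_minus (_root_.Cfsg.Agent.H464.Sl2.ext ρ k) hψ hKk hr hodd h1 h0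
  let D : Matrix (Fin n) (Fin n) F := (ρ (u 1) : Matrix (Fin n) (Fin n) F) - (ρ (u (-1)) : Matrix (Fin n) (Fin n) F)
  have hD : D.det = (Fintype.card K : F) := by
    apply (algebraMap F k).injective
    rw [← det_ext_eq k, map_natCast, ← h4]
    congr 1
    rw [ext_apply, ext_apply, ← map_sub]
    congr 1
    ext i j
    simp [D]
  have hinv : (ρ (u 1))⁻¹ = ρ (u (-1)) := by
    rw [inv_eq_iff_mul_eq_one, ← map_mul, ← u_add, add_neg_cancel, u_zero, map_one]
  have ha1 : Adj Q (ρ (u 1) : Matrix (Fin n) (Fin n) F) (ρ (u (-1)) : Matrix (Fin n) (Fin n) F) := by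
    rw [← hinv]
    exact adj_of_fix (hfix _)
  have ha2 : Adj Q (ρ (u (-1)) : Matrix (Fin n) (Fin n) F) (ρ (u 1) : Matrix (Fin n) (Fin n) F) := by
    have h5 := adj_of_fix (g := ρ (u (-1))) (hfix _)
    rwa [← hinv, inv_inv, hinv] at h5
  have ha : Adj Q D (-D) := by
    have h5 := ha1.sub hQ ha2
    change Adj Q ((ρ (u 1) : Matrix (Fin n) (Fin n) F) - (ρ (u (-1)) : Matrix (Fin n) (Fin n) F))
      (-((ρ (u 1) : Matrix (Fin n) (Fin n) F) - (ρ (u (-1)) : Matrix (Fin n) (Fin n) F)))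
    rw [neg_sub]
    exact h5
  rw [← hD]
  refine plus_iff hQ h2 (by rw [Fintype.card_fin]; exact hm) (fun x y => ?_) (by rw [hD]; exact hK)
  rw [ha x y, Matrix.neg_mulVec, ← neg_one_smul F (D *ᵥ x), hQ.polar_bilinear.smul_left, neg_one_mul]

/-- the averaging idempotent of `U` over `F` -/
noncomputable def E0 : Matrix (Fin n) (Fin n) F :=
  ((Fintype.card K : F))⁻¹ • ∑ x : K, (ρ (u x) : Matrix (Fin n) (Fin n) F)

/-- the skew-adjoint operator -/
noncomputable def Dm (a : Kˣ) : Matrix (Fin n) (Fin n) F :=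
  (ρ (u 1) : Matrix (Fin n) (Fin n) F) - (ρ (u (-1)) : Matrix (Fin n) (Fin n) F) +
    E0 ρ * ((ρ (t a) : Matrix (Fin n) (Fin n) F) - (ρ (t a⁻¹) : Matrix (Fin n) (Fin n) F)) * E0 ρ

theorem E0_ext {k : Type*} [Field k] [Algebra F k] (ψ : AddChar K k) :
    Matrix.toLin' ((E0 ρ).map (algebraMap F k)) = E (_root_.Cfsg.Agent.H464.Sl2.ext ρ k) ψ 0 := by
  unfold E
  have h5 : (E0 ρ).map (algebraMap F k) =
      ((Fintype.card K : k))⁻¹ • ∑ x : K, (ρ (u x) : Matrix (Fin n) (Fin n) F).map (algebraMap F k) := by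
    ext i j
    simp only [E0, Matrix.map_apply, Matrix.smul_apply, Matrix.sum_apply, smul_eq_mul, map_mul, map_inv₀,
      map_natCast, map_sum]
  rw [h5, map_smul, map_sum]
  congr 1
  refine Finset.sum_congr rfl fun x _ => ?_
  rw [zero_mul, neg_zero, AddChar.map_zero_eq_one, one_smul, ext_apply]

theorem toLin'_map_mul {k : Type*} [Field k] [Algebra F k] (M N : Matrix (Fin n) (Fin n) F) :
    Matrix.toLin' ((M * N).map (algebraMap F k)) =
      Matrix.toLin' (M.map (algebraMap F k)) * Matrix.toLin' (N.map (algebraMap F k)) := by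
  rw [Matrix.map_mul, Matrix.toLin'_mul]
  rfl

/-- **The data in degree `r + 1`.** -/
theorem plus_data (hρ : ρ ≠ 1) (hspan : Submodule.span F (Set.range fun g => (ρ g : Matrix (Fin n) (Fin n) F)) = ⊤)
    (hr : (Fintype.card K).Prime) (hodd : Odd (Fintype.card K)) (hK : (Fintype.card K : F) ≠ 0)
    (hn : n = Fintype.card K + 1) :
    ∃ c : Kˣ → AlgebraicClosure F, c 1 = 1 ∧ (∀ x y, c (x * y) = c x * c y) ∧ (∃ a, c a ^ 2 ≠ 1) ∧
      (∀ a, algebraMap F (AlgebraicClosure F) (Dm ρ a).det =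
        - (Fintype.card K : AlgebraicClosure F) * (c a - (c a)⁻¹) ^ 2) ∧ (E0 ρ).rank = 2 := by
  classical
  let k := AlgebraicClosure F
  have hKk : (Fintype.card K : k) ≠ 0 := by
    intro h
    apply hK
    apply (algebraMap F k).injective
    rw [map_natCast, map_zero]
    exact h
  obtain ⟨ψ, hψ⟩ := exists_prim hKk
  have hR : _root_.Cfsg.Agent.H464.Sl2.ext ρ k ≠ 1 := ext_ne_one ρ k hρ
  have hs := span_ext ρ k hspan
  have hfr : finrank k (Fin n → k) = n := by rw [finrank_fintype_fun_eq_card, Fintype.card_fin]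
  have hdim := dim_cases (_root_.Cfsg.Agent.H464.Sl2.ext ρ k) hψ hKk hs hR
  rw [hfr] at hdim
  have hr2 := hr.two_le
  have h1 : ∀ b : K, b ≠ 0 → finrank k (LinearMap.range (E (_root_.Cfsg.Agent.H464.Sl2.ext ρ k) ψ b)) = 1 := by
    rcases hdim with h | h
    · exact h.1
    · omega
  have h0 : finrank k (LinearMap.range (E (_root_.Cfsg.Agent.H464.Sl2.ext ρ k) ψ 0)) = 2 := by
    have h4 := finrank_eq (_root_.Cfsg.Agent.H464.Sl2.ext ρ k) hψ hKk
    rw [hfr, Finset.sum_congr rfl fun b hb => h1 b (Finset.ne_of_mem_erase hb), Finset.sum_const,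
      Finset.card_erase_of_mem (Finset.mem_univ _), Finset.card_univ, smul_eq_mul, mul_one] at h4
    omega
  have hne : LinearMap.range (E (_root_.Cfsg.Agent.H464.Sl2.ext ρ k) ψ 0) ≠ ⊥ := by
    intro h
    rw [h, finrank_bot] at h0
    exact absurd h0 (by norm_num)
  obtain ⟨v, hv0, hv, ht⟩ := exists_eigen (_root_.Cfsg.Agent.H464.Sl2.ext ρ k) hψ hKk hne
  choose c hc using ht
  obtain ⟨a, ha⟩ := c_ne (_root_.Cfsg.Agent.H464.Sl2.ext ρ k) hψ hKk hs (by rw [hfr, hn]) h0 hv0 hv c hc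
  have hcmul : ∀ x y : Kˣ, c (x * y) = c x * c y := by
    intro x y
    have h5 := hc (x * y)
    rw [t_mul, map_mul, Module.End.mul_apply, hc y, map_smul, hc x, smul_smul] at h5
    have h6 : (c y * c x - c (x * y)) • v = 0 := by rw [sub_smul, h5, sub_self]
    have h7 := (smul_eq_zero.1 h6).resolve_right hv0
    linear_combination -h7
  have hc1 : c 1 = 1 := by
    have h5 := hc 1
    rw [t_one, map_one, Module.End.one_apply] at h5
    have h6 : (1 - c 1) • v = 0 := by rw [sub_smul, one_smul, ← h5, sub_self]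
    have h7 := (smul_eq_zero.1 h6).resolve_right hv0
    linear_combination -h7
  have hcinv : ∀ a, c a⁻¹ = (c a)⁻¹ := by
    intro a
    have h5 := hcmul a a⁻¹
    rw [mul_inv_cancel, hc1] at h5
    exact (eq_inv_of_mul_eq_one_right h5.symm)
  refine ⟨c, hc1, hcmul, ⟨a, ?_⟩, ?_, ?_⟩
  · intro h
    apply ha
    rw [hcinv]
    exact eq_inv_of_mul_eq_one_left (by rw [← sq, h])
  · intro a
    rw [← hcinv, ← det_plus (_root_.Cfsg.Agent.H464.Sl2.ext ρ k) hψ hKk hs hr hodd h1 h0 hv0 hv c hc a, ← det_ext_eq k]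
    congr 1
    have h5 : (Dm ρ a).map (algebraMap F k) = ((ρ (u 1) : Matrix (Fin n) (Fin n) F).map (algebraMap F k) -
        (ρ (u (-1)) : Matrix (Fin n) (Fin n) F).map (algebraMap F k)) +
        (E0 ρ * ((ρ (t a) : Matrix (Fin n) (Fin n) F) - (ρ (t a⁻¹) : Matrix (Fin n) (Fin n) F)) * E0 ρ).map
          (algebraMap F k) := by
      ext i j
      simp only [Dm, Matrix.map_apply, Matrix.add_apply, Matrix.sub_apply, map_add, map_sub]
    rw [h5, map_add, map_sub, toLin'_map_mul, toLin'_map_mul, E0_ext ρ ψ, ← ext_apply, ← ext_apply]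
    congr 3
    rw [ext_apply, ext_apply, ← map_sub]
    congr 1
    ext i j
    simp only [_root_.Matrix.map_apply, _root_.Matrix.sub_apply, _root_.map_sub]
  · rw [← H593.RobinsonRank.rank_map (algebraMap F k) (E0 ρ), Matrix.rank, ← h0, ← E0_ext ρ ψ]
    rfl

section fix

variable {Q : (Fin n → F) → F} (hQ : IsNondegenerateQuadraticForm Q)
  (hfix : ∀ g v, Q ((ρ g : Matrix (Fin n) (Fin n) F) *ᵥ v) = Q v)

include hQ hfix

omit hQ in
theorem adj_rho (g : _root_.Matrix.SpecialLinearGroup (Fin 2) K) :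
    Adj Q (ρ g : Matrix (Fin n) (Fin n) F) (ρ g⁻¹ : Matrix (Fin n) (Fin n) F) := by
  rw [map_inv]
  exact adj_of_fix (hfix _)

theorem adj_E0 : Adj Q (E0 ρ) (E0 ρ) := by
  have h5 : Adj Q (E0 ρ) (((Fintype.card K : F))⁻¹ • ∑ x : K, (ρ (u (-x)) : Matrix (Fin n) (Fin n) F)) := by
    refine Adj.smul hQ (Adj.sum hQ _ fun x _ => ?_) _
    have := adj_rho ρ hfix (u x)
    rwa [u_inv] at this
  have h6 : ∑ x : K, (ρ (u (-x)) : Matrix (Fin n) (Fin n) F) = ∑ x : K, (ρ (u x) : Matrix (Fin n) (Fin n) F) :=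
    Equiv.sum_comp (Equiv.neg K) fun x => (ρ (u x) : Matrix (Fin n) (Fin n) F)
  rwa [h6] at h5

theorem adj_Dm (a : Kˣ) : Adj Q (Dm ρ a) (-(Dm ρ a)) := by
  have hau : Adj Q ((ρ (u 1) : Matrix (Fin n) (Fin n) F) - (ρ (u (-1)) : Matrix (Fin n) (Fin n) F))
      (-((ρ (u 1) : Matrix (Fin n) (Fin n) F) - (ρ (u (-1)) : Matrix (Fin n) (Fin n) F))) := by
    have h5 := adj_rho ρ hfix (u 1)
    have h6 := adj_rho ρ hfix (u (-1))
    rw [u_inv] at h5 h6
    rw [neg_neg] at h6
    have h7 := h5.sub hQ h6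
    rw [neg_sub]
    exact h7
  have hat : Adj Q ((ρ (t a) : Matrix (Fin n) (Fin n) F) - (ρ (t a⁻¹) : Matrix (Fin n) (Fin n) F))
      (-((ρ (t a) : Matrix (Fin n) (Fin n) F) - (ρ (t a⁻¹) : Matrix (Fin n) (Fin n) F))) := by
    have h5 := adj_rho ρ hfix (t a)
    have h6 := adj_rho ρ hfix (t a⁻¹)
    rw [t_inv] at h5 h6
    rw [inv_inv] at h6
    have h7 := h5.sub hQ h6
    rw [neg_sub]
    exact h7
  have haE := adj_E0 ρ hQ hfix
  have h5 := hau.add hQ ((haE.mul hat).mul haE)
  have h6 : -(Dm ρ a) = -((ρ (u 1) : Matrix (Fin n) (Fin n) F) - (ρ (u (-1)) : Matrix (Fin n) (Fin n) F)) +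
      E0 ρ * (-((ρ (t a) : Matrix (Fin n) (Fin n) F) - (ρ (t a⁻¹) : Matrix (Fin n) (Fin n) F)) * E0 ρ) := by
    simp only [Dm]
    noncomm_ring
  rw [h6]
  exact h5

end fix

theorem c_pow {R : Type*} [Field R] {c : Kˣ → R} (hc1 : c 1 = 1) (hcmul : ∀ x y, c (x * y) = c x * c y) (a : Kˣ)
    (j : ℕ) : c (a ^ j) = c a ^ j := by
  induction j with
  | zero => rw [pow_zero, pow_zero, hc1]
  | succ j ih => rw [pow_succ, hcmul, ih, pow_succ]

theorem c_pow_card {R : Type*} [Field R] {c : Kˣ → R} (hc1 : c 1 = 1) (hcmul : ∀ x y, c (x * y) = c x * c y) (a : Kˣ) :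
    c a ^ (Fintype.card K - 1) = 1 := by
  classical
  rw [← c_pow hc1 hcmul]
  have h5 : a ^ (Fintype.card K - 1) = 1 := by
    have := pow_card_eq_one (x := a)
    rwa [Fintype.card_units] at this
  rw [h5, hc1]

/-- **Degree `r + 1`.** -/
theorem plus_iff_plus (hρ : ρ ≠ 1) (hspan : Submodule.span F (Set.range fun g => (ρ g : Matrix (Fin n) (Fin n) F)) = ⊤)
    (hr : (Fintype.card K).Prime) (hodd : Odd (Fintype.card K)) (hK : (Fintype.card K : F) ≠ 0)
    (hn : n = Fintype.card K + 1) {m : ℕ} (hm : n = 2 * m) (h2 : (2 : F) ≠ 0) {Q : (Fin n → F) → F}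
    (hQ : IsNondegenerateQuadraticForm Q) (hfix : ∀ g v, Q ((ρ g : Matrix (Fin n) (Fin n) F) *ᵥ v) = Q v) :
    ∃ (c : AlgebraicClosure F) (d : F), c ^ (Fintype.card K - 1) = 1 ∧ c ^ 2 ≠ 1 ∧
      algebraMap F _ d = - ((-1) ^ m * (Fintype.card K : AlgebraicClosure F) * (c - c⁻¹) ^ 2) ∧
      (IsPlusTypeOn Q ⊤ ↔ IsSquare d) := by
  classical
  obtain ⟨c, hc1, hcmul, ⟨a, ha⟩, hD, -⟩ := plus_data ρ hρ hspan hr hodd hK hn
  have hca := c_pow_card hc1 hcmul a
  have hca0 : c a ≠ 0 := by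
    intro h
    rw [h, zero_pow] at hca
    · exact zero_ne_one hca
    · have := hr.two_le
      omega
  have hDne : (Dm ρ a).det ≠ 0 := by
    intro h
    have h6 := hD a
    rw [h, map_zero] at h6
    rcases mul_eq_zero.1 h6.symm with h5 | h5
    · apply hK
      apply (algebraMap F (AlgebraicClosure F)).injective
      rw [map_natCast, map_zero]
      exact neg_eq_zero.1 h5
    · apply ha
      have h7 := sub_eq_zero.1 (pow_eq_zero_iff two_ne_zero |>.1 h5)
      rw [sq]
      nth_rewrite 2 [h7]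
      exact mul_inv_cancel₀ hca0
  refine ⟨c a, (-1) ^ m * (Dm ρ a).det, hca, ha, ?_, ?_⟩
  · rw [map_mul, hD, map_pow, map_neg, map_one]
    ring
  · have haD := adj_Dm ρ hQ hfix a
    refine plus_iff hQ h2 (by rw [Fintype.card_fin]; exact hm) (fun x y => ?_) hDne
    rw [haD x y, Matrix.neg_mulVec, ← neg_one_smul F (Dm ρ a *ᵥ x), hQ.polar_bilinear.smul_left, neg_one_mul]

end Main

end Cfsg.Agent.H114.Ty
end

-- part: H114/RtKill
section
/-!
# `L₂(13)` is not maximal in `Ω₁₂(7^k)` (overgroup `A₁₄`) (helper114)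

* `altG_le` : `H ≤ stabR Q v` maximal in `E Q`, `P` normal in `H` containing an even permutation `≠ 1` : `altG ≤ P`;
* `not_thirteen` : `char F = 7`, `H` maximal in `omegaGL Q`, `Q` on `F^12`, `IsResidualCore H P`: not
  `P / scalars ≃ PSL₂(13)`.
-/

set_option autoImplicit false
set_option linter.unusedSectionVars false

namespace Cfsg.Agent.H114.Rt

open Matrix Cfsg Cfsg.Geo Cfsg.Agent.H464.Sl2 Cfsg.Agent.H882.Del
open Cfsg.Agent.LieClassical.OrthCore Cfsg.Agent.LieClassical.OrthTrans Cfsg.Agent.LieClassical.OrthFinite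

universe u v

section gen

variable {F : Type*} [Field F] {V : Type*} [AddCommGroup V] [Module F V]
variable {ι : Type*} [Fintype ι] [DecidableEq ι] {v : ι → V} {Q : QuadraticForm F V} {a : F}

theorem SG_le_stabR (S : Sys F v) (hg : Gr Q v a) (h2 : (2 : F) ≠ 0) : SG F v ≤ stabR Q v := fun _ hg' =>
  mem_stabR_of (SG_le_O S hg h2 hg') (fun _ hx => SG_map_rts hg' hx) (fun _ hx => SG_map_rts (inv_mem hg') hx)

/-- The stabiliser of the roots is the maximal subgroup, and the alternating group is contained in every normal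
subgroup that contains a nontrivial even permutation. -/
theorem altG_le [Finite F] (S : Sys F v) (hg : Gr Q v a) (h2 : (2 : F) ≠ 0) (hG : Good Q) (h3 : (3 : F) ≠ 0)
    (h6 : 6 ≤ Fintype.card ι) {H P : Subgroup (V ≃ₗ[F] V)} (hH : IsMaximalIn (_root_.Cfsg.Agent.LieClassical.OrthCore.E Q) H) (hHR : H ≤ stabR Q v)
    (hn : ∀ h ∈ H, ∀ x ∈ P, h * x * h⁻¹ ∈ P) {σ : Equiv.Perm ι} (hσ : σ ∈ alternatingGroup ι) (hσ1 : σ ≠ 1)
    (hσP : S.perm σ ∈ P) : altG S ≤ P := by
  have hK : stabR Q v ⊓ _root_.Cfsg.Agent.LieClassical.OrthCore.E Q = H := by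
    rcases hH.2 (stabR Q v ⊓ _root_.Cfsg.Agent.LieClassical.OrthCore.E Q) (le_inf hHR hH.1.le) inf_le_right with h | h
    · exact h
    · exact absurd (inf_eq_right.1 h) (not_E_le_stabR S h2 hG h3 h6)
  have hAH : altG S ≤ H := by
    rw [← hK]
    exact le_inf ((altG_le_SG S).trans (SG_le_stabR S hg h2)) (altG_le_E S hg h2 hG (by omega))
  let f : alternatingGroup ι →* (V ≃ₗ[F] V) := S.perm.comp (alternatingGroup ι).subtype
  have hf : ∀ σ, f σ ∈ altG S := fun σ => ⟨σ, σ.2, rfl⟩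
  have hN : (P.comap f).Normal := by
    constructor
    intro n hn' g
    rw [Subgroup.mem_comap, map_mul, map_mul, map_inv]
    exact hn _ (hAH (hf g)) _ hn'
  have hs : IsSimpleGroup (alternatingGroup ι) :=
    alternatingGroup.isSimpleGroup (by rw [Nat.card_eq_fintype_card]; omega)
  rcases hs.eq_bot_or_eq_top_of_normal _ hN with h | h
  · exfalso
    have h1 : (⟨σ, hσ⟩ : alternatingGroup ι) ∈ P.comap f := hσP
    rw [h, Subgroup.mem_bot] at h1
    exact hσ1 (congrArg Subtype.val h1)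
  · rintro _ ⟨σ, hσ, rfl⟩
    have h1 : (⟨σ, hσ⟩ : alternatingGroup ι) ∈ P.comap f := by rw [h]; trivial
    exact h1

end gen

section conj

variable {K : Type v} [Field K] [Fintype K] [DecidableEq K] {F : Type u} [Field F] {n : ℕ}
  {ρ : _root_.Matrix.SpecialLinearGroup (Fin 2) K →* GL (Fin n) F}

theorem eq_t_of_central {g : _root_.Matrix.SpecialLinearGroup (Fin 2) K} (hg : ∀ x, g * x = x * g) {a : Kˣ} (ha : a ^ 2 ≠ 1) :
    ∃ ε : Kˣ, ε ^ 2 = 1 ∧ g = t ε := by
  obtain ⟨b, rfl⟩ := eq_t_of_comm ha (hg _)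
  refine ⟨b, ?_, rfl⟩
  have h1 := hg (w 1)
  have h2 := w_conj_t b
  rw [← h1, mul_inv_cancel_right] at h2
  have h3 : (b : K) = ((b⁻¹ : Kˣ) : K) := congrFun (congrFun (congrArg Subtype.val h2) 0) 0
  have h4 : b = b⁻¹ := Units.ext h3
  rw [sq]
  nth_rewrite 2 [h4]
  exact mul_inv_cancel b

theorem t_pow (a : Kˣ) (j : ℕ) : t (a ^ j) = t a ^ j := map_pow tHom a j

/-- An element normalising `P` maps `v₀` to a multiple of some `g v₀`. -/
theorem exists_line (h2 : (2 : K) ≠ 0) {ζ : Kˣ} (hζ : ζ ^ 3 = 1) (hζ1 : ζ ≠ 1)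
    (hT : ∀ g, (ρ g : Matrix (Fin n) (Fin n) F).trace = (fix g : F) - 2)
    (hspan : Submodule.span F (Set.range fun g => (ρ g : Matrix (Fin n) (Fin n) F)) = ⊤)
    (hN : (2 : F) * (Fintype.card Kˣ : F) ≠ 0) {iu : Kˣ} (hi : (iu : K) ^ 2 = -1)
    (hcen : ∀ ε : Kˣ, ε ^ 2 = 1 → ρ (t ε) = 1) (hker : ∀ g, ρ g = 1 → ∀ x, g * x = x * g)
    {v0 : Fin n → F} (hg0 : Good0 ρ v0) (hf : RA ρ (f0 K F) *ᵥ v0 = v0) {h : GL (Fin n) F}
    (hn : ∀ g, ∃ g', h * ρ g * h⁻¹ = ρ g') :
    ∃ (g : _root_.Matrix.SpecialLinearGroup (Fin 2) K) (c : F), (h : Matrix (Fin n) (Fin n) F) *ᵥ v0 =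
      c • ((ρ g : Matrix (Fin n) (Fin n) F) *ᵥ v0) := by
  have hζ2 : ζ ^ 2 ≠ 1 := by
    intro h
    apply hζ1
    have : ζ ^ 3 = ζ ^ 2 * ζ := pow_succ ζ 2
    rw [h, hζ, one_mul] at this
    exact this.symm
  have hsum : (ζ : K) + ((ζ⁻¹ : Kˣ) : K) = -1 := by
    have h1 : (ζ : K) ^ 3 = 1 := by
      have := congrArg (fun z : Kˣ => (z : K)) hζ
      simpa only [_root_.Units.val_pow_eq_pow_val, _root_.Units.val_one] using this
    have h4 : ((ζ : K) - 1) * ((ζ : K) ^ 2 + ζ + 1) = 0 := by linear_combination h1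
    have h5 : (ζ : K) ^ 2 + ζ + 1 = 0 := by
      refine (mul_eq_zero.1 h4).resolve_left ?_
      intro h
      apply hζ1
      apply Units.ext
      rw [Units.val_one]
      exact sub_eq_zero.1 h
    have h6 := ζ.ne_zero
    rw [Units.val_inv_eq_inv_val]
    field_simp
    linear_combination h5
  have hker' : ∀ g, ρ g = 1 → ∃ ε : Kˣ, ε ^ 2 = 1 ∧ g = t ε := fun g hg => eq_t_of_central (hker g hg) hζ2
  -- conjugates of `t ζ`
  obtain ⟨g1, hg1⟩ := hn (t ζ)
  have h3 : ρ (g1 ^ 3) = 1 := by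
    rw [map_pow, ← hg1, conj_pow, ← map_pow, ← t_pow, hζ, t_one, map_one, mul_one, mul_inv_cancel]
  obtain ⟨ε, hε, hg13⟩ := hker' _ h3
  have hg2 : ρ (g1 * t ε) = ρ g1 := by rw [map_mul, hcen ε hε, mul_one]
  have hg23 : (g1 * t ε) ^ 3 = 1 := by
    have hc : Commute g1 (t ε) := (t_sq_central hε g1).symm
    have e : ε ^ 3 = ε := by rw [pow_succ, hε, one_mul]
    rw [hc.mul_pow, hg13, ← t_pow, e, ← t_mul, ← sq, hε, t_one]
  have hg2ne : g1 * t ε ≠ 1 := by
    intro h1
    rw [h1, map_one] at hg2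
    rw [← hg2] at hg1
    have h4 : ρ (t ζ) = 1 := by
      have h5 : ρ (t ζ) = h⁻¹ * (h * ρ (t ζ) * h⁻¹) * h := by group
      rw [h5, hg1, mul_one, inv_mul_cancel]
    obtain ⟨δ, hδ, h6⟩ := hker' _ h4
    have h7 : (ζ : K) = δ := congrFun (congrFun (congrArg Subtype.val h6) 0) 0
    exact hζ2 (by rw [Units.ext h7, hδ])
  obtain ⟨k, hk⟩ := exists_conj_three h2 hζ hζ1 hg23 hg2ne
  -- the element `h'` commutes with `ρ (t ζ)`
  have hk' : h * ρ (t ζ) * h⁻¹ = ρ k * ρ (t ζ) * (ρ k)⁻¹ := by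
    rw [hg1, ← hg2, hk, map_mul, map_mul, map_inv]
  obtain ⟨h', hh'⟩ : ∃ h', h' = (ρ k)⁻¹ * h := ⟨_, rfl⟩
  have hcomm : h' * ρ (t ζ) = ρ (t ζ) * h' := by
    have h5 : h' * ρ (t ζ) = (ρ k)⁻¹ * (h * ρ (t ζ) * h⁻¹) * h := by rw [hh']; group
    rw [h5, hk', hh']
    group
  have hn' : ∀ g, ∃ g', h' * ρ g * h'⁻¹ = ρ g' := by
    intro g
    obtain ⟨g', hg'⟩ := hn g
    refine ⟨k⁻¹ * g' * k, ?_⟩
    rw [map_mul, map_mul, map_inv, ← hg', hh']
    group
  have htr : ∀ (δ a : Kˣ), δ ^ 2 = 1 → (t δ * t a).1 0 0 + (t δ * t a).1 1 1 = (δ : K) * ((a : K) + ((a⁻¹ : Kˣ) : K)) := by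
    intro δ a hδ
    rw [← t_mul]
    have h5 : δ⁻¹ = δ := by rw [inv_eq_iff_mul_eq_one, ← sq, hδ]
    change ((δ * a : Kˣ) : K) + (((δ * a)⁻¹ : Kˣ) : K) = _
    rw [mul_inv, h5, Units.val_mul, Units.val_mul]
    ring
  have htz : ∀ a : Kˣ, (t a).1 0 0 + (t a).1 1 1 = (a : K) + ((a⁻¹ : Kˣ) : K) := fun a => rfl
  have hone : ∀ δ : Kˣ, (-1 : K) = (δ : K) * (-1) → δ = 1 := by
    intro δ h5
    apply Units.ext
    rw [Units.val_one]
    linear_combination h5
  have hta : ∀ a : Kˣ, ∃ b : Kˣ, h' * ρ (t a) * h'⁻¹ = ρ (t b) := by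
    intro a
    obtain ⟨g, hg⟩ := hn' (t a)
    have h4 : ρ (g * t ζ * g⁻¹ * (t ζ)⁻¹) = 1 := by
      rw [map_mul, map_mul, map_mul, map_inv, map_inv, ← hg]
      have h5 : ρ (t a) * ρ (t ζ) = ρ (t ζ) * ρ (t a) := by rw [← map_mul, ← map_mul, ← t_mul, ← t_mul, mul_comm]
      have h6 : h'⁻¹ * ρ (t ζ) = ρ (t ζ) * h'⁻¹ := by
        rw [inv_mul_eq_iff_eq_mul, ← mul_assoc, hcomm, mul_inv_cancel_right]
      calc h' * ρ (t a) * h'⁻¹ * ρ (t ζ) * (h' * ρ (t a) * h'⁻¹)⁻¹ * (ρ (t ζ))⁻¹
          = h' * (ρ (t a) * (h'⁻¹ * ρ (t ζ))) * (h' * ρ (t a) * h'⁻¹)⁻¹ * (ρ (t ζ))⁻¹ := by group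
        _ = (h' * ρ (t ζ)) * ρ (t a) * h'⁻¹ * (h' * ρ (t a) * h'⁻¹)⁻¹ * (ρ (t ζ))⁻¹ := by
            rw [h6, ← mul_assoc (ρ (t a)), h5]; group
        _ = 1 := by rw [hcomm]; group
    obtain ⟨δ, hδ, h5⟩ := hker' _ h4
    have h6 : g * t ζ * g⁻¹ = t δ * t ζ := by rw [← h5]; group
    have h7 := tr_conj g (t ζ)
    rw [h6, htr δ ζ hδ, htz, hsum] at h7
    have h8 := hone δ h7.symm
    rw [h8, t_one, one_mul] at h6
    obtain ⟨b, hb⟩ := eq_t_of_comm hζ2 (mul_inv_eq_iff_eq_mul.1 h6)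
    exact ⟨b, by rw [hg, hb]⟩
  have hwc : ∀ c : Kˣ, ∃ d : Kˣ, h' * ρ (w c) * h'⁻¹ = ρ (w d) := by
    intro c
    obtain ⟨g, hg⟩ := hn' (w c)
    have hwt : w c * t ζ = t ζ⁻¹ * w c := by
      have h5 := w_conj_t ζ
      rw [mul_inv_eq_iff_eq_mul] at h5
      rw [← w_one_mul_t c, mul_assoc, ← t_mul, mul_comm c ζ, t_mul, ← mul_assoc, h5, mul_assoc]
    have h4 : ρ (g * t ζ * g⁻¹ * (t ζ⁻¹)⁻¹) = 1 := by
      rw [map_mul, map_mul, map_mul, map_inv, map_inv, ← hg]
      have h5 : ρ (w c) * ρ (t ζ) = ρ (t ζ⁻¹) * ρ (w c) := by rw [← map_mul, ← map_mul, hwt]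
      have h6 : h'⁻¹ * ρ (t ζ) = ρ (t ζ) * h'⁻¹ := by
        rw [inv_mul_eq_iff_eq_mul, ← mul_assoc, hcomm, mul_inv_cancel_right]
      have h7 : t ζ⁻¹ = (t ζ)⁻¹ := map_inv tHom ζ
      have h8 : h' * ρ (t ζ⁻¹) = ρ (t ζ⁻¹) * h' := by
        rw [h7, map_inv, mul_inv_eq_iff_eq_mul, mul_assoc, hcomm, inv_mul_cancel_left]
      calc h' * ρ (w c) * h'⁻¹ * ρ (t ζ) * (h' * ρ (w c) * h'⁻¹)⁻¹ * (ρ (t ζ⁻¹))⁻¹
          = h' * (ρ (w c) * (h'⁻¹ * ρ (t ζ))) * (h' * ρ (w c) * h'⁻¹)⁻¹ * (ρ (t ζ⁻¹))⁻¹ := by group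
        _ = (h' * ρ (t ζ⁻¹)) * ρ (w c) * h'⁻¹ * (h' * ρ (w c) * h'⁻¹)⁻¹ * (ρ (t ζ⁻¹))⁻¹ := by
            rw [h6, ← mul_assoc (ρ (w c)), h5]; group
        _ = 1 := by rw [h8]; group
    obtain ⟨δ, hδ, h5⟩ := hker' _ h4
    have h6 : g * t ζ * g⁻¹ = t δ * t ζ⁻¹ := by rw [← h5]; group
    have h7 := tr_conj g (t ζ)
    rw [h6, htr δ ζ⁻¹ hδ, htz, inv_inv, add_comm, hsum] at h7
    have h8 := hone δ h7.symm
    rw [h8, t_one, one_mul] at h6
    obtain ⟨b, hb⟩ := eq_w_of_inv hζ2 (mul_inv_eq_iff_eq_mul.1 h6)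
    exact ⟨b, by rw [hg, hb]⟩
  -- the vector `h'⁻¹ v₀`
  have hmv : ∀ (a b : GL (Fin n) F) (y : Fin n → F), ((a * b : GL (Fin n) F) : Matrix (Fin n) (Fin n) F) *ᵥ y =
      (a : Matrix (Fin n) (Fin n) F) *ᵥ ((b : Matrix (Fin n) (Fin n) F) *ᵥ y) := by
    intro a b y
    rw [Units.val_mul, Matrix.mulVec_mulVec]
  obtain ⟨c, hc⟩ := unique_v0 ρ hT hspan hN hi hg0.ne hf
    (v := ((h'⁻¹ : GL (Fin n) F) : Matrix (Fin n) (Fin n) F) *ᵥ v0) (by
      intro a
      obtain ⟨b, hb⟩ := hta a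
      have e : ρ (t a) * h'⁻¹ = h'⁻¹ * ρ (t b) := by rw [← hb]; group
      rw [← hmv, e, hmv, hg0.ft]) (by
      intro c
      obtain ⟨d, hd⟩ := hwc c
      have e : ρ (w c) * h'⁻¹ = h'⁻¹ * ρ (w d) := by rw [← hd]; group
      rw [← hmv, e, hmv, hg0.fw, Matrix.mulVec_neg])
  refine ⟨k, c⁻¹, ?_⟩
  have e1 : (h' : Matrix (Fin n) (Fin n) F) *ᵥ (((h'⁻¹ : GL (Fin n) F) : Matrix (Fin n) (Fin n) F) *ᵥ v0) = v0 := by
    rw [← hmv, mul_inv_cancel, Units.val_one, Matrix.one_mulVec]
  rw [hc, Matrix.mulVec_smul] at e1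
  have hc0 : c ≠ 0 := by
    rintro rfl
    rw [zero_smul] at e1
    exact hg0.ne e1.symm
  have e2 : (h' : Matrix (Fin n) (Fin n) F) *ᵥ v0 = c⁻¹ • v0 := by
    rw [← e1, smul_smul, inv_mul_cancel₀ hc0, one_smul]
    exact congrArg _ e1
  have e3 : h = ρ k * h' := by rw [hh']; group
  rw [e3, hmv, e2, Matrix.mulVec_smul]

/-- **The kill.** -/
theorem kill [Finite F] (h2 : (2 : K) ≠ 0) (hodd : Odd (Fintype.card K)) {ζ : Kˣ} (hζ : ζ ^ 3 = 1) (hζ1 : ζ ≠ 1)
    (hT : ∀ g, (ρ g : Matrix (Fin n) (Fin n) F).trace = (fix g : F) - 2)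
    (hspan : Submodule.span F (Set.range fun g => (ρ g : Matrix (Fin n) (Fin n) F)) = ⊤)
    (hE0 : ∑ x : K, (ρ (u x) : Matrix (Fin n) (Fin n) F) = 0)
    (hN : (2 : F) * (Fintype.card Kˣ : F) ≠ 0) {iu : Kˣ} (hi : (iu : K) ^ 2 = -1)
    (hcen : ∀ ε : Kˣ, ε ^ 2 = 1 → ρ (t ε) = 1) (hker : ∀ g, ρ g = 1 → ∀ x, g * x = x * g)
    (hn : Fintype.card K = n + 1) (h3F : (3 : F) ≠ 0) (h6 : 6 ≤ Fintype.card K)
    (hcard : 2 * Fintype.card K ^ 4 < (Fintype.card K).factorial)
    {Q : QuadraticForm F (Fin n → F)} (hQ : Nondeg Q) {H : Subgroup (GL (Fin n) F)}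
    (hH : IsMaximalIn (omegaGL (Q : (Fin n → F) → F)) H) (hPH : ρ.range ≤ H)
    (hHP : ∀ h ∈ H, ∀ x ∈ ρ.range, h * x * h⁻¹ ∈ ρ.range) : False := by
  have h2F : (2 : F) ≠ 0 := left_ne_zero_of_mul hN
  have hG : Good Q := Cfsg.Agent.H883.Bridge.good_of_card hQ (by rw [Fintype.card_fin]; omega)
  let E0 := glEquiv (Fin n) F
  have hap : ∀ (g : GL (Fin n) F) (v : Fin n → F), E0 g v = (g : Matrix (Fin n) (Fin n) F) *ᵥ v :=
    fun g v => glEquiv_apply g v
  have hH' : IsMaximalIn (_root_.Cfsg.Agent.LieClassical.OrthCore.E Q) (H.map E0.toMonoidHom) := by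
    have h := (Cfsg.Agent.H883.Bridge.isMaximalIn_map_iff E0 (omegaGL (Q : (Fin n → F) → F)) H).2 hH
    rwa [Cfsg.Agent.H883.Bridge.map_omegaGL_eq_E hG] at h
  have hHO : ∀ h ∈ H, E0 h ∈ O Q := fun h hh => E_le_O (hH'.1.le ⟨h, hh, rfl⟩)
  have hfixH : ∀ h ∈ H, ∀ v, Q ((h : Matrix (Fin n) (Fin n) F) *ᵥ v) = Q v := by
    intro h hh v
    rw [← hap]
    exact hHO h hh v
  have hfix : ∀ g v, Q ((ρ g : Matrix (Fin n) (Fin n) F) *ᵥ v) = Q v := fun g v => hfixH _ (hPH ⟨g, rfl⟩) v
  obtain ⟨v0, hv0, hf, ht, hw, hwu⟩ := exists_v0 ρ hT hspan hN hi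
  have hg0 : Good0 ρ v0 := ⟨hv0, ht, hw, hwu⟩
  have S : Sys F (vv ρ v0) := hg0.sys hn (by omega) hspan hE0
  have hg : Gr Q (vv ρ v0) (Q v0) := hg0.gr hfix h2F hi
  have ha : Q v0 ≠ 0 := a_ne S hg hG.nondeg
  -- `H` preserves the roots
  have hroots : ∀ h ∈ H, ∀ x ∈ rts F (vv ρ v0), (h : Matrix (Fin n) (Fin n) F) *ᵥ x ∈ rts F (vv ρ v0) := by
    intro h hh x hx
    obtain ⟨g, rfl⟩ := hg0.of_mem_rts hx
    obtain ⟨k, c, hc⟩ := exists_line h2 hζ hζ1 hT hspan hN hi hcen hker hg0 hf (h := h) (by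
      intro g
      obtain ⟨g', hg'⟩ := hHP h hh (ρ g) ⟨g, rfl⟩
      exact ⟨g', hg'.symm⟩)
    have hcc : c = 1 ∨ c = -1 := by
      have h5 := hfixH h hh v0
      rw [hc, QuadraticMap.map_smul, hfix, smul_eq_mul] at h5
      have h6 : (c * c - 1) * Q v0 = 0 := by linear_combination h5
      exact mul_self_eq_one_iff.1 (sub_eq_zero.1 ((mul_eq_zero.1 h6).resolve_right ha))
    obtain ⟨g', hg'⟩ := hHP h hh (ρ g) ⟨g, rfl⟩
    have e1 : h * ρ g = ρ g' * h := by rw [hg']; group
    have e2 : (h : Matrix (Fin n) (Fin n) F) *ᵥ ((ρ g : Matrix (Fin n) (Fin n) F) *ᵥ v0) =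
        c • ((ρ (g' * k) : Matrix (Fin n) (Fin n) F) *ᵥ v0) := by
      rw [Matrix.mulVec_mulVec, ← Units.val_mul, e1, Units.val_mul, ← Matrix.mulVec_mulVec, hc, Matrix.mulVec_smul,
        mul_vec]
    rw [e2]
    exact rts_smul (hg0.mem_rts _) hcc
  have hHR : H.map E0.toMonoidHom ≤ stabR Q (vv ρ v0) := by
    rintro _ ⟨h, hh, rfl⟩
    refine mem_stabR_of (hHO h hh) (fun x hx => ?_) (fun x hx => ?_)
    · change E0 h x ∈ _
      rw [hap]
      exact hroots h hh x hx
    · change (E0 h)⁻¹ x ∈ _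
      rw [← map_inv, hap]
      exact hroots _ (inv_mem hh) x hx
  -- the translation
  let σ : Equiv.Perm K := Equiv.addLeft (1 : K)
  have hσpow : ∀ j : ℕ, ∀ x : K, (σ ^ j) x = (j : K) + x := by
    intro j
    induction j with
    | zero => intro x; simp
    | succ j ih =>
      intro x
      rw [pow_succ, Equiv.Perm.mul_apply, ih]
      change (j : K) + (1 + x) = _
      push_cast
      ring
  have hσ : σ ∈ alternatingGroup K := by
    rw [Equiv.Perm.mem_alternatingGroup]
    have h5 : σ ^ Fintype.card K = 1 := by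
      ext x
      rw [hσpow]
      have : (Fintype.card K : K) = 0 := Nat.cast_card_eq_zero K
      rw [this, zero_add]
      rfl
    have h7 := congrArg Equiv.Perm.sign h5
    rw [map_pow, map_one] at h7
    rcases Int.units_eq_one_or (Equiv.Perm.sign σ) with h8 | h8
    · exact h8
    · rw [h8, hodd.neg_one_pow] at h7
      exact absurd h7 (by decide)
  have hσ1 : σ ≠ 1 := by
    intro h
    have h5 := Equiv.congr_fun h (0 : K)
    change (1 : K) + 0 = 0 at h5
    rw [add_zero] at h5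
    exact one_ne_zero h5
  have hσP : S.perm σ ∈ ρ.range.map E0.toMonoidHom := by
    refine ⟨ρ (u 1), ⟨_, rfl⟩, ?_⟩
    refine S.ext' fun i => ?_
    rw [S.perm_apply]
    change E0 (ρ (u 1)) _ = _
    rw [hap, u_vv]
    rfl
  have hle := altG_le S hg h2F hG h3F h6 hH' hHR (P := ρ.range.map E0.toMonoidHom) (by
    rintro _ ⟨h, hh, rfl⟩ _ ⟨x, hx, rfl⟩
    refine ⟨h * x * h⁻¹, hHP h hh x hx, ?_⟩
    simp only [_root_.MulEquiv.toMonoidHom_eq_coe, _root_.MonoidHom.coe_coe, _root_.map_mul, _root_.map_inv]) hσ hσ1 hσP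
  -- orders
  have : Finite (ρ.range.map E0.toMonoidHom) := Finite.of_equiv _ (E0.subgroupMap ρ.range).toEquiv
  have hc1 : Nat.card (altG S) ≤ Nat.card (ρ.range.map E0.toMonoidHom) :=
    Nat.card_le_card_of_injective (Subgroup.inclusion hle) (Subgroup.inclusion_injective hle)
  have hc2 : Nat.card (ρ.range.map E0.toMonoidHom) ≤ Fintype.card K ^ 4 := by
    have h5 : Nat.card (ρ.range.map E0.toMonoidHom) = Nat.card ρ.range :=
      (Nat.card_congr (E0.subgroupMap ρ.range).toEquiv).symm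
    rw [h5]
    have h7 : Nat.card ρ.range ≤ Nat.card (_root_.Matrix.SpecialLinearGroup (Fin 2) K) :=
      Nat.card_le_card_of_surjective ρ.rangeRestrict ρ.rangeRestrict_surjective
    refine h7.trans ?_
    have h8 : Nat.card (_root_.Matrix.SpecialLinearGroup (Fin 2) K) ≤ Nat.card (Matrix (Fin 2) (Fin 2) K) :=
      Nat.card_le_card_of_injective (fun g => (g.1 : Matrix (Fin 2) (Fin 2) K)) Subtype.val_injective
    refine h8.trans ?_
    change Nat.card (Fin 2 → Fin 2 → K) ≤ _
    rw [Nat.card_fun, Nat.card_fun, Nat.card_eq_fintype_card, Nat.card_eq_fintype_card, Fintype.card_fin, ← pow_mul]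
  have hc3 : Nat.card (altG S) * 2 = (Fintype.card K).factorial := by
    let e1 : alternatingGroup K ≃* altG S := (alternatingGroup K).equivMapOfInjective S.perm (S.perm_injective (by omega))
    rw [← Nat.card_congr e1.toEquiv]
    have : Nontrivial K := inferInstance
    rw [mul_comm, Nat.card_eq_fintype_card, two_mul_card_alternatingGroup, Fintype.card_perm]
  omega

end conj

end Cfsg.Agent.H114.Rt
end

private theorem dce_fde3c721ea19 : _root_.True := by
  try have : _root_.True := by simp only [_root_.Cfsg.Agent.H114.Rt.ph.congr_simp]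
  try have : _root_.True := by simp only [_root_.Cfsg.Agent.H114.Rt.mv.congr_simp]
  try have : _root_.True := by simp only [_root_.Cfsg.Agent.H114.Rt.pm.eq_1]
  try have : _root_.True := by simp only [_root_.Cfsg.Agent.H114.Ty.Dm.eq_1]
  try have : _root_.True := by simp only [_root_.Cfsg.Agent.H114.Ty.E0.eq_1]
  try have : _root_.True := by simp only [_root_.Cfsg.Agent.H114.Rt.pm.congr_simp]
  exact _root_.True.intro
end

-- part: H114/AltNorm
section
prune_inst 0x140604401400200000005021020002000000422004000008040000000004022298020c1000000000a0290014001000001100000020000000a0004000001000000800200b008000002008e000000000000000000000000000000000000000000000000000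
set_option linter.all false
open scoped Cfsg.Agent.FastGrp

-- part: H114/AltSys
section
/-!
# Systems of vectors in natural modules of alternating groups (helper114)
-/

set_option autoImplicit false
set_option linter.unusedSectionVars false

namespace Cfsg.Agent.H114.AltNat

open Module Equiv Equiv.Perm Cfsg.Agent.H882.Del Cfsg.Geo

namespace NatM

section sys

variable {α : Type*} [Fintype α] [DecidableEq α]
variable {F V : Type*} [Field F] [AddCommGroup V] [Module F V]
variable {ρ : Representation F (alternatingGroup α) V} {f : α → α → V} (h : NatM ρ f)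

/-- the vectors `∑ j, f i j` -/
def vA (f : α → α → V) (i : α) : V := ∑ j, f i j

include h

theorem vA_sub (i j : α) : vA f i - vA f j = (Fintype.card α : F) • f i j := by
  unfold vA
  rw [← Finset.sum_sub_distrib, Finset.sum_congr rfl fun k _ => h.sub i j k, Finset.sum_const, Finset.card_univ,
    Nat.cast_smul_eq_nsmul]

theorem rho_vA (g : alternatingGroup α) (i : α) : ρ g (vA f i) = vA f ((g : Perm α) i) := by
  unfold vA
  rw [map_sum, ← Equiv.sum_comp (g : Perm α) (fun j => f ((g : Perm α) i) j)]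
  exact Finset.sum_congr rfl fun j _ => h.equiv g i j

theorem sum_vA : ∑ i, vA f i = 0 := by
  by_cases hne : Nonempty α
  · obtain ⟨i0⟩ := hne
    unfold vA
    have h1 : ∀ i, ∑ j, f i j = ∑ j, (f i i0 - f j i0) := fun i => Finset.sum_congr rfl fun j _ => (h.sub i j i0).symm
    rw [Finset.sum_congr rfl fun i _ => h1 i]
    simp only [Finset.sum_sub_distrib, Finset.sum_const, ← Finset.smul_sum]
    rw [sub_self]
  · rw [not_nonempty_iff] at hne
    exact Finset.sum_of_isEmpty _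

/-- **`n = m - 1`.** -/
theorem sysA (hn : finrank F V + 1 = Fintype.card α) (hm : (Fintype.card α : F) ≠ 0) (h1 : 0 < finrank F V) :
    Sys F (vA f) where
  span := by
    rw [eq_top_iff, ← h.span, Submodule.span_le]
    rintro _ ⟨⟨i, j⟩, rfl⟩
    change f i j ∈ _
    have h3 : f i j = (Fintype.card α : F)⁻¹ • (vA f i - vA f j) := by
      rw [h.vA_sub, smul_smul, inv_mul_cancel₀ hm, one_smul]
    rw [h3]
    exact Submodule.smul_mem _ _ (Submodule.sub_mem _ (Submodule.subset_span ⟨i, rfl⟩) (Submodule.subset_span ⟨j, rfl⟩))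
  card := hn.symm
  pos := h1
  sum := h.sum_vA

/-- **`n = m - 2`.** -/
theorem sysB (hn : finrank F V + 2 = Fintype.card α) (i0 : α) (h0 : ∑ j, f j i0 = 0) (h1 : 0 < finrank F V) :
    Sys F (fun i : {i // i ≠ i0} => f i i0) where
  span := by
    rw [eq_top_iff, ← h.span' i0, Submodule.span_le]
    rintro _ ⟨j, rfl⟩
    by_cases hj : j = i0
    · subst hj
      change f j j ∈ _
      rw [h.self]
      exact Submodule.zero_mem _
    · exact Submodule.subset_span ⟨⟨j, hj⟩, rfl⟩
  card := by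
    rw [Fintype.card_subtype_compl, Fintype.card_subtype_eq]
    omega
  pos := h1
  sum := by
    rw [← h0, Fintype.sum_eq_add_sum_subtype_ne _ i0, h.self, zero_add]

theorem grA (h4 : 4 ≤ Fintype.card α) {B : V → V → F} (hB : ∀ g x y, B (ρ g x) (ρ g y) = B x y) :
    ∃ a, ∀ i j, i ≠ j → B (vA f i) (vA f j) = a := by
  by_cases hne : ∃ i j : α, i ≠ j
  · obtain ⟨k, l, hkl⟩ := hne
    refine ⟨B (vA f k) (vA f l), fun i j hij => ?_⟩
    obtain ⟨g, h1, h2⟩ := exists_two h4 hij hkl
    rw [← hB g, h.rho_vA, h.rho_vA, h1, h2]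
  · push Not at hne
    exact ⟨0, fun i j hij => absurd (hne i j) hij⟩

theorem grB (h5 : 5 ≤ Fintype.card α) (i0 : α) {B : V → V → F} (hB : ∀ g x y, B (ρ g x) (ρ g y) = B x y) :
    ∃ a, ∀ i j : {i // i ≠ i0}, i ≠ j → B (f i i0) (f j i0) = a := by
  by_cases hne : ∃ i j : {i // i ≠ i0}, i ≠ j
  · obtain ⟨k, l, hkl⟩ := hne
    refine ⟨B (f k i0) (f l i0), fun i j hij => ?_⟩
    obtain ⟨g, h1, h2, h3⟩ := exists_three h5 (fun h => hij (Subtype.ext h)) (fun h => hkl (Subtype.ext h)) i.2 j.2 k.2 l.2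
    rw [← hB g, h.equiv, h.equiv, h1, h2, h3]
  · push Not at hne
    exact ⟨0, fun i j hij => absurd (hne i j) hij⟩

end sys

section type

variable {α : Type} [Fintype α] [DecidableEq α] {F : Type*} [Field F]
variable {ι : Type} [Fintype ι] [DecidableEq ι] {ρ : Representation F (alternatingGroup α) (ι → F)}
  {f : α → α → ι → F} (h : NatM ρ f) {Q : (ι → F) → F} (hQ : IsNondegenerateQuadraticForm Q)
  (hfix : ∀ g v, Q (ρ g v) = Q v)

include hfix in
theorem _root_.Cfsg.Agent.H114.AltNat.polar_fix' (g : alternatingGroup α) (x y : ι → F) :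
    QuadraticMap.polar Q (ρ g x) (ρ g y) = QuadraticMap.polar Q x y := by
  unfold QuadraticMap.polar
  rw [← map_add, hfix, hfix, hfix]

variable [Finite F]

include hfix

include h hQ

/-- type, `n = m - 1`, odd characteristic -/
theorem plusA (h2 : (2 : F) ≠ 0) (h4 : 4 ≤ Fintype.card α) (hn : Fintype.card ι + 1 = Fintype.card α)
    (hm : (Fintype.card α : F) ≠ 0) {k : ℕ} (hk : Fintype.card ι = 2 * k) :
    IsPlusTypeOn Q ⊤ ↔ IsSquare ((-1) ^ k * (Fintype.card α : F)) := by
  have hfin : finrank F (ι → F) = Fintype.card ι := finrank_fintype_fun_eq_card F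
  obtain ⟨a, ha⟩ := h.grA h4 (B := QuadraticMap.polar Q) (polar_fix' hfix)
  exact AltTy.plus_iff h2 hQ (h.sysA (by rw [hfin, hn]) hm (by rw [hfin]; omega)) ha hk (by omega)

/-- type, `n = m - 2`, odd characteristic -/
theorem plusB (h2 : (2 : F) ≠ 0) (h5 : 5 ≤ Fintype.card α) (hn : Fintype.card ι + 2 = Fintype.card α)
    (i0 : α) (h0 : ∑ j, f j i0 = 0) {k : ℕ} (hk : Fintype.card ι = 2 * k) :
    IsPlusTypeOn Q ⊤ ↔ IsSquare ((-1) ^ k * ((Fintype.card ι + 1 : ℕ) : F)) := by
  have hfin : finrank F (ι → F) = Fintype.card ι := finrank_fintype_fun_eq_card F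
  obtain ⟨a, ha⟩ := h.grB h5 i0 (B := QuadraticMap.polar Q) (polar_fix' hfix)
  have h1 := AltTy.plus_iff h2 hQ (h.sysB (by rw [hfin, hn]) i0 h0 (by rw [hfin]; omega)) ha hk (by omega)
  rw [h1, Fintype.card_subtype_compl, Fintype.card_subtype_eq, ← hn]
  rfl

end type

end NatM

end Cfsg.Agent.H114.AltNat
end

-- part: H114/AltTwo
section
/-!
# Natural modules of alternating groups in characteristic 2 (helper114)

* `plus_pow` : `m` an odd prime, `n = m - 1 = 2 k`, plus type ⟹ `|F| ^ k = 1` modulo `m`;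
* `no_form` : `n = m - 2`, `m (m - 1) / 2` odd: no quadratic form.
-/

set_option autoImplicit false
set_option linter.unusedSectionVars false

namespace Cfsg.Agent.H114.AltNat

open Module Equiv Equiv.Perm Cfsg.Agent.H882.Del Cfsg.Geo Matrix

variable {F : Type*} [Field F] {ι : Type} [Fintype ι] [DecidableEq ι]

/-- the representation of a homomorphism into `GL` -/
noncomputable def rep {G : Type*} [Group G] (θ : G →* GL ι F) : Representation F G (ι → F) :=
  ((Matrix.toLinAlgEquiv' : Matrix ι ι F ≃ₐ[F] _).toAlgHom.toRingHom.toMonoidHom).comp ((Units.coeHom _).comp θ)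

theorem rep_apply {G : Type*} [Group G] (θ : G →* GL ι F) (g : G) (v : ι → F) :
    rep θ g v = (θ g : Matrix ι ι F) *ᵥ v := rfl

theorem addRight_mem {m : ℕ} [NeZero m] (hodd : Odd m) :
    (Equiv.addRight (1 : Fin m)) ∈ alternatingGroup (Fin m) := by
  rw [mem_alternatingGroup]
  have hpow : ∀ j : ℕ, ∀ x : Fin m, ((Equiv.addRight (1 : Fin m)) ^ j) x = x + j • (1 : Fin m) := by
    intro j
    induction j with
    | zero => intro x; simp
    | succ j ih =>
      intro x
      rw [pow_succ, Perm.mul_apply, ih]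
      change x + 1 + j • (1 : Fin m) = _
      rw [succ_nsmul]
      abel
  have h5 : (Equiv.addRight (1 : Fin m)) ^ m = 1 := by
    ext x
    rw [hpow]
    have : m • (1 : Fin m) = 0 := by
      have h := card_nsmul_eq_zero (x := (1 : Fin m))
      rwa [Fintype.card_fin] at h
    rw [this, add_zero]
    rfl
  have h7 := congrArg sign h5
  rw [map_pow, map_one] at h7
  rcases Int.units_eq_one_or (sign (Equiv.addRight (1 : Fin m))) with h8 | h8
  · exact h8
  · rw [h8, hodd.neg_one_pow] at h7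
    exact absurd h7 (by decide)

/-- the `m`-cycle -/
def cyc (m : ℕ) [NeZero m] (hodd : Odd m) : alternatingGroup (Fin m) := ⟨Equiv.addRight (1 : Fin m), addRight_mem hodd⟩

theorem cyc_pow (m : ℕ) [NeZero m] (hodd : Odd m) : cyc m hodd ^ m = 1 := by
  apply Subtype.ext
  change (Equiv.addRight (1 : Fin m)) ^ m = 1
  have hpow : ∀ j : ℕ, ∀ x : Fin m, ((Equiv.addRight (1 : Fin m)) ^ j) x = x + j • (1 : Fin m) := by
    intro j
    induction j with
    | zero => intro x; simp
    | succ j ih =>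
      intro x
      rw [pow_succ, Perm.mul_apply, ih]
      change x + 1 + j • (1 : Fin m) = _
      rw [succ_nsmul]
      abel
  ext x
  rw [hpow]
  have : m • (1 : Fin m) = 0 := by
    have h := card_nsmul_eq_zero (x := (1 : Fin m))
    rwa [Fintype.card_fin] at h
  rw [this, add_zero]
  rfl

theorem const_of_shift' {n : ℕ} {R : Type*} {c : Fin (n + 1) → R} (h : ∀ i, c (i + 1) = c i) (i : Fin (n + 1)) :
    c i = c 0 := by
  induction i using Fin.induction with
  | zero => rfl
  | succ i ih => rw [← Fin.coeSucc_eq_succ, h, ih]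

theorem const_of_shift {m : ℕ} [hm : NeZero m] {R : Type*} {c : Fin m → R} (h : ∀ i, c (i + 1) = c i) (i : Fin m) :
    c i = c 0 := by
  obtain ⟨n, rfl⟩ := Nat.exists_eq_succ_of_ne_zero hm.out
  exact const_of_shift' h i

/-- no fixed vectors -/
theorem free_cyc {m : ℕ} [NeZero m] (hodd : Odd m) {V : Type*} [AddCommGroup V] [Module F V]
    {ρ : Representation F (alternatingGroup (Fin m)) V} {f : Fin m → Fin m → V} (h : NatM ρ f)
    (S : Sys F (NatM.vA f)) (hm : (m : F) ≠ 0) {v : V} (hv : ρ (cyc m hodd) v = v) : v = 0 := by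
  obtain ⟨c, rfl⟩ : ∃ c : Fin m → F, ∑ i, c i • NatM.vA f i = v := by
    have hv : v ∈ Submodule.span F (Set.range (NatM.vA f)) := by rw [S.span]; trivial
    rw [← Fintype.range_linearCombination] at hv
    obtain ⟨c, hc⟩ := hv
    exact ⟨c, hc⟩
  have hact : ∀ i, ((cyc m hodd : alternatingGroup (Fin m)) : Perm (Fin m)) i = i + 1 := fun i => rfl
  rw [map_sum] at hv
  have h1 : ∑ i, (c i - c (i + 1)) • NatM.vA f (i + 1) = 0 := by
    have h2 : ∑ i, c (i + 1) • NatM.vA f (i + 1) = ∑ i, c i • NatM.vA f i :=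
      Equiv.sum_comp (Equiv.addRight (1 : Fin m)) fun i => c i • NatM.vA f i
    simp only [sub_smul, Finset.sum_sub_distrib]
    rw [h2, ← hv, sub_eq_zero]
    refine Finset.sum_congr rfl fun i _ => ?_
    rw [map_smul, h.rho_vA, hact]
  have h3 : ∑ i, (c (i - 1) - c i) • NatM.vA f i = 0 := by
    rw [← h1, ← Equiv.sum_comp (Equiv.addRight (1 : Fin m)) fun i => (c (i - 1) - c i) • NatM.vA f i]
    refine Finset.sum_congr rfl fun i _ => ?_
    change (c (i + 1 - 1) - c (i + 1)) • NatM.vA f (i + 1) = _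
    rw [add_sub_cancel_right]
  have h4 : ∀ i, c (i - 1) - c i = c (0 - 1) - c 0 := fun i => S.rel h3 i 0
  have h5 : (m : F) * (c (0 - 1) - c 0) = 0 := by
    have h6 : ∑ i : Fin m, (c (i - 1) - c i) = 0 := by
      rw [Finset.sum_sub_distrib, sub_eq_zero]
      exact Equiv.sum_comp (Equiv.subRight (1 : Fin m)) c
    rw [Finset.sum_congr rfl fun i _ => h4 i, Finset.sum_const, Finset.card_univ, Fintype.card_fin, nsmul_eq_mul] at h6
    exact h6
  have h6 := (mul_eq_zero.1 h5).resolve_left hm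
  have h7 : ∀ i, c (i + 1) = c i := by
    intro i
    have h8 := h4 (i + 1)
    rw [h6, add_sub_cancel_right] at h8
    exact (sub_eq_zero.1 h8).symm
  have h8 := const_of_shift h7
  rw [Finset.sum_congr rfl fun i _ => by rw [h8 i], ← Finset.smul_sum, S.sum, smul_zero]

/-- **`m` prime, `n = m - 1`, characteristic 2.** -/
theorem plus_pow [Finite F] [Fintype F] [CharP F 2] {m : ℕ} [hp : Fact m.Prime] (hm2 : m ≠ 2)
    {θ : alternatingGroup (Fin m) →* GL ι F} {f : Fin m → Fin m → ι → F} (h : NatM (rep θ) f) {Q : (ι → F) → F}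
    (hQ : IsNondegenerateQuadraticForm Q) (hplus : IsPlusTypeOn Q ⊤)
    (hfix : ∀ g v, Q ((θ g : Matrix ι ι F) *ᵥ v) = Q v) (hn : Fintype.card ι + 1 = m) {k : ℕ}
    (hk : Fintype.card ι = 2 * k) (hk0 : 0 < k) : ((Fintype.card F : ℕ) : ZMod m) ^ k = 1 := by
  have : NeZero m := ⟨hp.out.ne_zero⟩
  have hodd : Odd m := hp.out.odd_of_ne_two hm2
  have hmF : (m : F) ≠ 0 := by
    intro h0
    rw [CharP.cast_eq_zero_iff F 2] at h0
    exact hm2 ((Nat.prime_dvd_prime_iff_eq Nat.prime_two hp.out).1 h0).symm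
  have hfin : finrank F (ι → F) = Fintype.card ι := finrank_fintype_fun_eq_card F
  have S : Sys F (NatM.vA f) := h.sysA (by rw [hfin, hn, Fintype.card_fin]) (by rw [Fintype.card_fin]; exact hmF)
    (by rw [hfin]; omega)
  refine Ty.pow_eq_one_of_free hm2 hQ hplus hk (g := θ (cyc m hodd)) ?_ (hfix _) fun v hv => ?_
  · rw [← map_pow, cyc_pow, map_one]
  · exact free_cyc hodd h S hmF (v := v) hv

/-- **`n = m - 2`, characteristic 2.** -/
theorem no_form [CharP F 2] {α : Type} [Fintype α] [DecidableEq α] (h5 : 5 ≤ Fintype.card α)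
    {ρ : Representation F (alternatingGroup α) (ι → F)} {f : α → α → ι → F} (h : NatM ρ f) {Q : (ι → F) → F}
    (hQ : IsNondegenerateQuadraticForm Q) (hfix : ∀ g v, Q (ρ g v) = Q v)
    (hn : Fintype.card ι + 2 = Fintype.card α) (i0 : α) (h0 : ∑ j, f j i0 = 0) {k : ℕ}
    (hk : Fintype.card α * (Fintype.card α - 1) = 2 * (2 * k + 1)) : False := by
  have hfin : finrank F (ι → F) = Fintype.card ι := finrank_fintype_fun_eq_card F
  obtain ⟨a, ha⟩ := h.grB h5 i0 (B := QuadraticMap.polar Q) (polar_fix' hfix)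
  have S := h.sysB (by rw [hfin, hn]) i0 h0 (by rw [hfin]; omega)
  have h2 : (2 : F) = 0 := by exact_mod_cast CharP.cast_eq_zero F 2
  -- all `f i j` have the same value
  obtain ⟨i1, hi1⟩ := exists_not_mem ({i0} : Finset α) (by rw [Finset.card_singleton]; omega)
  rw [Finset.mem_singleton] at hi1
  have hc : ∀ i j, i ≠ j → Q (f i j) = Q (f i1 i0) := by
    intro i j hij
    obtain ⟨g, h1, h3⟩ := exists_two (by omega : 4 ≤ Fintype.card α) hij hi1
    rw [← h1, ← h3, ← h.equiv, hfix]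
  set c := Q (f i1 i0) with hcdef
  obtain ⟨i2, hi2⟩ := exists_not_mem ({i0, i1} : Finset α) (lt_of_le_of_lt Finset.card_le_two (by omega))
  simp only [Finset.mem_insert, Finset.mem_singleton, not_or] at hi2
  have hQneg : ∀ x, Q (-x) = Q x := by
    intro x
    have := hQ.smul (-1) x
    rw [neg_one_smul] at this
    rw [this]; ring
  have hac : a = c := by
    have h1 := ha ⟨i1, hi1⟩ ⟨i2, hi2.1⟩ (by intro h; exact hi2.2 (congrArg Subtype.val h).symm)
    change Q (f i1 i0 + f i2 i0) - Q (f i1 i0) - Q (f i2 i0) = a at h1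
    have h3 : f i1 i0 + f i2 i0 = f i1 i2 + (2 : F) • f i2 i0 := by
      rw [two_smul, ← h.sub i1 i2 i0]; abel
    rw [h3, h2, zero_smul, add_zero, hc _ _ (Ne.symm hi2.2), hc _ _ hi2.1] at h1
    rw [← h1, ← hcdef]
    linear_combination (-c) * h2
  -- partial sums
  have hQ0 : Q 0 = 0 := by
    have h := hQ.smul 0 0
    rw [zero_smul, zero_pow two_ne_zero, zero_mul] at h
    exact h
  have hpol : ∀ (x : ι → F) (s : Finset {i // i ≠ i0}), QuadraticMap.polar Q x (∑ i ∈ s, f i i0) =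
      ∑ i ∈ s, QuadraticMap.polar Q x (f i i0) := by
    intro x s
    induction s using Finset.induction_on with
    | empty =>
      have := hQ.polar_bilinear.smul_right 0 x 0
      rwa [zero_smul, zero_mul] at this
    | insert b s hb ih => rw [Finset.sum_insert hb, Finset.sum_insert hb, hQ.polar_bilinear.add_right, ih]
  have hsum : ∀ s : Finset {i // i ≠ i0}, Q (∑ i ∈ s, f i i0) = ((s.card + s.card.choose 2 : ℕ) : F) * c := by
    intro s
    induction s using Finset.induction_on with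
    | empty =>
      rw [Finset.sum_empty, hQ0]
      simp
    | insert b s hb ih =>
      rw [Finset.sum_insert hb]
      have h1 : Q (f b i0 + ∑ i ∈ s, f i i0) = QuadraticMap.polar Q (f b i0) (∑ i ∈ s, f i i0) + Q (f b i0) +
          Q (∑ i ∈ s, f i i0) := by
        unfold QuadraticMap.polar
        ring
      rw [h1, hpol, ih, hc _ _ b.2, Finset.sum_congr rfl fun i hi => ha b i (fun h => hb (h ▸ hi)), Finset.sum_const,
        nsmul_eq_mul, hac, Finset.card_insert_of_notMem hb]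
      have h3 : (s.card + 1).choose 2 = s.card + s.card.choose 2 := by
        rw [Nat.choose_succ_succ' s.card 1, Nat.choose_one_right]
      rw [h3]
      push_cast
      ring
  have hfinal := hsum Finset.univ
  rw [S.sum, hQ0, Finset.card_univ, Fintype.card_subtype_compl, Fintype.card_subtype_eq] at hfinal
  have hch : (Fintype.card α - 1) + (Fintype.card α - 1).choose 2 = 2 * k + 1 := by
    obtain ⟨N, hN⟩ : ∃ N, Fintype.card α = N + 1 := ⟨Fintype.card α - 1, by omega⟩
    rw [hN, Nat.add_sub_cancel] at hk ⊢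
    have h3 : (N + 1).choose 2 = N + N.choose 2 := by
      rw [Nat.choose_succ_succ' N 1, Nat.choose_one_right]
    rw [← h3, Nat.choose_two_right, Nat.add_sub_cancel, hk]
    omega
  rw [hch] at hfinal
  have hc0 : c = 0 := by
    have h3 : ((2 * k + 1 : ℕ) : F) = 1 := by
      push_cast
      rw [h2]; ring
    rw [h3, one_mul] at hfinal
    exact hfinal.symm
  -- contradiction
  have hgr : Gr (Cfsg.Agent.H887.OmegaBridge.qf Q hQ) (fun i : {i // i ≠ i0} => f i i0) a := ha
  exact a_ne S hgr (Cfsg.Agent.H887.OmegaBridge.nondeg_qf Q hQ) (hac.trans hc0)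

end Cfsg.Agent.H114.AltNat
end

-- part: H114/AltNorm
section
/-!
# Normalisers of alternating groups in natural representations (helper114)

* `exists_perm` : `h` normalises `P ≃ A_m` (`m ≠ 6`) ⟹ `h` acts on `P` like a permutation `σ`;
* `lines` : `n = m - 1`: `h v_i = c v_{σ i}`;
* `not_maximal_of_dvd` : `n = m - 1`, `p ∣ m + 1`, `p ≠ 2, 3`: `H` is not maximal in `omegaGL Q`.
-/

set_option autoImplicit false
set_option linter.unusedSectionVars false

namespace Cfsg.Agent.H114.AltNat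

open Module Equiv Equiv.Perm Cfsg.Agent.H882.Del Cfsg.Geo Matrix
open Cfsg.Agent.LieClassical.OrthCore Cfsg.Agent.LieClassical.OrthTrans Cfsg.Agent.LieClassical.OrthFinite

variable {F : Type*} [Field F] {ι : Type} [Fintype ι] [DecidableEq ι] {m : ℕ} {P : Subgroup (GL ι F)}

/-- the homomorphism to `GL` -/
def th (e : alternatingGroup (Fin m) ≃* P) : alternatingGroup (Fin m) →* GL ι F := P.subtype.comp e.toMonoidHom

theorem th_apply (e : alternatingGroup (Fin m) ≃* P) (g : alternatingGroup (Fin m)) : th e g = (e g : GL ι F) := rfl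

/-- An element normalising `P ≃ A_m` acts like a permutation. -/
theorem exists_perm (hm : 4 ≤ m) (h6 : m ≠ 6) (e : alternatingGroup (Fin m) ≃* P) {h : GL ι F}
    (hn : ∀ x ∈ P, h * x * h⁻¹ ∈ P) :
    ∃ σ : Perm (Fin m), ∀ x y : alternatingGroup (Fin m), (y : Perm (Fin m)) = σ * x * σ⁻¹ →
      h * th e x * h⁻¹ = th e y := by
  let φ : alternatingGroup (Fin m) →* alternatingGroup (Fin m) :=
    { toFun := fun x => e.symm ⟨h * (e x : GL ι F) * h⁻¹, hn _ (e x).2⟩
      map_one' := by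
        rw [← map_one e.symm]
        congr 1
        apply Subtype.ext
        simp
      map_mul' := fun x y => by
        rw [← map_mul e.symm]
        congr 1
        apply Subtype.ext
        simp }
  have hφ : ∀ x, h * th e x * h⁻¹ = th e (φ x) := by
    intro x
    change _ = ((e (e.symm ⟨h * (e x : GL ι F) * h⁻¹, hn _ (e x).2⟩) : P) : GL ι F)
    rw [e.apply_symm_apply]
    rfl
  have hinj : Function.Injective φ := by
    intro x y hxy
    have h1 : h * th e x * h⁻¹ = h * th e y * h⁻¹ := by rw [hφ, hφ, hxy]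
    have h2 : th e x = th e y := by
      have := mul_right_cancel h1
      exact mul_left_cancel this
    exact e.injective (Subtype.ext h2)
  let E : MulAut (alternatingGroup (Fin m)) := MulEquiv.ofBijective φ (Finite.injective_iff_bijective.1 hinj)
  obtain ⟨σ, hσ⟩ := (Cfsg.Agent.S2119.result m hm h6).2 E
  refine ⟨σ, fun x y hy => ?_⟩
  rw [hφ]
  congr 1
  have h1 : E x = MulAut.conjNormal σ x := by rw [hσ]
  have h2 : φ x = MulAut.conjNormal σ x := h1
  rw [h2]
  apply Subtype.ext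
  rw [MulAut.conjNormal_apply, hy]

theorem scalar_of_comm (e : alternatingGroup (Fin m) ≃* P)
    (hspan : Submodule.span F (Set.range fun g => (th e g : Matrix ι ι F)) = ⊤)
    {D : Matrix ι ι F} (hD : ∀ g, D * (th e g : Matrix ι ι F) = (th e g : Matrix ι ι F) * D) : ∃ c : F, D = c • 1 := by
  have h1 : ∀ A : Matrix ι ι F, D * A = A * D := by
    intro A
    have hA : A ∈ Submodule.span F (Set.range fun g => (th e g : Matrix ι ι F)) := by rw [hspan]; trivial
    induction hA using Submodule.span_induction with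
    | mem x hx =>
      obtain ⟨g, rfl⟩ := hx
      exact hD g
    | zero => rw [mul_zero, zero_mul]
    | add x y _ _ hx hy => rw [mul_add, add_mul, hx, hy]
    | smul c x _ hx => rw [mul_smul_comm, smul_mul_assoc, hx]
  obtain ⟨c, hc⟩ := Matrix.mem_range_scalar_of_commute_single (M := D) (fun i j _ => (h1 (Matrix.single i j 1)).symm)
  refine ⟨c, ?_⟩
  rw [← hc, Matrix.scalar_apply, ← Matrix.smul_one_eq_diagonal]

variable {f : Fin m → Fin m → ι → F}

/-- **The lines.** -/
theorem lines (hm : 4 ≤ m) (h6 : m ≠ 6) (e : alternatingGroup (Fin m) ≃* P)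
    (hspan : Submodule.span F (Set.range fun g => (th e g : Matrix ι ι F)) = ⊤)
    (hN : NatM (rep (th e)) f) (S : Sys F (NatM.vA f)) {h : GL ι F} (hn : ∀ x ∈ P, h * x * h⁻¹ ∈ P) :
    ∃ (σ : Perm (Fin m)) (c : F), ∀ i, (h : Matrix ι ι F) *ᵥ (NatM.vA f i) = c • NatM.vA f (σ i) := by
  obtain ⟨σ, hσ⟩ := exists_perm hm h6 e hn
  let M : (ι → F) ≃ₗ[F] (ι → F) := S.perm σ
  let D : (ι → F) →ₗ[F] (ι → F) := (M.symm : (ι → F) →ₗ[F] (ι → F)) ∘ₗ Matrix.toLin' (h : Matrix ι ι F)
  have hMi : ∀ i, M.symm (NatM.vA f i) = NatM.vA f (σ⁻¹ i) := by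
    intro i
    rw [LinearEquiv.symm_apply_eq]
    change _ = S.perm σ _
    rw [S.perm_apply]
    exact congrArg _ (σ.apply_symm_apply i).symm
  have hact : ∀ (x : alternatingGroup (Fin m)) i, (th e x : Matrix ι ι F) *ᵥ NatM.vA f i =
      NatM.vA f ((x : Perm (Fin m)) i) := fun x i => hN.rho_vA x i
  -- `M⁻¹ θ (σ x σ⁻¹) = θ x M⁻¹`
  have hMx : ∀ (x y : alternatingGroup (Fin m)), (y : Perm (Fin m)) = σ * x * σ⁻¹ → ∀ v,
      M.symm ((th e y : Matrix ι ι F) *ᵥ v) = (th e x : Matrix ι ι F) *ᵥ (M.symm v) := by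
    intro x y hy
    have h1 : (M.symm : (ι → F) →ₗ[F] (ι → F)) ∘ₗ Matrix.toLin' (th e y : Matrix ι ι F) =
        Matrix.toLin' (th e x : Matrix ι ι F) ∘ₗ (M.symm : (ι → F) →ₗ[F] (ι → F)) := by
      refine S.ext fun i => ?_
      change M.symm ((th e y : Matrix ι ι F) *ᵥ NatM.vA f i) = (th e x : Matrix ι ι F) *ᵥ (M.symm (NatM.vA f i))
      rw [hact, hMi, hMi, hact, hy]
      congr 1
      change σ⁻¹ (σ ((x : Perm (Fin m)) (σ⁻¹ i))) = _
      exact σ.symm_apply_apply _
    exact fun v => LinearMap.congr_fun h1 v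
  obtain ⟨c, hc⟩ := scalar_of_comm e hspan (D := LinearMap.toMatrix' D) (by
    intro x
    have hy : σ * x * σ⁻¹ ∈ alternatingGroup (Fin m) := by
      have := x.2
      rw [mem_alternatingGroup] at this ⊢
      rw [map_mul, map_mul, this, map_inv, mul_one, mul_inv_cancel]
    have h1 := hσ x ⟨_, hy⟩ rfl
    have h2 : h * th e x = th e ⟨_, hy⟩ * h := by rw [← h1]; group
    apply Matrix.toLin'.injective
    rw [Matrix.toLin'_mul, Matrix.toLin'_mul, Matrix.toLin'_toMatrix']
    refine LinearMap.ext fun v => ?_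
    change M.symm ((h : Matrix ι ι F) *ᵥ ((th e x : Matrix ι ι F) *ᵥ v)) =
      (th e x : Matrix ι ι F) *ᵥ (M.symm ((h : Matrix ι ι F) *ᵥ v))
    rw [← hMx x ⟨_, hy⟩ rfl, Matrix.mulVec_mulVec, Matrix.mulVec_mulVec, ← Units.val_mul, ← Units.val_mul, h2])
  refine ⟨σ, c, fun i => ?_⟩
  have h1 : D (NatM.vA f i) = c • NatM.vA f i := by
    have h2 : D = Matrix.toLin' (c • (1 : Matrix ι ι F)) := by rw [← hc, Matrix.toLin'_toMatrix']
    rw [h2, Matrix.toLin'_apply, Matrix.smul_mulVec, Matrix.one_mulVec]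
  have h2 : M (D (NatM.vA f i)) = (h : Matrix ι ι F) *ᵥ (NatM.vA f i) := M.apply_symm_apply _
  rw [← h2, h1, map_smul]
  change c • S.perm σ _ = _
  rw [S.perm_apply]

/-- **The kill**, `n = m - 1`, `p ∣ m + 1`, `p ≠ 2, 3`. -/
theorem not_maximal_of_dvd [Finite F] (h2 : (2 : F) ≠ 0) (h3 : (3 : F) ≠ 0) (hm : 6 < m)
    (e : alternatingGroup (Fin m) ≃* P) (hspan : Submodule.span F (Set.range fun g => (th e g : Matrix ι ι F)) = ⊤)
    (hN : NatM (rep (th e)) f) (hn : Fintype.card ι + 1 = m) (hm0 : (m : F) ≠ 0) (hm1 : (m : F) + 1 = 0)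
    {Q : (ι → F) → F} (hQ : IsNondegenerateQuadraticForm Q) {H : Subgroup (GL ι F)} (hH : IsMaximalIn (omegaGL Q) H)
    (hPH : P ≤ H) (hHP : ∀ h ∈ H, ∀ x ∈ P, h * x * h⁻¹ ∈ P) : False := by
  have hfin : finrank F (ι → F) = Fintype.card ι := finrank_fintype_fun_eq_card F
  have S : Sys F (NatM.vA f) := hN.sysA (by rw [hfin, hn, Fintype.card_fin]) (by rw [Fintype.card_fin]; exact hm0)
    (by rw [hfin]; omega)
  have hG : Good (Cfsg.Agent.H887.OmegaBridge.qf Q hQ) :=
    Cfsg.Agent.H883.Bridge.good_of_card (Cfsg.Agent.H887.OmegaBridge.nondeg_qf Q hQ) (by omega)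
  let E0 := glEquiv ι F
  have hap : ∀ (g : GL ι F) (v : ι → F), E0 g v = (g : Matrix ι ι F) *ᵥ v := fun g v => glEquiv_apply g v
  have hH' : IsMaximalIn (E (Cfsg.Agent.H887.OmegaBridge.qf Q hQ)) (H.map E0.toMonoidHom) := by
    have h := (Cfsg.Agent.H883.Bridge.isMaximalIn_map_iff E0
      (omegaGL (Cfsg.Agent.H887.OmegaBridge.qf Q hQ : (ι → F) → F)) H).2 hH
    rwa [Cfsg.Agent.H883.Bridge.map_omegaGL_eq_E hG] at h
  have hHO : ∀ h ∈ H, E0 h ∈ O (Cfsg.Agent.H887.OmegaBridge.qf Q hQ) := fun h hh => E_le_O (hH'.1.le ⟨h, hh, rfl⟩)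
  have hfix : ∀ g v, Q ((th e g : Matrix ι ι F) *ᵥ v) = Q v := by
    intro g v
    rw [← hap]
    exact hHO _ (hPH (e g).2) v
  obtain ⟨a, ha⟩ := hN.grA (by rw [Fintype.card_fin]; omega) (B := QuadraticMap.polar Q) (polar_fix' hfix)
  have hgr : Gr (Cfsg.Agent.H887.OmegaBridge.qf Q hQ) (NatM.vA f) a := ha
  have ha0 : a ≠ 0 := a_ne S hgr hG.nondeg
  refine not_maximal S hgr h2 hG h3 (by rw [Fintype.card_fin]; omega) (by rw [Fintype.card_fin]; exact hm1) hH' ?_
  rintro _ ⟨h, hh, rfl⟩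
  refine mem_SG_of_lines S hgr ha0 (by rw [Fintype.card_fin]; omega) (hHO h hh) fun i => ?_
  obtain ⟨σ, c, hc⟩ := lines (by omega) (by omega) e hspan hN S (hHP h hh)
  refine ⟨σ i, c, ?_⟩
  change E0 h _ = _
  rw [hap, hc]

end Cfsg.Agent.H114.AltNat
end
end
end
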