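import Mathlib
import Cfsg.Prelude.Def_Characters
import Cfsg.Agent.Characters.Core
import Cfsg.Agent.Characters.MonomialVec
import Cfsg.Agent.Characters.DegreeBounds
import Cfsg.Agent.Characters.Linear
import Cfsg.Agent.Characters.Central
import Cfsg.Agent.Characters.Values
set_option linter.all false

/-!
# Irreducible characters of `GL(2, q)` restricted to the unipotent group

For an irreducible character `χ` of `GL(2, q)` there are natural numbers `a, m` with
`χ 1 = a + m (q - 1)` and `χ u = a - m` for every transvection `u`; if `a ≠ 0` there is an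
eigenvector of the Borel subgroup; if `m = 0` then `χ 1 = 1`; if `a = 0` then `m ^ 2 < q + 1`.
-/

set_option autoImplicit false

open Cfsg Matrix Module

namespace Cfsg.Agent.H114.GLTwo

variable {F : Type*} [Field F]

/-- Upper unitriangular matrices. -/
def up (b : F) : GL (Fin 2) F :=
  ⟨!![1, b; 0, 1], !![1, -b; 0, 1], by simp [Matrix.one_fin_two], by simp [Matrix.one_fin_two]⟩

/-- Lower unitriangular matrices. -/
def lo (b : F) : GL (Fin 2) F :=
  ⟨!![1, 0; b, 1], !![1, 0; -b, 1], by simp [Matrix.one_fin_two], by simp [Matrix.one_fin_two]⟩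

/-- Diagonal matrices. -/
def dg (a d : Fˣ) : GL (Fin 2) F :=
  ⟨!![(a : F), 0; 0, (d : F)], !![((a⁻¹ : Fˣ) : F), 0; 0, ((d⁻¹ : Fˣ) : F)],
    by simp [Matrix.one_fin_two], by simp [Matrix.one_fin_two]⟩

/-- The Weyl element. -/
def we : GL (Fin 2) F :=
  ⟨!![0, 1; 1, 0], !![0, 1; 1, 0], by simp [Matrix.one_fin_two], by simp [Matrix.one_fin_two]⟩

theorem up_val (b : F) : (up b : Matrix (Fin 2) (Fin 2) F) = !![1, b; 0, 1] := rfl
theorem lo_val (b : F) : (lo b : Matrix (Fin 2) (Fin 2) F) = !![1, 0; b, 1] := rfl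
theorem dg_val (a d : Fˣ) : (dg a d : Matrix (Fin 2) (Fin 2) F) = !![(a : F), 0; 0, (d : F)] := rfl
theorem we_val : ((we : GL (Fin 2) F) : Matrix (Fin 2) (Fin 2) F) = !![0, 1; 1, 0] := rfl

theorem up_zero : up (0 : F) = 1 := by
  ext i j
  fin_cases i <;> fin_cases j <;> simp [up_val]

theorem up_add (a b : F) : up (a + b) = up a * up b := by
  ext i j
  fin_cases i <;> fin_cases j <;> simp [up_val, Matrix.mul_apply, Fin.sum_univ_two, add_comm]

theorem dg_conj_up (a d : Fˣ) (b : F) :
    dg a d * up b * (dg a d)⁻¹ = up ((a : F) * b * ((d⁻¹ : Fˣ) : F)) := by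
  rw [mul_inv_eq_iff_eq_mul]
  ext i j
  fin_cases i <;> fin_cases j <;> simp [up_val, dg_val, Matrix.mul_apply, Fin.sum_univ_two]

theorem we_conj_up (b : F) : we * up b * (we : GL (Fin 2) F)⁻¹ = lo b := by
  rw [mul_inv_eq_iff_eq_mul]
  ext i j
  fin_cases i <;> fin_cases j <;> simp [up_val, lo_val, we_val, Matrix.mul_apply, Fin.sum_univ_two]

/-- The unipotent group as a homomorphism. -/
def upHom : Multiplicative F →* GL (Fin 2) F where
  toFun b := up (Multiplicative.toAdd b)
  map_one' := by rw [toAdd_one, up_zero]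
  map_mul' a b := by rw [toAdd_mul, up_add]

theorem upHom_apply (b : F) : upHom (Multiplicative.ofAdd b) = up b := rfl

/-- The Borel subgroup. -/
def bor (F : Type*) [Field F] : Subgroup (GL (Fin 2) F) where
  carrier := {g | (g : Matrix (Fin 2) (Fin 2) F) 1 0 = 0}
  mul_mem' := by
    intro a b ha hb
    simp only [Set.mem_ofPred_eq] at *
    simp [Matrix.mul_apply, Fin.sum_univ_two, ha, hb]
  one_mem' := by simp
  inv_mem' := by
    intro a ha
    simp only [Set.mem_ofPred_eq] at *
    rw [Matrix.coe_units_inv, Matrix.inv_def, Matrix.adjugate_fin_two]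
    simp [ha]

theorem mem_bor {g : GL (Fin 2) F} : g ∈ bor F ↔ (g : Matrix (Fin 2) (Fin 2) F) 1 0 = 0 := Iff.rfl

theorem det_ne (g : GL (Fin 2) F) : (g : Matrix (Fin 2) (Fin 2) F) 0 0 * (g : Matrix (Fin 2) (Fin 2) F) 1 1 -
    (g : Matrix (Fin 2) (Fin 2) F) 0 1 * (g : Matrix (Fin 2) (Fin 2) F) 1 0 ≠ 0 := by
  rw [← Matrix.det_fin_two]
  exact (Matrix.isUnit_iff_isUnit_det _).1 g.isUnit |>.ne_zero

/-- An element of the Borel subgroup is `dg * up`. -/
theorem exists_of_mem_bor {g : GL (Fin 2) F} (hg : g ∈ bor F) : ∃ (a d : Fˣ) (b : F), g = dg a d * up b := by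
  have h0 := mem_bor.1 hg
  have hd := det_ne g
  rw [h0, mul_zero, sub_zero] at hd
  have ha : (g : Matrix (Fin 2) (Fin 2) F) 0 0 ≠ 0 := left_ne_zero_of_mul hd
  have hdd : (g : Matrix (Fin 2) (Fin 2) F) 1 1 ≠ 0 := right_ne_zero_of_mul hd
  refine ⟨Units.mk0 _ ha, Units.mk0 _ hdd, ((g : Matrix (Fin 2) (Fin 2) F) 0 0)⁻¹ * (g : Matrix (Fin 2) (Fin 2) F) 0 1, ?_⟩
  ext i j
  fin_cases i <;> fin_cases j <;>
    simp [up_val, dg_val, Matrix.mul_apply, Fin.sum_univ_two, h0, ha]

/-- The index of the Borel subgroup. -/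
theorem index_bor_le [Fintype F] : (bor F).index ≤ Fintype.card F + 1 := by
  classical
  have h : Function.Surjective (fun x : Option F => ((match x with
    | none => we
    | some c => lo c : GL (Fin 2) F) : GL (Fin 2) F ⧸ bor F)) := by
    intro y
    obtain ⟨g, rfl⟩ := QuotientGroup.mk_surjective y
    by_cases h0 : (g : Matrix (Fin 2) (Fin 2) F) 0 0 = 0
    · refine ⟨none, ?_⟩
      change ((we : GL (Fin 2) F) : GL (Fin 2) F ⧸ bor F) = _
      rw [QuotientGroup.eq, mem_bor]
      have : (we : GL (Fin 2) F)⁻¹ = we := by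
        rw [inv_eq_iff_mul_eq_one]
        ext i j
        fin_cases i <;> fin_cases j <;> simp [we_val]
      rw [this]
      simp [we_val, Matrix.mul_apply, Fin.sum_univ_two, h0]
    · refine ⟨some ((g : Matrix (Fin 2) (Fin 2) F) 1 0 / (g : Matrix (Fin 2) (Fin 2) F) 0 0), ?_⟩
      change ((lo ((g : Matrix (Fin 2) (Fin 2) F) 1 0 / (g : Matrix (Fin 2) (Fin 2) F) 0 0) : GL (Fin 2) F) :
        GL (Fin 2) F ⧸ bor F) = _
      rw [QuotientGroup.eq, mem_bor]
      have : (lo ((g : Matrix (Fin 2) (Fin 2) F) 1 0 / (g : Matrix (Fin 2) (Fin 2) F) 0 0) : GL (Fin 2) F)⁻¹ =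
          lo (-((g : Matrix (Fin 2) (Fin 2) F) 1 0 / (g : Matrix (Fin 2) (Fin 2) F) 0 0)) := by
        rw [inv_eq_iff_mul_eq_one]
        ext i j
        fin_cases i <;> fin_cases j <;> simp [lo_val]
      rw [this]
      simp [lo_val, Matrix.mul_apply, Fin.sum_univ_two]
      field_simp
      ring
  have h2 := Nat.card_le_card_of_surjective _ h
  rw [Subgroup.index]
  refine h2.trans ?_
  rw [Nat.card_eq_fintype_card, Fintype.card_option]

/-- An element of determinant one is a product of transvections. -/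
theorem mem_of_det_one (N : Subgroup (GL (Fin 2) F)) (hu : ∀ b, up b ∈ N) (hl : ∀ b, lo b ∈ N)
    (g : GL (Fin 2) F) (hg : (g : Matrix (Fin 2) (Fin 2) F).det = 1) : g ∈ N := by
  have key : ∀ g : GL (Fin 2) F, (g : Matrix (Fin 2) (Fin 2) F).det = 1 →
      (g : Matrix (Fin 2) (Fin 2) F) 1 0 ≠ 0 → g ∈ N := by
    intro g hg hc
    rw [Matrix.det_fin_two] at hg
    have : g = up (((g : Matrix (Fin 2) (Fin 2) F) 0 0 - 1) / (g : Matrix (Fin 2) (Fin 2) F) 1 0) *
        lo ((g : Matrix (Fin 2) (Fin 2) F) 1 0) *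
        up (((g : Matrix (Fin 2) (Fin 2) F) 1 1 - 1) / (g : Matrix (Fin 2) (Fin 2) F) 1 0) := by
      ext i j
      fin_cases i <;> fin_cases j
      · simp [up_val, lo_val, Matrix.mul_apply, Fin.sum_univ_two]
        field_simp
        ring
      · simp [up_val, lo_val, Matrix.mul_apply, Fin.sum_univ_two]
        field_simp
        linear_combination -hg
      · simp [up_val, lo_val, Matrix.mul_apply, Fin.sum_univ_two]
      · simp [up_val, lo_val, Matrix.mul_apply, Fin.sum_univ_two]
        field_simp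
        ring
    rw [this]
    exact N.mul_mem (N.mul_mem (hu _) (hl _)) (hu _)
  by_cases hc : (g : Matrix (Fin 2) (Fin 2) F) 1 0 = 0
  · have h0 : (g : Matrix (Fin 2) (Fin 2) F) 0 0 ≠ 0 := by
      intro h
      have := det_ne g
      rw [h, hc] at this
      simp at this
    have h1 : lo 1 * g ∈ N := by
      apply key
      · rw [Units.val_mul, Matrix.det_mul, hg, lo_val, Matrix.det_fin_two]
        simp
      · simp [lo_val, Matrix.mul_apply, Fin.sum_univ_two, hc, h0]
    exact (N.mul_mem_cancel_left (hl 1)).1 h1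
  · exact key g hg hc

/-! ### Characters -/

open Cfsg.Agent.Characters

theorem char_up {χ : GL (Fin 2) F → ℂ} (hχ : IsClassFunction (GL (Fin 2) F) χ) {b : F} (hb : b ≠ 0) :
    χ (up b) = χ (up 1) := by
  have := hχ (up 1) (dg (Units.mk0 b hb) 1)
  rw [dg_conj_up] at this
  simpa using this

variable [Fintype F]

theorem sum_up {χ : GL (Fin 2) F → ℂ} (hχ : IsClassFunction (GL (Fin 2) F) χ) (f : F → ℂ) :
    ∑ b : F, χ (up b) * f b = (χ 1 - χ (up 1)) * f 0 + χ (up 1) * ∑ b : F, f b := by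
  classical
  rw [Finset.mul_sum, ← Finset.add_sum_erase _ _ (Finset.mem_univ (0 : F)),
    ← Finset.add_sum_erase _ (fun b => χ (up 1) * f b) (Finset.mem_univ (0 : F)), up_zero]
  have : ∀ b ∈ Finset.univ.erase (0 : F), χ (up b) * f b = χ (up 1) * f b := by
    intro b hb
    rw [char_up hχ (Finset.ne_of_mem_erase hb)]
  rw [Finset.sum_congr rfl this]
  ring

theorem card_ne : (Fintype.card F : ℂ) ≠ 0 := Nat.cast_ne_zero.2 Fintype.card_ne_zero

theorem exists_nums {χ : GL (Fin 2) F → ℂ} (hχ : IsCharacter (GL (Fin 2) F) χ) :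
    ∃ a m : ℕ, χ 1 = a + m * ((Fintype.card F : ℂ) - 1) ∧ χ (up 1) = (a : ℂ) - m ∧
      ∑ b : F, χ (up b) = Fintype.card F * a := by
  classical
  have hcl := Core.isCharacter_isClassFunction hχ
  have hU : IsCharacter (Multiplicative F) (fun b => χ (upHom b)) := Core.isCharacter_comp upHom hχ
  obtain ⟨a, ha⟩ := Core.classInner_isNat hU Core.isCharacter_one
  obtain ⟨ψ, hψ⟩ : ∃ ψ : AddChar F ℂ, ψ ≠ 1 := by
    obtain ⟨ψ, h⟩ := (AddChar.exists_apply_ne_zero (α := F) (a := 1)).2 one_ne_zero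
    exact ⟨ψ, fun h' => h (by rw [h']; simp)⟩
  have hψc : IsCharacter (Multiplicative F) (fun b => ψ (Multiplicative.toAdd b)) := by
    have := Linear.isCharacter_hom (G := Multiplicative F) (MonoidHom.toHomUnits ψ.toMonoidHom)
    exact this
  obtain ⟨m, hm⟩ := Core.classInner_isNat hU hψc
  rw [Core.classInner_def] at ha hm
  have hcard : Nat.card (Multiplicative F) = Fintype.card F := by
    rw [Nat.card_eq_fintype_card, Fintype.card_multiplicative]
  rw [hcard] at ha hm
  have e1 : ∑ b : Multiplicative F, χ (upHom b) * (starRingEnd ℂ) ((1 : Multiplicative F → ℂ) b) =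
      ∑ b : F, χ (up b) * 1 := by
    rw [← Equiv.sum_comp Multiplicative.ofAdd]
    refine Finset.sum_congr rfl fun b _ => ?_
    simp [upHom_apply]
  have e2 : ∑ b : Multiplicative F, χ (upHom b) * (starRingEnd ℂ) (ψ (Multiplicative.toAdd b)) =
      ∑ b : F, χ (up b) * (starRingEnd ℂ) (ψ b) := by
    rw [← Equiv.sum_comp Multiplicative.ofAdd]
    refine Finset.sum_congr rfl fun b _ => ?_
    simp [upHom_apply]
  have hs : ∑ b : F, (starRingEnd ℂ) (ψ b) = 0 := by
    rw [← map_sum, AddChar.sum_eq_zero_iff_ne_zero.2 hψ, map_zero]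
  rw [e1, sum_up hcl] at ha
  rw [e2, sum_up hcl, hs] at hm
  have hq := card_ne (F := F)
  rw [inv_mul_eq_iff_eq_mul₀ hq] at ha hm
  simp only [mul_one, Finset.sum_const, Finset.card_univ, nsmul_eq_mul, AddChar.map_zero_eq_one, map_one,
    mul_zero, add_zero] at ha hm
  refine ⟨a, m, ?_, ?_, ?_⟩
  · have : (Fintype.card F : ℂ) * χ 1 = Fintype.card F * (a + m * ((Fintype.card F : ℂ) - 1)) := by
      linear_combination ha + (Fintype.card F - 1 : ℂ) * hm
    exact mul_left_cancel₀ hq this
  · have : (Fintype.card F : ℂ) * χ (up 1) = Fintype.card F * (a - m) := by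
      linear_combination ha - hm
    exact mul_left_cancel₀ hq this
  · have := sum_up hcl (fun _ => 1)
    simp only [mul_one, Finset.sum_const, Finset.card_univ, nsmul_eq_mul] at this
    rw [this]
    linear_combination ha

variable {V : Type*} [AddCommGroup V] [Module ℂ V] [FiniteDimensional ℂ V]
  (ρ : Representation ℂ (GL (Fin 2) F) V)

/-- The vectors fixed by the unipotent group. -/
def fix : Submodule ℂ V where
  carrier := {v | ∀ b : F, ρ (up b) v = v}
  add_mem' := by
    intro v w hv hw b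
    rw [map_add, hv b, hw b]
  zero_mem' := by
    intro b
    rw [map_zero]
  smul_mem' := by
    intro c v hv b
    rw [map_smul, hv b]

omit [Fintype F] [FiniteDimensional ℂ V] in
theorem mem_fix {v : V} : v ∈ fix ρ ↔ ∀ b : F, ρ (up b) v = v := Iff.rfl

omit [FiniteDimensional ℂ V] in
theorem sum_mem_fix (v : V) : (∑ b : F, ρ (up b)) v ∈ fix ρ := by
  intro c
  rw [LinearMap.sum_apply, map_sum]
  rw [← Equiv.sum_comp (Equiv.addLeft c) (fun b => (ρ (up b)) v)]
  refine Finset.sum_congr rfl fun b _ => ?_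
  rw [Equiv.coe_addLeft, up_add, map_mul, Module.End.mul_apply]

omit [Fintype F] in
/-- A Borel eigenvector. -/
theorem exists_eigen (h : fix ρ ≠ ⊥) : ∃ (lam : bor F →* ℂˣ) (v : V), v ≠ 0 ∧ (∀ b : F, ρ (up b) v = v) ∧
    ∀ h : bor F, ρ h v = (lam h : ℂ) • v := by
  have hcomm : ∀ i j : Fˣ × Fˣ, ρ (dg i.1 i.2) * ρ (dg j.1 j.2) = ρ (dg j.1 j.2) * ρ (dg i.1 i.2) := by
    intro i j
    rw [← map_mul, ← map_mul]
    congr 1
    ext k l
    fin_cases k <;> fin_cases l <;> simp [dg_val, mul_comm]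
  obtain ⟨v, hvW, hv0, hv⟩ := DegreeBounds.exists_common_eigenvector
    (fun i : Fˣ × Fˣ => ρ (dg i.1 i.2)) hcomm (fix ρ) h (by
      intro i w hw b
      have h1 : up b * dg i.1 i.2 = dg i.1 i.2 * up (((i.1⁻¹ : Fˣ) : F) * b * i.2) := by
        have h2 := dg_conj_up i.1 i.2 (((i.1⁻¹ : Fˣ) : F) * b * i.2)
        rw [mul_inv_eq_iff_eq_mul] at h2
        rw [h2]
        congr 2
        simp [mul_assoc]
      rw [← Module.End.mul_apply, ← map_mul, h1, map_mul, Module.End.mul_apply, hw])
  have hB : ∀ g ∈ bor F, ∃ c : ℂ, ρ g v = c • v := by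
    intro g hg
    obtain ⟨a, d, b, rfl⟩ := exists_of_mem_bor hg
    obtain ⟨c, hc⟩ := hv (a, d)
    refine ⟨c, ?_⟩
    rw [map_mul, Module.End.mul_apply, hvW b]
    exact hc
  obtain ⟨lam, hlam⟩ := MonomialVec.exists_hom_of_eigenvector ρ (bor F) hv0 hB
  exact ⟨lam, v, hv0, hvW, hlam⟩

/-- If `a = 0`, the sum over the unipotent group acts as zero. -/
theorem sum_eq_zero (h : ∑ b : F, ρ.character (up b) = 0) : ∑ b : F, ρ (up b) = 0 := by
  have hq := card_ne (F := F)
  have hid : IsIdempotentElem (((Fintype.card F : ℂ)⁻¹) • ∑ b : F, ρ (up b)) := by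
    rw [IsIdempotentElem, smul_mul_smul_comm, Finset.sum_mul]
    have : ∀ b ∈ (Finset.univ : Finset F), ρ (up b) * ∑ c : F, ρ (up c) = ∑ c : F, ρ (up c) := by
      intro b _
      rw [Finset.mul_sum, ← Equiv.sum_comp (Equiv.addLeft b) (fun c => ρ (up c))]
      refine Finset.sum_congr rfl fun c _ => ?_
      rw [Equiv.coe_addLeft, up_add, map_mul]
    rw [Finset.sum_congr rfl this, Finset.sum_const, Finset.card_univ, ← Nat.cast_smul_eq_nsmul ℂ, smul_smul]
    congr 1
    field_simp
  have htr : LinearMap.trace ℂ V (((Fintype.card F : ℂ)⁻¹) • ∑ b : F, ρ (up b)) = 0 := by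
    rw [map_smul, map_sum]
    have : ∑ b : F, LinearMap.trace ℂ V (ρ (up b)) = 0 := h
    rw [this, smul_zero]
  have h0 := (LinearMap.IsIdempotentElem.trace_eq_zero_iff hid).1 htr
  rcases smul_eq_zero.1 h0 with h1 | h1
  · exact absurd h1 (inv_ne_zero hq)
  · exact h1

omit [FiniteDimensional ℂ V] in
/-- If `a ≠ 0`, there is a nonzero fixed vector. -/
theorem fix_ne_bot (h : ∑ b : F, ρ.character (up b) ≠ 0) : fix ρ ≠ ⊥ := by
  intro hb
  apply h
  have h0 : ∑ b : F, ρ (up b) = 0 := by
    refine LinearMap.ext fun v => ?_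
    have := sum_mem_fix ρ v
    rw [hb, Submodule.mem_bot] at this
    rw [this, LinearMap.zero_apply]
  have h1 : LinearMap.trace ℂ V (∑ b : F, ρ (up b)) = 0 := by rw [h0, map_zero]
  rw [map_sum] at h1
  exact h1

/-- If the transvections act trivially, the degree is one. -/
theorem degree_one (hρ : ρ.IsIrreducible) (h : ρ.character (up 1) = ρ.character 1) :
    ρ.character 1 = 1 := by
  classical
  have h1 : ρ (up 1) = 1 := by
    rw [Representation.char_one] at h
    exact (Values.character_eq_finrank_iff ρ (up 1)).1 h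
  have hconj : ∀ (x g : GL (Fin 2) F), ρ g = 1 → ρ (x * g * x⁻¹) = 1 := by
    intro x g hg
    rw [map_mul, map_mul, hg, mul_one, ← map_mul, mul_inv_cancel, map_one]
  have hu : ∀ b : F, ρ (up b) = 1 := by
    intro b
    by_cases hb : b = 0
    · rw [hb, up_zero, map_one]
    · have := hconj (dg (Units.mk0 b hb) 1) _ h1
      rw [dg_conj_up] at this
      simpa using this
  have hl : ∀ b : F, ρ (lo b) = 1 := by
    intro b
    have := hconj we _ (hu b)
    rwa [we_conj_up] at this
  have hN : ∀ g : GL (Fin 2) F, (g : Matrix (Fin 2) (Fin 2) F).det = 1 → ρ g = 1 := by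
    intro g hg
    exact MonoidHom.mem_ker.1 (mem_of_det_one (MonoidHom.ker ρ) (fun b => MonoidHom.mem_ker.2 (hu b))
      (fun b => MonoidHom.mem_ker.2 (hl b)) g hg)
  have hcomm : ∀ g h : GL (Fin 2) F, ρ g * ρ h = ρ h * ρ g := by
    intro g h
    have h2 : ρ (g * h * (h * g)⁻¹) = 1 := by
      apply hN
      rw [Units.val_mul, Matrix.det_mul, Units.val_mul, Matrix.det_mul, Matrix.coe_units_inv, Matrix.det_nonsing_inv,
        Units.val_mul, Matrix.det_mul, Ring.inverse_eq_inv', mul_comm (det _) (det (g : Matrix (Fin 2) (Fin 2) F))]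
      apply mul_inv_cancel₀
      exact mul_ne_zero ((Matrix.isUnit_iff_isUnit_det _).1 g.isUnit).ne_zero
        ((Matrix.isUnit_iff_isUnit_det _).1 h.isUnit).ne_zero
    calc ρ g * ρ h = ρ (g * h * (h * g)⁻¹ * (h * g)) := by rw [inv_mul_cancel_right, map_mul]
      _ = ρ h * ρ g := by rw [map_mul, h2, one_mul, map_mul]
  have hpos := Central.finrank_pos_of_irr ρ hρ
  have : Nontrivial V := Module.nontrivial_of_finrank_pos hpos
  obtain ⟨v, -, hv0, hv⟩ := DegreeBounds.exists_common_eigenvector (fun g => ρ g) hcomm ⊤ top_ne_bot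
    (fun _ _ _ => Submodule.mem_top)
  obtain ⟨lam, hlam⟩ := MonomialVec.exists_hom_of_eigenvector ρ ⊤ hv0 (fun g _ => hv g)
  rw [MonomialVec.character_eq_indFun ρ hρ ⊤ lam hv0 hlam (by rw [Subgroup.index_top]; exact hpos)]
  rw [Core.indFun_apply]
  have h3 : ∀ x : GL (Fin 2) F, extendByZero (⊤ : Subgroup (GL (Fin 2) F)) (fun h => ((lam h : ℂˣ) : ℂ)) (x⁻¹ * 1 * x) = 1 := by
    intro x
    rw [mul_one, inv_mul_cancel, MonomialVec.extendByZero_mem _ _ (Subgroup.mem_top 1)]
    have : (⟨1, Subgroup.mem_top 1⟩ : (⊤ : Subgroup (GL (Fin 2) F))) = 1 := rfl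
    rw [this, map_one, Units.val_one]
  simp only [h3]
  rw [Finset.sum_const, Finset.card_univ, nsmul_eq_mul, mul_one, Nat.card_congr Subgroup.topEquiv.toEquiv,
    Nat.card_eq_fintype_card]
  apply inv_mul_cancel₀
  exact Nat.cast_ne_zero.2 Fintype.card_ne_zero

/-- If there are no fixed vectors of the unipotent group, then `m ^ 2 < q + 1`. -/
theorem sq_lt (hρ : ρ.IsIrreducible) {m : ℕ} (h1 : ρ.character 1 = m * ((Fintype.card F : ℂ) - 1))
    (h2 : ρ.character (up 1) = -(m : ℂ)) : m ^ 2 < Fintype.card F + 1 := by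
  classical
  have hcl : IsClassFunction (GL (Fin 2) F) ρ.character := fun g h => Representation.char_conj ρ g h
  have hirr : IsIrrCharacter (GL (Fin 2) F) ρ.character := Core.isIrrCharacter_of_rep ρ hρ
  have hself := Core.classInner_irr_self hirr
  rw [Core.classInner_self_eq_ofReal] at hself
  have hself' : (Nat.card (GL (Fin 2) F) : ℝ)⁻¹ * ∑ g : GL (Fin 2) F, Complex.normSq (ρ.character g) = 1 := by
    exact_mod_cast hself
  have hGpos : (Nat.card (GL (Fin 2) F) : ℝ) ≠ 0 := Nat.cast_ne_zero.2 Nat.card_pos.ne'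
  rw [inv_mul_eq_iff_eq_mul₀ hGpos, mul_one] at hself'
  -- the scalars
  have hscal : ∀ (z : Fˣ) (x : GL (Fin 2) F), Complex.normSq (ρ.character (dg z z * x)) =
      Complex.normSq (ρ.character x) := by
    intro z x
    obtain ⟨c, hc⟩ := Central.exists_smul_of_comm ρ hρ (ρ (dg z z)) (by
      intro g
      rw [← map_mul, ← map_mul]
      congr 1
      ext i j
      fin_cases i <;> fin_cases j <;> simp [dg_val, Matrix.mul_apply, Fin.sum_univ_two, mul_comm])
    have hcn : ‖c‖ = 1 := by
      have hpos := Central.finrank_pos_of_irr ρ hρ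
      have h3 := Values.rep_pow_card ρ (dg z z)
      rw [hc, smul_pow, one_pow] at h3
      have : Nontrivial V := Module.nontrivial_of_finrank_pos hpos
      have h4 : c ^ Nat.card (GL (Fin 2) F) = 1 := by
        have h5 : (c ^ Nat.card (GL (Fin 2) F)) • (1 : Module.End ℂ V) = (1 : ℂ) • (1 : Module.End ℂ V) := by
          rw [h3, one_smul]
        exact smul_left_injective ℂ (one_ne_zero (α := Module.End ℂ V)) h5
      exact Complex.norm_eq_one_of_pow_eq_one h4 Nat.card_pos.ne'
    have h6 : ρ.character (dg z z * x) = c * ρ.character x := by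
      change LinearMap.trace ℂ V (ρ (dg z z * x)) = c * LinearMap.trace ℂ V (ρ x)
      rw [map_mul, hc, smul_mul_assoc, one_mul, map_smul, smul_eq_mul]
    rw [h6, Complex.normSq_mul, Complex.normSq_eq_norm_sq c, hcn, one_pow, one_mul]
  have hlo : ρ.character (lo 1) = ρ.character (up 1) := by
    rw [← we_conj_up, hcl]
  -- the injection
  let e : Option (Fˣ × F) → GL (Fin 2) F := fun x => match x with
    | none => lo 1
    | some p => dg p.1 p.1 * up p.2
  have he : Function.Injective e := by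
    intro x y hxy
    match x, y, hxy with
    | none, none, _ => rfl
    | none, some p, h =>
      exfalso
      have := congrArg (fun g : GL (Fin 2) F => (g : Matrix (Fin 2) (Fin 2) F) 1 0) h
      simp [e, lo_val, dg_val, up_val, Matrix.mul_apply, Fin.sum_univ_two] at this
    | some p, none, h =>
      exfalso
      have := congrArg (fun g : GL (Fin 2) F => (g : Matrix (Fin 2) (Fin 2) F) 1 0) h
      simp [e, lo_val, dg_val, up_val, Matrix.mul_apply, Fin.sum_univ_two] at this
    | some p, some r, h =>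
      have h3 := congrArg (fun g : GL (Fin 2) F => (g : Matrix (Fin 2) (Fin 2) F) 0 0) h
      have h4 := congrArg (fun g : GL (Fin 2) F => (g : Matrix (Fin 2) (Fin 2) F) 0 1) h
      simp [e, dg_val, up_val, Matrix.mul_apply, Fin.sum_univ_two] at h3 h4
      have h5 : p.1 = r.1 := Units.ext h3
      rw [h5] at h4
      have h6 : p.2 = r.2 := by simpa using h4
      rw [show p = r from Prod.ext h5 h6]
  have hle : ∑ x : Option (Fˣ × F), Complex.normSq (ρ.character (e x)) ≤
      ∑ g : GL (Fin 2) F, Complex.normSq (ρ.character g) := by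
    have h3 := Finset.sum_map Finset.univ ⟨e, he⟩ (fun g => Complex.normSq (ρ.character g))
    exact h3.symm.trans_le (Finset.sum_le_univ_sum_of_nonneg (fun g => Complex.normSq_nonneg _))
  rw [hself', Fintype.sum_option, Fintype.sum_prod_type] at hle
  have h7 : ∀ z : Fˣ, ∑ b : F, Complex.normSq (ρ.character (e (some (z, b)))) =
      (m * ((Fintype.card F : ℝ) - 1)) ^ 2 + ((Fintype.card F : ℝ) - 1) * (m : ℝ) ^ 2 := by
    intro z
    have h8 : ∀ b : F, Complex.normSq (ρ.character (e (some (z, b)))) = Complex.normSq (ρ.character (up b)) :=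
      fun b => hscal z (up b)
    simp only [h8]
    rw [← Finset.add_sum_erase _ _ (Finset.mem_univ (0 : F)), up_zero, h1]
    have h9 : ∀ b ∈ Finset.univ.erase (0 : F), Complex.normSq (ρ.character (up b)) = (m : ℝ) ^ 2 := by
      intro b hb
      rw [char_up hcl (Finset.ne_of_mem_erase hb), h2, Complex.normSq_neg, Complex.normSq_natCast, sq]
    rw [Finset.sum_congr rfl h9, Finset.sum_const, Finset.card_erase_of_mem (Finset.mem_univ _),
      Finset.card_univ, nsmul_eq_mul, Nat.cast_sub Fintype.card_pos, Nat.cast_one]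
    congr 1
    have : (m : ℂ) * ((Fintype.card F : ℂ) - 1) = ((m * ((Fintype.card F : ℝ) - 1) : ℝ) : ℂ) := by
      push_cast
      rfl
    rw [this, Complex.normSq_ofReal, sq]
  simp only [h7] at hle
  rw [Finset.sum_const, Finset.card_univ, Fintype.card_units, nsmul_eq_mul, Nat.cast_sub Fintype.card_pos,
    Nat.cast_one] at hle
  have h10 : Complex.normSq (ρ.character (e none)) = (m : ℝ) ^ 2 := by
    change Complex.normSq (ρ.character (lo 1)) = _
    rw [hlo, h2, Complex.normSq_neg, Complex.normSq_natCast, sq]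
  rw [h10, Matrix.card_GL_field, Fin.prod_univ_two] at hle
  simp only [Fin.val_zero, pow_zero, Fin.val_one, pow_one] at hle
  have hq2 : 2 ≤ Fintype.card F := Fintype.one_lt_card
  have hqR : (2 : ℝ) ≤ Fintype.card F := by exact_mod_cast hq2
  have h11 : 1 ≤ Fintype.card F ^ 2 := Nat.one_le_pow _ _ Fintype.card_pos
  have h12 : Fintype.card F ≤ Fintype.card F ^ 2 := Nat.le_self_pow two_ne_zero _
  rw [Nat.cast_mul, Nat.cast_sub h11, Nat.cast_sub h12] at hle
  push_cast at hle
  by_contra hcon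
  push Not at hcon
  have hcon' : (Fintype.card F : ℝ) + 1 ≤ (m : ℝ) ^ 2 := by exact_mod_cast hcon
  have h13 : (0 : ℝ) ≤ ((Fintype.card F : ℝ) - 1) ^ 2 * Fintype.card F := by positivity
  nlinarith [mul_le_mul_of_nonneg_left hcon' h13]

end Cfsg.Agent.H114.GLTwo
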